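import Groth.Agent.SpQC61.Amitsur
import Groth.Agent.SpPts86.EtPushImage
import Groth.Agent.SpPts86.EtStalk
import Mathlib.AlgebraicGeometry.Morphisms.Etale
import Mathlib.AlgebraicGeometry.Morphisms.Flat
import Mathlib.Algebra.Category.Ring.Constructions
import Groth.Prelude.Def_AlgSpModX

/-!
Affine objects of the small etale site: rings of functions, coverings and fibre products.
-/

set_option autoImplicit false
set_option linter.style.haveILetI false
set_option backward.isDefEq.respectTransparency false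

universe u

open CategoryTheory CategoryTheory.Limits AlgebraicGeometry Opposite
open AlgSp

namespace Groth.Agent.SpQC61

variable {S : Scheme.{u}} {X : Sp S}

/-- Affine objects. -/
abbrev Aff (E : EtOver X) : Prop := IsAffine E.obj.left.left

/-- Functions on an object. -/
abbrev Γt (E : EtOver X) : Type u := Γ(E.obj.left.left, ⊤)

/-- Pullback of functions. -/
noncomputable abbrev cmap {E' E : EtOver X} (g : E' ⟶ E) : Γt E →+* Γt E' :=
  g.hom.left.left.appTop.hom

theorem cmap_comp {E'' E' E : EtOver X} (g' : E'' ⟶ E') (g : E' ⟶ E) :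
    cmap (g' ≫ g) = (cmap g').comp (cmap g) := by
  show (g'.hom.left.left ≫ g.hom.left.left).appTop.hom = _
  rw [Scheme.Hom.comp_appTop]
  rfl

theorem cmap_id (E : EtOver X) : cmap (𝟙 E) = RingHom.id _ := by
  show (𝟙 E.obj.left.left : E.obj.left.left ⟶ _).appTop.hom = _
  rw [Scheme.Hom.id_appTop]
  rfl

theorem flat_cmap {E' E : EtOver X} (g : E' ⟶ E) [Aff E'] [Aff E] : (cmap g).Flat := by
  haveI := EtOver.etale_left g
  haveI : Flat g.hom.left.left := inferInstance
  exact HasRingHomProperty.appTop @Flat _ inferInstance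

theorem exists_prime_preimage {E : EtOver X} [Aff E] {ι : Type*} {V : ι → EtOver X} (g : ∀ k, V k ⟶ E)
    [∀ k, Aff (V k)] (hsurj : ∀ x : ↥E.obj.left.left, ∃ k, x ∈ Set.range (g k).hom.left.left)
    (p : PrimeSpectrum (Γt E)) : ∃ k, p ∈ Set.range (PrimeSpectrum.comap (cmap (g k))) := by
  obtain ⟨k, v, hv⟩ := hsurj (E.obj.left.left.isoSpec.inv p)
  refine ⟨k, (V k).obj.left.left.isoSpec.hom v, ?_⟩
  show (Spec.map (g k).hom.left.left.appTop) _ = p
  rw [← Scheme.Hom.comp_apply, Scheme.isoSpec_hom_naturality, Scheme.Hom.comp_apply, hv,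
    ← Scheme.Hom.comp_apply, Iso.inv_hom_id]
  rfl

/-- An open subscheme of an object. -/
noncomputable def openObj (W : EtOver X) (U : W.obj.left.left.Opens) : EtOver X :=
  EtOver.mk ((yon S).map (Over.homMk U.ι rfl : Over.mk (U.ι ≫ W.obj.left.hom) ⟶ W.obj.left) ≫ W.obj.hom)
    (by
      haveI : Etale (Over.homMk U.ι rfl : Over.mk (U.ι ≫ W.obj.left.hom) ⟶ W.obj.left).left :=
        (inferInstance : Etale U.ι)
      exact SpPts86.repWith_etale_comp _ W.property)

/-- Its inclusion. -/
noncomputable def openObjι (W : EtOver X) (U : W.obj.left.left.Opens) : openObj W U ⟶ W :=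
  EtOver.homMk (Over.homMk U.ι rfl) rfl

/-- A covering sieve of an affine object contains a finite jointly surjective family of affine objects. -/
theorem exists_finite_affine_cover {E : EtOver X} [Aff E] {R : Sieve E} (hR : R ∈ etTop X E) :
    ∃ (n : ℕ) (V : Fin n → EtOver X) (g : ∀ k, V k ⟶ E), (∀ k, Aff (V k)) ∧ (∀ k, R (g k)) ∧
      ∀ x : ↥E.obj.left.left, ∃ k, x ∈ Set.range (g k).hom.left.left := by
  classical
  have key : ∀ x : ↥E.obj.left.left, ∃ (W : EtOver X) (g : W ⟶ E), Aff W ∧ R g ∧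
      x ∈ Set.range g.hom.left.left := fun x => by
    obtain ⟨W, g, hg, w, hw⟩ := SpPts86.exists_mem_range_of_mem_etTop hR x
    obtain ⟨U, hU, hwU, -⟩ := exists_isAffineOpen_mem_and_subset (U := (⊤ : W.obj.left.left.Opens)) (x := w) trivial
    exact ⟨openObj W U, openObjι W U ≫ g, hU, R.downward_closed hg _, ⟨w, hwU⟩, hw⟩
  choose W g hW hg hx using key
  have hopen : ∀ x, IsOpen (Set.range (g x).hom.left.left) := fun x => by
    haveI := EtOver.etale_left (g x)
    exact (g x).hom.left.left.isOpenMap.isOpen_range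
  obtain ⟨s, hs⟩ := isCompact_univ.elim_finite_subcover (fun x => Set.range (g x).hom.left.left) hopen
    fun x _ => Set.mem_iUnion.2 ⟨x, hx x⟩
  let e := s.equivFin
  refine ⟨s.card, fun k => W (e.symm k).1, fun k => g (e.symm k).1, fun k => hW _, fun k => hg _, fun x => ?_⟩
  obtain ⟨y, hy, hxy⟩ := Set.mem_iUnion₂.1 (hs (Set.mem_univ x))
  have h' : ∀ z : s, z = ⟨y, hy⟩ → x ∈ Set.range (g z.1).hom.left.left := by
    rintro _ rfl
    exact hxy
  exact ⟨e ⟨y, hy⟩, h' _ (e.symm_apply_apply _)⟩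

section Pullback

variable {E E₁ E₂ : EtOver X} (g₁ : E₁ ⟶ E) (g₂ : E₂ ⟶ E)

theorem isPullback_left : IsPullback (EtOver.pullbackFst g₁ g₂).hom.left.left
    (EtOver.pullbackSnd g₁ g₂).hom.left.left g₁.hom.left.left g₂.hom.left.left :=
  (IsPullback.of_hasPullback g₁.hom.left g₂.hom.left).map (Over.forget S)

theorem aff_pullback [Aff E] [Aff E₁] [Aff E₂] : Aff (EtOver.pullbackObj g₁ g₂) := by
  haveI : IsAffineHom g₂.hom.left.left := isAffineHom_of_isAffine _
  exact IsAffine.of_isPullback (isPullback_left g₁ g₂)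

theorem isPushout_cmap [Aff E] [Aff E₁] [Aff E₂] :
    IsPushout g₁.hom.left.left.appTop g₂.hom.left.left.appTop (EtOver.pullbackFst g₁ g₂).hom.left.left.appTop
      (EtOver.pullbackSnd g₁ g₂).hom.left.left.appTop :=
  isPushout_appTop_of_isPullback (isPullback_left g₁ g₂)

theorem exists_pullback_pt (x₁ : ↥E₁.obj.left.left) (x₂ : ↥E₂.obj.left.left)
    (h : g₁.hom.left.left x₁ = g₂.hom.left.left x₂) :
    ∃ z : ↥(EtOver.pullbackObj g₁ g₂).obj.left.left, (EtOver.pullbackFst g₁ g₂).hom.left.left z = x₁ ∧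
      (EtOver.pullbackSnd g₁ g₂).hom.left.left z = x₂ :=
  Scheme.exists_preimage_of_isPullback (isPullback_left g₁ g₂) x₁ x₂ h

end Pullback

end Groth.Agent.SpQC61
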