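import Mathlib.CategoryTheory.Abelian.RightDerived
import Mathlib.CategoryTheory.Adjunction.Additive
import Mathlib.Algebra.Homology.DerivedCategory.Ext.EnoughInjectives
import Mathlib.Algebra.Homology.DerivedCategory.Ext.ExactSequences
import Mathlib.Algebra.Homology.ShortComplex.ExactFunctor
import Mathlib.GroupTheory.QuotientGroup.Basic

/-! Derived functors and Ext groups along a functor exact on a class of objects. -/

universe w v v' u u'

set_option autoImplicit false

open CategoryTheory CategoryTheory.Limits CategoryTheory.Abelian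

namespace Groth.Agent.SpQC61

variable {C : Type u} [Category.{v} C] [Abelian C] {D : Type u'} [Category.{v'} D] [Abelian D]

/-- A class of objects, stable under isomorphism, closed under cokernels of embeddings into injectives, with
`F` exact on such embeddings. -/
structure ExactClass (F : C ⥤ D) [F.Additive] (P : C → Prop) : Prop where
  of_iso : ∀ {A B : C}, (A ≅ B) → P A → P B
  quot : ∀ (S : ShortComplex C), S.ShortExact → Injective S.X₂ → P S.X₁ → P S.X₃
  exact : ∀ (S : ShortComplex C), S.ShortExact → Injective S.X₂ → P S.X₁ → Epi (F.map S.g)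

variable {F : C ⥤ D} [F.Additive] {P : C → Prop} (hP : ExactClass F P)

include hP in
theorem isZero_rightDerived_of_exactClass [HasInjectiveResolutions C] [PreservesFiniteLimits F] {X : C} (hX : P X)
    (n : ℕ) : IsZero ((F.rightDerived (n + 1)).obj X) := by
  let I := (HasInjectiveResolution.out (Z := X)).some
  refine IsZero.of_iso ?_ (I.isoRightDerivedObj F (n + 1))
  change IsZero (((F.mapHomologicalComplex _).obj I.cocomplex).homology (n + 1))
  rw [← HomologicalComplex.exactAt_iff_isZero_homology,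
    HomologicalComplex.exactAt_iff' _ n (n + 1) (n + 2) (by simp) (by simp)]
  let K := I.cocomplex
  let Z : ℕ → C := fun m => kernel (K.d m (m + 1))
  let q : ∀ m, K.X m ⟶ Z (m + 1) := fun m =>
    kernel.lift (K.d (m + 1) (m + 1 + 1)) (K.d m (m + 1)) (K.d_comp_d _ _ _)
  have hq : ∀ m, Epi (q m) := fun m =>
    (ShortComplex.exact_iff_epi_kernel_lift
      (ShortComplex.mk (K.d m (m + 1)) (K.d (m + 1) (m + 1 + 1)) (K.d_comp_d _ _ _))).mp (I.exact_succ m)
  let T : ℕ → ShortComplex C := fun m => ShortComplex.mk (kernel.ι (K.d m (m + 1))) (q m) (by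
    rw [← cancel_mono (kernel.ι (K.d (m + 1) (m + 1 + 1))), Category.assoc, kernel.lift_ι,
      kernel.condition, zero_comp])
  have hT : ∀ m, (T m).ShortExact := fun m => by
    haveI := hq m
    refine ShortComplex.ShortExact.mk' ?_ (inferInstanceAs (Mono (kernel.ι _))) (hq m)
    refine ShortComplex.exact_of_f_is_kernel _ (isKernelOfComp (kernel.ι (K.d (m + 1) (m + 1 + 1))) (K.d m (m + 1))
      (kernelIsKernel _) ?_ (kernel.lift_ι _ _ _))
    exact (T m).zero
  have hZ : ∀ m, P (Z m) := fun m => by
    induction m with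
    | zero =>
      exact hP.of_iso (IsLimit.conePointUniqueUpToIso I.isLimitKernelFork (limit.isLimit _)) hX
    | succ m ih => exact hP.quot (T m) (hT m) (I.injective m) ih
  haveI : Epi (F.map (q n)) := hP.exact (T n) (hT n) (I.injective n) (hZ n)
  let S₂ : ShortComplex D := (ShortComplex.mk (kernel.ι (K.d (n + 1) (n + 1 + 1))) (K.d (n + 1) (n + 1 + 1))
    (kernel.condition _)).map F
  have h2 : S₂.Exact :=
    ShortComplex.exact_of_f_is_kernel _ (isLimitForkMapOfIsLimit' F (kernel.condition _) (kernelIsKernel _))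
  let φ : ((F.mapHomologicalComplex _).obj K).sc' n (n + 1) (n + 2) ⟶ S₂ :=
    { τ₁ := F.map (q n)
      τ₂ := 𝟙 _
      τ₃ := 𝟙 _
      comm₁₂ := by
        show F.map (q n) ≫ F.map (kernel.ι _) = F.map (K.d n (n + 1)) ≫ 𝟙 _
        rw [Category.comp_id, ← F.map_comp, kernel.lift_ι]
      comm₂₃ := by
        show 𝟙 _ ≫ F.map (K.d (n + 1) (n + 1 + 1)) = F.map (K.d (n + 1) (n + 2)) ≫ 𝟙 _
        rw [Category.id_comp, Category.comp_id] }
  haveI : Epi φ.τ₁ := ‹Epi (F.map (q n))›
  haveI : IsIso φ.τ₂ := inferInstanceAs (IsIso (𝟙 _))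
  haveI : Mono φ.τ₃ := inferInstanceAs (Mono (𝟙 _))
  exact (ShortComplex.exact_iff_of_epi_of_isIso_of_mono φ).mpr h2

section Ext

variable [HasExt.{w} C] [HasExt.{w} D] [EnoughInjectives C] {L : D ⥤ C} (adj : L ⊣ F) (c : D)

include hP adj in
/-- Ext groups along a right adjoint which is exact on a class and preserves injectives. -/
theorem nonempty_ext_addEquiv_of_exactClass (hinj : ∀ I : C, Injective I → Injective (F.obj I)) :
    ∀ (n : ℕ) (X : C), P X → Nonempty (Ext.{w} (L.obj c) X n ≃+ Ext.{w} c (F.obj X) n) := by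
  haveI := adj.left_adjoint_additive
  haveI : PreservesFiniteLimits F :=
    haveI : PreservesLimitsOfSize.{0, 0} F := adj.rightAdjoint_preservesLimits
    inferInstance
  intro n
  induction n with
  | zero =>
    intro X _
    exact ⟨Ext.addEquiv₀.trans ((adj.homAddEquiv c X).trans Ext.addEquiv₀.symm)⟩
  | succ n ih =>
    intro X hX
    let S : ShortComplex C := ShortComplex.mk (Injective.ι X) (cokernel.π (Injective.ι X)) (cokernel.condition _)
    have hS : S.ShortExact := { exact := ShortComplex.exact_of_g_is_cokernel _ (cokernelIsCokernel _) }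
    haveI hI : Injective S.X₂ := inferInstanceAs (Injective (Injective.under X))
    haveI : Injective (S.map F).X₂ := hinj _ hI
    have hSF : (S.map F).ShortExact := by
      haveI : Epi (F.map S.g) := hP.exact S hS hI hX
      haveI : Mono S.f := hS.mono_f
      refine ShortComplex.ShortExact.mk' ?_ (show Mono (F.map S.f) from inferInstance) ‹_›
      have h0 : ∀ (S : ShortComplex C), S.ShortExact → (S.map F).Exact ∧ Mono (F.map S.f) :=
        ((Functor.preservesFiniteLimits_tfae F).out 3 0).1 ‹PreservesFiniteLimits F›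
      exact (h0 S hS).1
    have hQ : P S.X₃ := hP.quot S hS hI hX
    obtain ⟨θ⟩ := ih S.X₃ hQ
    let δ : Ext.{w} (L.obj c) S.X₃ n →+ Ext.{w} (L.obj c) S.X₁ (n + 1) := hS.extClass.postcomp _ rfl
    let δ' : Ext.{w} c (S.map F).X₃ n →+ Ext.{w} c (S.map F).X₁ (n + 1) := hSF.extClass.postcomp _ rfl
    have hδ : Function.Surjective δ := fun x =>
      Ext.covariant_sequence_exact₁ _ hS x
        ((Ext.subsingleton_of_injective _ S.X₂ n).elim _ _) rfl
    have hδ' : Function.Surjective δ' := fun x =>
      Ext.covariant_sequence_exact₁ _ hSF x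
        ((Ext.subsingleton_of_injective _ (S.map F).X₂ n).elim _ _) rfl
    cases n with
    | succ m =>
      have i1 : Function.Injective δ := (injective_iff_map_eq_zero _).2 fun x hx => by
        obtain ⟨y, rfl⟩ := Ext.covariant_sequence_exact₃ _ hS x rfl hx
        rw [(Ext.subsingleton_of_injective (L.obj c) S.X₂ m).elim y 0, Ext.zero_comp]
      have i2 : Function.Injective δ' := (injective_iff_map_eq_zero _).2 fun x hx => by
        obtain ⟨y, rfl⟩ := Ext.covariant_sequence_exact₃ _ hSF x rfl hx
        rw [(Ext.subsingleton_of_injective c (S.map F).X₂ m).elim y 0, Ext.zero_comp]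
      exact ⟨((AddEquiv.ofBijective δ ⟨i1, hδ⟩).symm.trans θ).trans (AddEquiv.ofBijective δ' ⟨i2, hδ'⟩)⟩
    | zero =>
      let e : Ext.{w} (L.obj c) S.X₃ 0 ≃+ Ext.{w} c (S.map F).X₃ 0 :=
        Ext.addEquiv₀.trans ((adj.homAddEquiv c S.X₃).trans Ext.addEquiv₀.symm)
      have he : ∀ x, δ x = 0 ↔ δ' (e x) = 0 := by
        intro x
        obtain ⟨f, rfl⟩ : ∃ f, Ext.mk₀ f = x := (Ext.mk₀_bijective _ _).2 x
        have h0 : e (Ext.mk₀ f) = Ext.mk₀ (adj.homEquiv _ _ f) := by
          show Ext.addEquiv₀.symm ((adj.homAddEquiv c S.X₃) (Ext.addEquiv₀ (Ext.mk₀ f))) = _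
          rw [show Ext.addEquiv₀ (Ext.mk₀ f) = f from Ext.homEquiv₀.apply_symm_apply f]
          rfl
        constructor
        · intro hx
          obtain ⟨y, hy⟩ := Ext.covariant_sequence_exact₃ _ hS (Ext.mk₀ f) rfl hx
          obtain ⟨g, rfl⟩ := (Ext.mk₀_bijective _ _).2 y
          rw [Ext.mk₀_comp_mk₀] at hy
          rw [h0, ← (Ext.mk₀_bijective _ _).1 hy, adj.homEquiv_naturality_right]
          show (Ext.mk₀ ((adj.homEquiv _ _) g ≫ (S.map F).g)).comp hSF.extClass rfl = 0
          rw [← Ext.mk₀_comp_mk₀, Ext.comp_assoc_of_second_deg_zero]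
          exact (congrArg (fun z => Ext.comp _ z _) hSF.comp_extClass).trans (Ext.comp_zero _ _ _ _ _)
        · intro hx
          obtain ⟨y, hy⟩ := Ext.covariant_sequence_exact₃ _ hSF _ rfl hx
          obtain ⟨g, rfl⟩ := (Ext.mk₀_bijective _ _).2 y
          rw [Ext.mk₀_comp_mk₀, h0] at hy
          have hg : g ≫ F.map S.g = adj.homEquiv _ _ f := (Ext.mk₀_bijective _ _).1 hy
          have hf : f = (adj.homEquiv _ _).symm g ≫ S.g := by
            rw [← adj.homEquiv_naturality_right_symm]
            exact (Equiv.eq_symm_apply _).2 hg.symm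
          show (Ext.mk₀ f).comp hS.extClass rfl = 0
          rw [hf, ← Ext.mk₀_comp_mk₀, Ext.comp_assoc_of_second_deg_zero, hS.comp_extClass, Ext.comp_zero]
      refine ⟨((QuotientAddGroup.quotientKerEquivOfSurjective δ hδ).symm.trans
        (QuotientAddGroup.congr δ.ker δ'.ker e ?_)).trans (QuotientAddGroup.quotientKerEquivOfSurjective δ' hδ')⟩
      ext y
      simp only [AddSubgroup.mem_map, AddMonoidHom.mem_ker]
      exact ⟨fun ⟨x, hx, hxy⟩ => hxy ▸ (he x).1 hx,
        fun hy => ⟨e.symm y, (he _).2 (by rwa [AddEquiv.apply_symm_apply]), e.apply_symm_apply y⟩⟩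

end Ext

end Groth.Agent.SpQC61
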