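import Groth.Agent.EtCore45.Split
import Groth.Agent.SpQC61.Affine
import Groth.Agent.SpQC61.DerivedClass
import Groth.Agent.SpPts86.FiniteCrit
import Groth.Agent.SpPts86.EtStalk
import Mathlib.CategoryTheory.Sites.EpiMono
import Mathlib.CategoryTheory.Functor.EpiMono

/-! Direct images along integral morphisms on small etale sites are exact. -/

set_option autoImplicit false
set_option linter.style.haveILetI false
set_option backward.isDefEq.respectTransparency false

universe u

open CategoryTheory CategoryTheory.Limits AlgebraicGeometry Opposite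
open AlgSp

namespace Groth.Agent.SpQC61

variable {S : Scheme.{u}} {X Y : Sp S}

/-- Sections of an abelian sheaf on disjoint open pieces glue. -/
theorem exists_glue_disjoint_openObj (F : AbEt X) {P : EtOver X} {μ : Type u}
    (W : μ → P.obj.left.left.Opens) (hd : ∀ a b, a ≠ b → Disjoint (W a) (W b)) (ht : ⨆ a, W a = ⊤)
    (σ : ∀ a, (F.obj.obj (op (openObj P (W a))) : Type (u + 1))) :
    ∃ s : (F.obj.obj (op P) : Type (u + 1)), ∀ a, F.obj.map (openObjι P (W a)).op s = σ a := by
  have hmem : Sieve.ofArrows _ (fun a => openObjι P (W a)) ∈ etTop X P :=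
    SpPts86.mem_etTop_of_forall _ fun p => by
      obtain ⟨a, ha⟩ := TopologicalSpace.Opens.mem_iSup.1 (ht.ge (TopologicalSpace.Opens.mem_top p))
      exact ⟨_, openObjι P (W a), Sieve.ofArrows_mk _ _ a, ⟨p, ha⟩, rfl⟩
  have hF := (isSheaf_iff_isSheaf_of_type _ _).1
    ((sheafCompose (etTop X) (forget AddCommGrpCat.{u + 1})).obj F).property _ hmem
  rw [Sieve.ofArrows, ← Presieve.isSheafFor_iff_generate, Presieve.isSheafFor_arrows_iff] at hF
  obtain ⟨s, hs, -⟩ := hF σ fun a b T ga gb h => by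
    by_cases hab : a = b
    · subst hab
      have e : ga = gb := by
        refine ObjectProperty.hom_ext _ (CostructuredArrow.hom_ext _ _ (Over.OverMorphism.ext ?_))
        exact (cancel_mono (W a).ι).1 (congrArg (fun k : T ⟶ P => k.hom.left.left) h)
      rw [e]
    · have : IsEmpty ↥T.obj.left.left := ⟨fun z => Set.disjoint_left.1
        (TopologicalSpace.Opens.coe_disjoint.2 (hd a b hab))
        ((W a).range_ι.le ⟨ga.hom.left.left z, rfl⟩)
        ((W b).range_ι.le ⟨gb.hom.left.left z, (congrArg (fun k : T ⟶ P => k.hom.left.left z) h).symm⟩)⟩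
      exact SpPts86.eq_of_locally_eq F _ _ fun v => isEmptyElim v
  exact ⟨s, hs⟩

variable {f : X ⟶ Y} (hf : Representable f)

theorem epi_pushEt_map (hint : IsIntegralMor f) {F G : AbEt X} (φ : F ⟶ G) [Epi φ] :
    Epi ((pushEt hf AddCommGrpCat.{u + 1}).map φ) := by
  have hloc : Sheaf.IsLocallySurjective φ := (Sheaf.isLocallySurjective_iff_epi' AddCommGrpCat.{u + 1} φ).2 inferInstance
  rw [← Sheaf.isLocallySurjective_iff_epi' AddCommGrpCat.{u + 1}]
  constructor
  intro E s
  refine SpPts86.mem_etTop_of_forall _ fun v => ?_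
  let P := (EtOver.bc hf).obj E
  let s' : (G.obj.obj (op P) : Type (u + 1)) := s
  have key : ∀ p : ↥P.obj.left.left, ∃ (Z : EtOver X) (g : Z ⟶ P) (σ : (F.obj.obj (op Z) : Type (u + 1))),
      p ∈ Set.range g.hom.left.left ∧ φ.hom.app (op Z) σ = G.obj.map g.op s' := fun p => by
    obtain ⟨Z, g, ⟨σ, hσ⟩, hp⟩ :=
      SpPts86.exists_mem_range_of_mem_etTop (Presheaf.imageSieve_mem (etTop X) φ.hom s') p
    exact ⟨Z, g, σ, hp, hσ⟩
  choose Z g σ hp hσ using key
  let q : P.obj.left.left ⟶ E.obj.left.left := (hf.snd E.obj.hom).left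
  haveI : IsIntegralHom q := ((SpPts86.isIntegralMor_iff f).1 hint).property _ _ _ (hf.isPullback E.obj.hom)
  let gs : ∀ p : ↥P.obj.left.left, (Z p).obj.left.left ⟶ P.obj.left.left := fun p => (g p).hom.left.left
  haveI : ∀ p, Etale (gs p) := fun p => EtOver.etale_left (g p)
  obtain ⟨T⟩ := EtCore45.exists_split q gs v (fun p _ => by
    obtain ⟨z, hz⟩ := hp p
    exact ⟨p, z, hz⟩) ∅ Set.subsingleton_empty fun _ h => h.elim
  haveI := T.etale
  let vS : Over.mk (T.v ≫ E.obj.left.hom) ⟶ E.obj.left := Over.homMk T.v rfl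
  haveI : Etale vS.left := T.etale
  let E' : EtOver Y := EtOver.mk ((yon S).map vS ≫ E.obj.hom) (SpPts86.repWith_etale_comp vS E.property)
  let k : E' ⟶ E := EtOver.homMk vS rfl
  have hb : IsPullback (EtOver.bcMap hf k).hom.left.left (hf.snd E'.obj.hom).left q T.v :=
    EtOver.isPullback_bcMap_left hf k
  let e := T.isPullback.isoIsPullback _ _ hb
  let P' := (EtOver.bc hf).obj E'
  let k' : P' ⟶ P := (EtOver.bc hf).map k
  have he : e.inv ≫ T.pr₁ = k'.hom.left.left := T.isPullback.isoIsPullback_inv_fst _ _ hb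
  let W' : T.μ → P'.obj.left.left.Opens := fun a => e.inv ⁻¹ᵁ T.W a
  have hm0 : ∀ a, ((e.inv ∣_ T.W a) ≫ T.h a) ≫ gs (T.idx a) = (W' a).ι ≫ k'.hom.left.left := fun a => by
    rw [Category.assoc, T.comm, morphismRestrict_ι_assoc, he]
  let mS : ∀ a, (openObj P' (W' a)).obj.left ⟶ (Z (T.idx a)).obj.left := fun a =>
    Over.homMk ((e.inv ∣_ T.W a) ≫ T.h a) (by
      have h1 := Over.w (g (T.idx a)).hom.left
      have h2 := Over.w k'.hom.left
      show ((e.inv ∣_ T.W a) ≫ T.h a) ≫ (Z (T.idx a)).obj.left.hom = (W' a).ι ≫ P'.obj.left.hom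
      rw [← h1, ← h2, ← Category.assoc]
      exact (congrArg (· ≫ P.obj.left.hom) (hm0 a)).trans (Category.assoc _ _ _))
  have hmS : ∀ a, mS a ≫ (g (T.idx a)).hom.left = (openObjι P' (W' a)).hom.left ≫ k'.hom.left := fun a =>
    Over.OverMorphism.ext (hm0 a)
  let m : ∀ a, openObj P' (W' a) ⟶ Z (T.idx a) := fun a => EtOver.homMk (mS a) (by
    have h1 := CostructuredArrow.w (g (T.idx a)).hom
    have h2 := CostructuredArrow.w k'.hom
    have h3 := CostructuredArrow.w (openObjι P' (W' a)).hom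
    rw [← h1, ← h3, ← h2]
    exact (Category.assoc _ _ _).symm.trans ((congrArg (· ≫ P.obj.hom) (((yon S).map_comp _ _).symm.trans
      ((congrArg (yon S).map (hmS a)).trans ((yon S).map_comp _ _)))).trans (Category.assoc _ _ _)))
  have hm : ∀ a, m a ≫ g (T.idx a) = openObjι P' (W' a) ≫ k' := fun a =>
    ObjectProperty.hom_ext _ (CostructuredArrow.hom_ext _ _ (hmS a))
  have hd : ∀ a b, a ≠ b → Disjoint (W' a) (W' b) := fun a b hab => disjoint_iff.2
    (by rw [← Scheme.Hom.preimage_inf, (T.disj a b hab).eq_bot, Scheme.Hom.preimage_bot])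
  have ht : ⨆ a, W' a = ⊤ := by rw [← Scheme.Hom.preimage_iSup, T.top, Scheme.Hom.preimage_top]
  obtain ⟨sec, hsec⟩ := exists_glue_disjoint_openObj F W' hd ht fun a => F.obj.map (m a).op (σ (T.idx a))
  refine ⟨E', k, ⟨sec, ?_⟩, T.mem⟩
  show φ.hom.app (op P') sec = G.obj.map k'.op s'
  refine SpPts86.eq_of_locally_eq G _ _ fun x => ?_
  obtain ⟨a, ha⟩ := TopologicalSpace.Opens.mem_iSup.1 (ht.ge (TopologicalSpace.Opens.mem_top x))
  refine ⟨_, openObjι P' (W' a), ?_, ⟨x, ha⟩, rfl⟩
  rw [← NatTrans.naturality_apply φ.hom, hsec, NatTrans.naturality_apply φ.hom, hσ,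
    ← ConcreteCategory.comp_apply, ← ConcreteCategory.comp_apply, ← Functor.map_comp, ← Functor.map_comp,
    ← op_comp, ← op_comp, hm]

theorem pushEt_preservesEpimorphisms (hint : IsIntegralMor f) :
    (pushEt hf AddCommGrpCat.{u + 1}).PreservesEpimorphisms :=
  ⟨fun φ _ => epi_pushEt_map hf hint φ⟩

end Groth.Agent.SpQC61
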