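import Groth.Agent.SpPts86.EtStalk
import Groth.Agent.SpPts86.Compact
import Groth.Prelude.Def_AlgSpOX2

/-! Maps into base-changed objects of small etale sites, and global families of sections. -/

universe u

set_option autoImplicit false
set_option backward.isDefEq.respectTransparency false

open CategoryTheory CategoryTheory.Limits AlgebraicGeometry Opposite
open AlgSp Groth.Agent.SpFP87

namespace Groth.Agent.SpQC61

variable {S : Scheme.{u}} {X Y : Sp S} {f : X ⟶ Y} (hf : Representable f)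

/-- A map into a base-changed object. -/
noncomputable def bcLift {Z : EtOver X} {E : EtOver Y} (m : Z.obj.left ⟶ E.obj.left)
    (h : (yon S).map m ≫ E.obj.hom = Z.obj.hom ≫ f) : Z ⟶ (EtOver.bc hf).obj E :=
  EtOver.homMk (hf.lift Z.obj.hom m h.symm) (hf.lift_fst _ _ _)

theorem bcLift_snd {Z : EtOver X} {E : EtOver Y} (m : Z.obj.left ⟶ E.obj.left)
    (h : (yon S).map m ≫ E.obj.hom = Z.obj.hom ≫ f) :
    (bcLift hf m h).hom.left ≫ hf.snd E.obj.hom = m :=
  hf.lift_snd _ _ _

/-- The scheme component of a map into a base-changed object. -/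
noncomputable abbrev bcComp {Z : EtOver X} {E : EtOver Y} (a : Z ⟶ (EtOver.bc hf).obj E) :
    Z.obj.left ⟶ E.obj.left :=
  a.hom.left ≫ hf.snd E.obj.hom

theorem bcComp_w {Z : EtOver X} {E : EtOver Y} (a : Z ⟶ (EtOver.bc hf).obj E) :
    (yon S).map (bcComp hf a) ≫ E.obj.hom = Z.obj.hom ≫ f := by
  rw [Functor.map_comp, Category.assoc, ← hf.w, ← Category.assoc]
  exact congrArg (· ≫ f) (EtOver.w a)

theorem bc_hom_ext' {Z : EtOver X} {E : EtOver Y} {a b : Z ⟶ (EtOver.bc hf).obj E}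
    (h : bcComp hf a = bcComp hf b) : a = b :=
  EtOver.hom_ext _ _ (hf.hom_ext ((EtOver.w a).trans (EtOver.w b).symm) h)

theorem bcComp_map {Z : EtOver X} {E E' : EtOver Y} (a : Z ⟶ (EtOver.bc hf).obj E) (g : E ⟶ E') :
    bcComp hf (a ≫ (EtOver.bc hf).map g) = bcComp hf a ≫ g.hom.left := by
  show (a.hom.left ≫ (EtOver.bcMap hf g).hom.left) ≫ _ = _
  rw [Category.assoc, EtOver.bcMap_snd, Category.assoc]

theorem bcComp_bcLift {Z : EtOver X} {E : EtOver Y} (m : Z.obj.left ⟶ E.obj.left)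
    (h : (yon S).map m ≫ E.obj.hom = Z.obj.hom ≫ f) : bcComp hf (bcLift hf m h) = m :=
  bcLift_snd hf m h

/-- Two maps into a base-changed object factor through the base change of the product. -/
theorem exists_bc_prod {Z : EtOver X} {E₁ E₂ : EtOver Y} (a : Z ⟶ (EtOver.bc hf).obj E₁)
    (b : Z ⟶ (EtOver.bc hf).obj E₂) :
    ∃ c : Z ⟶ (EtOver.bc hf).obj (EtOver.prodObj E₁ E₂),
      c ≫ (EtOver.bc hf).map (EtOver.prodFst E₁ E₂) = a ∧ c ≫ (EtOver.bc hf).map (EtOver.prodSnd E₁ E₂) = b := by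
  let m : Z.obj.left ⟶ (EtOver.prodObj E₁ E₂).obj.left :=
    E₂.property.1.lift' (bcComp hf b) (bcComp hf a) (by rw [bcComp_w hf a, bcComp_w hf b])
  have hm₁ : m ≫ (EtOver.prodFst E₁ E₂).hom.left = bcComp hf a := Functor.relativelyRepresentable.lift'_snd _ _ _ _
  have hm₂ : m ≫ (EtOver.prodSnd E₁ E₂).hom.left = bcComp hf b := Functor.relativelyRepresentable.lift'_fst _ _ _ _
  refine ⟨bcLift hf m ?_, bc_hom_ext' hf ?_, bc_hom_ext' hf ?_⟩
  · rw [← EtOver.w (EtOver.prodFst E₁ E₂), ← Category.assoc, ← Functor.map_comp, hm₁, bcComp_w]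
  · rw [bcComp_map, bcComp_bcLift, hm₁]
  · rw [bcComp_map, bcComp_bcLift, hm₂]

/-- A parallel pair of maps agreeing after a lift is equalised by an object the lift factors through. -/
theorem exists_bc_equalizer {Z : EtOver X} {A B : EtOver Y} (p q : A ⟶ B) (a : Z ⟶ (EtOver.bc hf).obj A)
    (h : a ≫ (EtOver.bc hf).map p = a ≫ (EtOver.bc hf).map q) :
    ∃ (K : EtOver Y) (k : K ⟶ A) (c : Z ⟶ (EtOver.bc hf).obj K), k ≫ p = k ≫ q ∧
      c ≫ (EtOver.bc hf).map k = a := by
  let P := EtOver.prodObj B B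
  obtain ⟨pq, hpq₁, hpq₂⟩ := BinaryFan.IsLimit.lift' (EtOver.prodIsLimit B B) p q
  obtain ⟨Δ, hΔ₁, hΔ₂⟩ := BinaryFan.IsLimit.lift' (EtOver.prodIsLimit B B) (𝟙 B) (𝟙 B)
  change pq ≫ EtOver.prodFst B B = p at hpq₁
  change pq ≫ EtOver.prodSnd B B = q at hpq₂
  change Δ ≫ EtOver.prodFst B B = 𝟙 B at hΔ₁
  change Δ ≫ EtOver.prodSnd B B = 𝟙 B at hΔ₂
  let k := EtOver.pullbackFst pq Δ
  have hk : k ≫ p = k ≫ q := by
    rw [← hpq₁, ← hpq₂, ← Category.assoc, ← Category.assoc, EtOver.pullback_condition, Category.assoc,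
      Category.assoc, hΔ₁, hΔ₂]
  have sq := EtOver.isPullback_bc_map_pullback hf pq Δ
  have hext : a ≫ (EtOver.bc hf).map pq = (a ≫ (EtOver.bc hf).map p) ≫ (EtOver.bc hf).map Δ := by
    refine bc_hom_ext' hf ?_
    rw [bcComp_map, bcComp_map, bcComp_map, Category.assoc]
    refine Functor.relativelyRepresentable.hom_ext' _ ?_ ?_
    · change _ ≫ (EtOver.prodSnd B B).hom.left = _ ≫ (EtOver.prodSnd B B).hom.left
      simp only [Category.assoc]
      rw [show pq.hom.left ≫ (EtOver.prodSnd B B).hom.left = q.hom.left from congrArg (fun k => k.hom.left) hpq₂,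
        show Δ.hom.left ≫ (EtOver.prodSnd B B).hom.left = 𝟙 _ from congrArg (fun k => k.hom.left) hΔ₂,
        Category.comp_id]
      have h' := congrArg (fun z : Z ⟶ (EtOver.bc hf).obj B => bcComp hf z) h
      simp only [bcComp_map, bcComp, Category.assoc] at h' ⊢
      exact h'.symm
    · change _ ≫ (EtOver.prodFst B B).hom.left = _ ≫ (EtOver.prodFst B B).hom.left
      simp only [Category.assoc]
      rw [show pq.hom.left ≫ (EtOver.prodFst B B).hom.left = p.hom.left from congrArg (fun k => k.hom.left) hpq₁,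
        show Δ.hom.left ≫ (EtOver.prodFst B B).hom.left = 𝟙 _ from congrArg (fun k => k.hom.left) hΔ₁,
        Category.comp_id]
  exact ⟨_, k, sq.lift a (a ≫ (EtOver.bc hf).map p) hext, hk, sq.lift_fst _ _ _⟩

/-- Every object is covered by one mapping into the base change of a chart of the target. -/
theorem exists_cover_bc {E₀ : EtOver Y} (hE₀ : RepWith @Surjective E₀.obj.hom) (V : EtOver X) :
    ∃ (T : EtOver X) (t : T ⟶ V) (_b : T ⟶ (EtOver.bc hf).obj E₀), ∀ v, v ∈ Set.range t.hom.left.left := by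
  obtain ⟨T, t, m', sq⟩ := E₀.property.1 (V.obj.hom ≫ f)
  obtain ⟨m, rfl⟩ := (yon S).map_surjective m'
  haveI : Etale t.left := E₀.property.property _ _ _ sq
  haveI : Surjective t.left := hE₀.property _ _ _ sq
  refine ⟨EtOver.mk ((yon S).map t ≫ V.obj.hom) (SpPts86.repWith_etale_comp t V.property),
    EtOver.homMk t rfl, bcLift hf m ?_, fun v => t.left.surjective v⟩
  show (yon S).map m ≫ E₀.obj.hom = ((yon S).map t ≫ V.obj.hom) ≫ f
  rw [Category.assoc]
  exact sq.w

end Groth.Agent.SpQC61
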