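import Mathlib.CategoryTheory.ConnectedComponents
import Mathlib.CategoryTheory.Filtered.Basic
import Mathlib.Algebra.Category.Grp.AB
import Mathlib.Algebra.Category.Grp.Colimits
import Mathlib.CategoryTheory.Abelian.Exact

/-!
Colimits of abelian groups over large pseudo-filtered categories preserve monomorphisms (universe variant of
`Groth.Agent.SiteCoh.PseudoFiltered`).
-/

universe u

open CategoryTheory CategoryTheory.Limits

namespace Groth.Agent.SpQC61.PF

/-- Spans can be completed to commutative squares and parallel pairs can be coequalised. -/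
class IsPseudoFiltered (I : Type (u + 1)) [Category.{u} I] : Prop where
  span : ∀ {a b c : I} (f : a ⟶ b) (g : a ⟶ c), ∃ (d : I) (h : b ⟶ d) (k : c ⟶ d), f ≫ h = g ≫ k
  parallel : ∀ {a b : I} (f g : a ⟶ b), ∃ (c : I) (h : b ⟶ c), f ≫ h = g ≫ h

variable {I : Type (u + 1)} [Category.{u} I]

lemma component_isFiltered [IsPseudoFiltered I] (j : ConnectedComponents I) :
    IsFiltered j.Component := by
  have cospan : ∀ {a b : I}, Zigzag a b → ∃ d : I, Nonempty (a ⟶ d) ∧ Nonempty (b ⟶ d) := by
    intro a b h
    induction h with
    | refl => exact ⟨a, ⟨𝟙 a⟩, ⟨𝟙 a⟩⟩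
    | tail _ hbc ih =>
      obtain ⟨d, ⟨p⟩, ⟨q⟩⟩ := ih
      rcases hbc with ⟨⟨f⟩⟩ | ⟨⟨f⟩⟩
      · obtain ⟨e, h, k, -⟩ := IsPseudoFiltered.span q f
        exact ⟨e, ⟨p ≫ h⟩, ⟨k⟩⟩
      · exact ⟨d, ⟨p⟩, ⟨f ≫ q⟩⟩
  have : IsFilteredOrEmpty j.Component :=
    { cocone_objs := fun X Y => by
        obtain ⟨d, ⟨p⟩, ⟨q⟩⟩ := cospan (Quotient.exact' (X.property.trans Y.property.symm))
        have hd : j.objectProperty d :=
          (Quotient.sound' (Zigzag.of_inv p : Zigzag d X.obj)).trans X.property
        exact ⟨⟨d, hd⟩, ObjectProperty.homMk p, ObjectProperty.homMk q, trivial⟩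
      cocone_maps := fun X Y f g => by
        obtain ⟨c, h, e⟩ := IsPseudoFiltered.parallel f.hom g.hom
        have hc : j.objectProperty c :=
          (Quotient.sound' (Zigzag.of_inv h : Zigzag c Y.obj)).trans Y.property
        exact ⟨⟨c, hc⟩, ObjectProperty.homMk h, ObjectProperty.hom_ext _ e⟩ }
  exact { nonempty := inferInstance }

section Proj

variable (F : I ⥤ AddCommGrpCat.{u + 1}) (j : ConnectedComponents I)

/-- The colimit over a component. -/
noncomputable abbrev compColim : AddCommGrpCat.{u + 1} := colimit (j.ι ⋙ F)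

/-- The inclusion of the colimit over a component. -/
noncomputable abbrev compIncl : compColim F j ⟶ colimit F := colimit.pre F j.ι

open Classical in
/-- The component of the projection at an object. -/
noncomputable def compProjApp (i : I) : F.obj i ⟶ compColim F j :=
  if h : ConnectedComponents.mk i = j then
    colimit.ι (j.ι ⋙ F) (⟨i, h⟩ : j.Component)
  else 0

lemma compProjApp_pos (i : I) (h : ConnectedComponents.mk i = j) :
    compProjApp F j i = colimit.ι (j.ι ⋙ F) (⟨i, h⟩ : j.Component) :=
  dif_pos h

lemma compProjApp_neg (i : I) (h : ¬ ConnectedComponents.mk i = j) : compProjApp F j i = 0 :=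
  dif_neg h

/-- The projection of a colimit onto the colimit over a component. -/
noncomputable def compProj : colimit F ⟶ compColim F j :=
  colimit.desc F
    { pt := compColim F j
      ι :=
        { app := compProjApp F j
          naturality := fun a b f => by
            have hab : ConnectedComponents.mk a = ConnectedComponents.mk b :=
              Quotient.sound' (Zigzag.of_hom f)
            by_cases h : ConnectedComponents.mk a = j
            · rw [compProjApp_pos F j a h, compProjApp_pos F j b (hab.symm.trans h)]
              refine (colimit.w (j.ι ⋙ F)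
                (ObjectProperty.homMk f : (⟨a, h⟩ : j.Component) ⟶
                  ⟨b, hab.symm.trans h⟩)).trans ?_
              exact (Category.comp_id _).symm
            · rw [compProjApp_neg F j a h, compProjApp_neg F j b (fun e => h (hab.trans e))]
              simp } }

@[reassoc]
lemma ι_compProj (i : I) : colimit.ι F i ≫ compProj F j = compProjApp F j i :=
  colimit.ι_desc _ _

lemma compProj_naturality {G : I ⥤ AddCommGrpCat.{u + 1}} (α : F ⟶ G) :
    colimMap α ≫ compProj G j = compProj F j ≫ colimMap (Functor.whiskerLeft j.ι α) := by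
  refine colimit.hom_ext fun i => ?_
  rw [ι_colimMap_assoc, ι_compProj, ι_compProj_assoc]
  by_cases h : ConnectedComponents.mk i = j
  · rw [compProjApp_pos _ _ _ h, compProjApp_pos _ _ _ h, ι_colimMap]
    rfl
  · rw [compProjApp_neg _ _ _ h, compProjApp_neg _ _ _ h, comp_zero, zero_comp]

end Proj

/-- An element of a colimit vanishes if all its projections to components do. -/
lemma eq_zero_of_compProj (F : I ⥤ AddCommGrpCat.{u + 1}) (x : (colimit F : AddCommGrpCat.{u + 1}))
    (hx : ∀ j, compProj F j x = 0) : x = 0 := by
  classical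
  let H : AddSubgroup (colimit F : AddCommGrpCat.{u + 1}) :=
    { carrier := {y | ∃ S : Finset (ConnectedComponents I), (∀ j ∉ S, compProj F j y = 0) ∧
        y = ∑ j ∈ S, compIncl F j (compProj F j y)}
      zero_mem' := ⟨∅, by simp, by simp⟩
      neg_mem' := by
        rintro y ⟨S, h1, h2⟩
        refine ⟨S, fun j hj => by simp [h1 j hj], ?_⟩
        simp only [map_neg, Finset.sum_neg_distrib]
        rw [← h2]
      add_mem' := by
        rintro y z ⟨S, h1, h2⟩ ⟨T, h3, h4⟩
        refine ⟨S ∪ T, fun j hj => ?_, ?_⟩
        · rw [Finset.notMem_union] at hj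
          simp [h1 j hj.1, h3 j hj.2]
        · simp only [map_add, Finset.sum_add_distrib]
          rw [← Finset.sum_subset Finset.subset_union_left (fun j _ hj => by simp [h1 j hj]),
            ← Finset.sum_subset Finset.subset_union_right (fun j _ hj => by simp [h3 j hj]),
            ← h2, ← h4] }
  have hgen : ∀ (i : I) (a : F.obj i), colimit.ι F i a ∈ H := by
    intro i a
    refine ⟨{ConnectedComponents.mk i}, fun j hj => ?_, ?_⟩
    · rw [← ConcreteCategory.comp_apply, ι_compProj,
        compProjApp_neg F j i (fun e => hj (by simp [e]))]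
      rfl
    · rw [Finset.sum_singleton]
      have e : colimit.ι F i ≫ compProj F (ConnectedComponents.mk i) ≫
          compIncl F (ConnectedComponents.mk i) = colimit.ι F i := by
        rw [ι_compProj_assoc, compProjApp_pos F _ i rfl]
        exact colimit.ι_pre F (ConnectedComponents.mk i).ι _
      exact (ConcreteCategory.congr_hom e a).symm
  let q : colimit F ⟶ AddCommGrpCat.of ((colimit F : AddCommGrpCat.{u + 1}) ⧸ H) :=
    AddCommGrpCat.ofHom (QuotientAddGroup.mk' H)
  have hq : q = 0 := colimit.hom_ext fun i => by
    ext a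
    exact (QuotientAddGroup.eq_zero_iff _).2 (hgen i a)
  obtain ⟨S, -, h2⟩ : x ∈ H :=
    (QuotientAddGroup.eq_zero_iff _).1 (ConcreteCategory.congr_hom hq x)
  rw [h2]
  exact Finset.sum_eq_zero fun j _ => by simp [hx j]

instance colim_preservesMonomorphisms [IsPseudoFiltered I] :
    (colim : (I ⥤ AddCommGrpCat.{u + 1}) ⥤ AddCommGrpCat.{u + 1}).PreservesMonomorphisms where
  preserves {F G} α _ := by
    rw [AddCommGrpCat.mono_iff_injective, injective_iff_map_eq_zero]
    intro x hx
    refine eq_zero_of_compProj F x fun j => ?_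
    have := component_isFiltered j
    haveI : IsFiltered (ULiftHom.{u + 1} j.Component) := IsFiltered.of_equivalence ULiftHom.equiv
    haveI : HasExactColimitsOfShape (ULiftHom.{u + 1} j.Component) AddCommGrpCat.{u + 1} :=
      AB5OfSize.ofShape.{u + 1, u + 1} (ULiftHom.{u + 1} j.Component)
    haveI : HasExactColimitsOfShape j.Component AddCommGrpCat.{u + 1} :=
      HasExactColimitsOfShape.of_domain_equivalence _ ULiftHom.equiv.symm
    have hm : Mono (colimMap (Functor.whiskerLeft j.ι α)) := by
      have : Mono (Functor.whiskerLeft j.ι α) := by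
        have := fun i => (NatTrans.mono_iff_mono_app α).1 inferInstance (j.ι.obj i)
        exact @NatTrans.mono_of_mono_app _ _ _ _ _ _ _ this
      exact inferInstanceAs (Mono ((colim : (j.Component ⥤ AddCommGrpCat.{u + 1}) ⥤ _).map _))
    apply (AddCommGrpCat.mono_iff_injective _).1 hm
    rw [map_zero, ← ConcreteCategory.comp_apply, ← compProj_naturality, ConcreteCategory.comp_apply]
    exact (congrArg (compProj G j) hx).trans (map_zero _)

end Groth.Agent.SpQC61.PF
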