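import Groth.Agent.SpQC61.AffineAcyclic
import Groth.Agent.SpQC61.BcLift
import Groth.Agent.SpQC61.PseudoFilteredU
import Groth.Agent.SpQC61.DerivedClass
import Mathlib.CategoryTheory.Sites.Pullback
import Mathlib.CategoryTheory.Functor.KanExtension.Adjunction

/-! Direct images along affine morphisms on small etale sites: higher direct images and cohomology. -/

universe u

set_option autoImplicit false
set_option backward.isDefEq.respectTransparency false

open CategoryTheory CategoryTheory.Limits AlgebraicGeometry Opposite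
open AlgSp Groth.Agent.SpFP87

namespace Groth.Agent.SpQC61

variable {S : Scheme.{u}} {X Y : Sp S} {f : X ⟶ Y} (hf : Representable f)

/-- The comma categories of base change are pseudo-filtered. -/
theorem bc_pseudoFiltered (V : (EtOver X)ᵒᵖ) :
    PF.IsPseudoFiltered (CostructuredArrow (EtOver.bc hf).op V) := by
  refine ⟨fun {a b c} p q => ?_, fun {a b} p q => ?_⟩
  · have ep : a.hom.unop = b.hom.unop ≫ (EtOver.bc hf).map p.left.unop :=
      (congrArg Quiver.Hom.unop (CostructuredArrow.w p)).symm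
    have eq' : a.hom.unop = c.hom.unop ≫ (EtOver.bc hf).map q.left.unop :=
      (congrArg Quiver.Hom.unop (CostructuredArrow.w q)).symm
    have hP := EtOver.isPullback_bc_map_pullback hf p.left.unop q.left.unop
    let t := hP.lift b.hom.unop c.hom.unop (ep.symm.trans eq')
    refine ⟨CostructuredArrow.mk (Y := op (EtOver.pullbackObj p.left.unop q.left.unop))
      (t.op : (EtOver.bc hf).op.obj (op (EtOver.pullbackObj p.left.unop q.left.unop)) ⟶ V),
      CostructuredArrow.homMk (EtOver.pullbackFst _ _).op (Quiver.Hom.unop_inj ?_),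
      CostructuredArrow.homMk (EtOver.pullbackSnd _ _).op (Quiver.Hom.unop_inj ?_), ?_⟩
    · exact hP.lift_fst _ _ _
    · exact hP.lift_snd _ _ _
    · apply CostructuredArrow.hom_ext
      exact congrArg Quiver.Hom.op (EtOver.pullback_condition _ _)
  · have ep : a.hom.unop = b.hom.unop ≫ (EtOver.bc hf).map p.left.unop :=
      (congrArg Quiver.Hom.unop (CostructuredArrow.w p)).symm
    have eq' : a.hom.unop = b.hom.unop ≫ (EtOver.bc hf).map q.left.unop :=
      (congrArg Quiver.Hom.unop (CostructuredArrow.w q)).symm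
    obtain ⟨K, k, c, hk, hc⟩ := exists_bc_equalizer hf p.left.unop q.left.unop b.hom.unop (ep.symm.trans eq')
    refine ⟨CostructuredArrow.mk (Y := op K) (c.op : (EtOver.bc hf).op.obj (op K) ⟶ V),
      CostructuredArrow.homMk k.op (Quiver.Hom.unop_inj hc), ?_⟩
    apply CostructuredArrow.hom_ext
    exact congrArg Quiver.Hom.op hk

theorem lan_bc_preservesMono :
    ((EtOver.bc hf).op.lan : ((EtOver Y)ᵒᵖ ⥤ AddCommGrpCat.{u + 1}) ⥤ _).PreservesMonomorphisms where
  preserves {P Q} α _ := by
    let u' := EtOver.bc hf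
    have : ∀ V, Mono ((u'.op.lan.map α).app V) := fun V => by
      have e : (u'.op.leftKanExtensionObjIsoColimit P V).inv ≫ (u'.op.lan.map α).app V =
          colimMap (Functor.whiskerLeft (CostructuredArrow.proj u'.op V) α) ≫
            (u'.op.leftKanExtensionObjIsoColimit Q V).inv := by
        refine colimit.hom_ext fun g => ?_
        have hn := (u'.op.lan.map α).naturality g.hom
        have hu := NatTrans.congr_app (u'.op.lanUnit.naturality α) g.left
        refine (Category.assoc _ _ _).symm.trans ?_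
        refine ((Functor.ι_leftKanExtensionObjIsoColimit_inv u'.op P V g) =≫
          (u'.op.lan.map α).app V).trans ?_
        refine Eq.trans ?_ (Category.assoc _ _ _)
        refine Eq.trans ?_ ((ι_colimMap (Functor.whiskerLeft (CostructuredArrow.proj u'.op V) α) g) =≫
          (u'.op.leftKanExtensionObjIsoColimit Q V).inv).symm
        refine Eq.trans ?_ ((α.app g.left ≫= Functor.ι_leftKanExtensionObjIsoColimit_inv u'.op Q V g).symm.trans
          (Category.assoc _ _ _).symm)
        refine (Category.assoc _ _ _).trans ?_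
        exact (_ ≫= hn).trans ((Category.assoc _ _ _).symm.trans
          ((hu.symm =≫ _).trans (Category.assoc _ _ _)))
      have : Mono (Functor.whiskerLeft (CostructuredArrow.proj u'.op V) α) := by
        have := fun i => (NatTrans.mono_iff_mono_app α).1 inferInstance
          ((CostructuredArrow.proj u'.op V).obj i)
        exact @NatTrans.mono_of_mono_app _ _ _ _ _ _ _ this
      haveI := bc_pseudoFiltered hf V
      have h2 : Mono (colimMap (Functor.whiskerLeft (CostructuredArrow.proj u'.op V) α)) :=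
        inferInstanceAs (Mono ((colim :
          (CostructuredArrow u'.op V ⥤ AddCommGrpCat.{u + 1}) ⥤ _).map _))
      rw [← cancel_epi (u'.op.leftKanExtensionObjIsoColimit P V).hom, Iso.hom_inv_id_assoc] at e
      rw [e]
      exact @mono_comp _ _ _ _ _ _ inferInstance _ (@mono_comp _ _ _ _ _ _ h2 _ inferInstance)
    exact @NatTrans.mono_of_mono_app _ _ _ _ _ _ _ this

/-- The direct image of an injective abelian sheaf is injective. -/
theorem pushEt_injective (I : AbEt X) (hI : Injective I) :
    Injective ((pushEt hf AddCommGrpCat.{u + 1}).obj I) := by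
  have h1 : (presheafToSheaf (etTop X) AddCommGrpCat.{u + 1}).PreservesMonomorphisms :=
    preservesMonomorphisms_of_preservesLimitsOfShape _
  haveI := lan_bc_preservesMono hf
  have h2 : ((EtOver.bc hf).op.lan ⋙ presheafToSheaf (etTop X) AddCommGrpCat.{u + 1}).PreservesMonomorphisms :=
    Functor.preservesMonomorphisms_comp _ _
  have h3 : (sheafToPresheaf (etTop Y) AddCommGrpCat.{u + 1}).PreservesMonomorphisms :=
    preservesMonomorphisms_of_preservesLimitsOfShape _
  have : (Functor.sheafPullbackConstruction.sheafPullback (EtOver.bc hf) AddCommGrpCat.{u + 1}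
      (etTop Y) (etTop X)).PreservesMonomorphisms :=
    Functor.preservesMonomorphisms_comp (sheafToPresheaf (etTop Y) AddCommGrpCat.{u + 1})
      ((EtOver.bc hf).op.lan ⋙ presheafToSheaf (etTop X) AddCommGrpCat.{u + 1})
  haveI : (pullEt hf AddCommGrpCat.{u + 1}).PreservesMonomorphisms :=
    Functor.PreservesMonomorphisms.of_iso
      (Functor.sheafPullbackConstruction.sheafPullbackIso (EtOver.bc hf) AddCommGrpCat.{u + 1}
        (etTop Y) (etTop X)).symm
  haveI := hI
  exact Injective.injective_of_adjoint (pullPushAdjEt hf AddCommGrpCat.{u + 1}) I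

section Class

/-- Čech acyclic for affine coverings of affine objects. -/
def AffAcyclic (F : AbEt X) : Prop :=
  Unr55.CechCartan.Acyclic.{u + 1, u, u + 1} {U : EtOver X | Aff U} AffCov F

theorem affAcyclic_toAbEt (M : ModEt X) [M.IsQuasicoherent] : AffAcyclic ((toAbEt X).obj M) := by
  intro U hU Y hY q
  haveI : Aff U := hU
  exact isZero_cechH_qcoh M Y hY q

theorem affCov_refines (U : EtOver X) (hU : U ∈ {U : EtOver X | Aff U}) {F G : AbEt X} (g : F ⟶ G) [Epi g]
    (s : G.obj.obj (op U)) :
    ∃ Y : Over U, AffCov U Y ∧ (Presheaf.imageSieve g.hom s).arrows Y.hom ∧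
      Sieve.ofArrows (fun i => (Unr55.CechCartan.fam.{u + 1, u, u + 1} Y i).left)
        (fun i => (Unr55.CechCartan.fam.{u + 1, u, u + 1} Y i).hom) ∈ etTop X U := by
  haveI : Aff U := hU
  obtain ⟨Y, hY, hmem⟩ := exists_affCov g s
  refine ⟨Y, hY, hmem, SpPts86.mem_etTop_of_forall _ fun x => ?_⟩
  obtain ⟨v, hv⟩ := hY.2.surj x
  exact ⟨Y.left, Y.hom, Sieve.ofArrows_mk (fun _ : PUnit.{u + 2} => Y.left) (fun _ => Y.hom) PUnit.unit, v, hv⟩

theorem affCov_powers (U : EtOver X) (hU : U ∈ {U : EtOver X | Aff U}) (Y : Over U) (hY : AffCov U Y) (n : ℕ)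
    (a : Fin (n + 1) → PUnit.{u + 2}) :
    (∏ᶜ (Unr55.CechCartan.fam.{u + 1, u, u + 1} Y ∘ a)).left ∈ {U : EtOver X | Aff U} := by
  haveI : Aff U := hU
  exact aff_powObj Y hY.1 n

theorem affAcyclic_of_iso {A B : AbEt X} (e : A ≅ B) (h : AffAcyclic A) : AffAcyclic B := by
  intro U hU Y hY q
  exact (h U hU Y hY q).of_iso
    (((EtCech.cechHFunctor (Unr55.CechCartan.fam.{u + 1, u, u + 1} Y) (q + 1)).mapIso
      ((sheafToPresheaf _ _).mapIso e)).symm)

/-- Base change keeps affine objects affine. -/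
def BcAffine : Prop := ∀ E : EtOver Y, Aff E → Aff ((EtOver.bc hf).obj E)

theorem bcAffine_of_isAffineMor (h : IsAffineMor f) : BcAffine hf := by
  intro E hE
  obtain ⟨W, i, fst, sq, hW⟩ := h hE E.obj.hom
  obtain ⟨θ, hθ⟩ := (yon S).map_surjective ((hf.isPullback E.obj.hom).isoIsPullback _ _ sq).hom
  haveI : IsIso ((yon S).map θ) := hθ ▸ inferInstance
  haveI : IsIso θ := isIso_of_fully_faithful (yon S) θ
  haveI : IsAffine ((Over.forget S).obj W) := hW
  exact IsAffine.of_isIso ((Over.forget S).map θ)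

theorem exactClass_pushEt (h : BcAffine hf) :
    ExactClass (pushEt hf AddCommGrpCat.{u + 1}) (AffAcyclic (X := X)) where
  of_iso := affAcyclic_of_iso
  quot S hS hI h1 := by
    haveI := hI
    exact Unr55.CechCartan.acyclic_cokernel.{u + 1, u, u + 1} _ _ affCov_powers
      (fun U hU _ _ g _ s => affCov_refines U hU g s) hS h1
  exact S hS hI h1 := by
    rw [← Sheaf.isLocallySurjective_iff_epi' AddCommGrpCat.{u + 1}]
    constructor
    intro E s
    refine SpPts86.mem_etTop_of_forall _ fun v => ?_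
    obtain ⟨U, hU, hvU, -⟩ := exists_isAffineOpen_mem_and_subset (U := (⊤ : E.obj.left.left.Opens)) (x := v) trivial
    obtain ⟨t, ht⟩ := Unr55.CechCartan.surjective_sections.{u + 1, u, u + 1} _ _
      (fun U hU _ _ g _ s => affCov_refines U hU g s) hS h1 ((EtOver.bc hf).obj (openObj E U))
      (h _ hU) (((pushEt hf AddCommGrpCat.{u + 1}).obj S.X₃).obj.map (openObjι E U).op s)
    exact ⟨openObj E U, openObjι E U, ⟨t, ht⟩, ⟨v, hvU⟩, rfl⟩

theorem isZero_rpushEt (h : BcAffine hf) (F : AbEt X) (hF : AffAcyclic F) (i : ℕ) :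
    IsZero ((RpushEt hf (i + 1)).obj F) := by
  haveI : PreservesLimitsOfSize.{0, 0} (pushEt hf AddCommGrpCat.{u + 1}) :=
    (pullPushAdjEt hf AddCommGrpCat.{u + 1}).rightAdjoint_preservesLimits
  exact isZero_rightDerived_of_exactClass (exactClass_pushEt hf h) hF i

end Class

section Constant

/-- The constant sheaf of integers. -/
noncomputable abbrev zSheaf (X : Sp S) : AbEt X :=
  (constantSheaf (etTop X) AddCommGrpCat.{u + 1}).obj (AddCommGrpCat.of (ULift.{u + 1} ℤ))

/-- Compatible families of sections. -/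
def Fam (P : (EtOver X)ᵒᵖ ⥤ AddCommGrpCat.{u + 1}) : Type (u + 1) :=
  {s : ∀ E : EtOver X, (P.obj (op E) : Type (u + 1)) // ∀ {E' E : EtOver X} (g : E' ⟶ E), P.map g.op (s E) = s E'}

/-- Maps out of the constant presheaf of integers are families. -/
noncomputable def famEquiv (P : (EtOver X)ᵒᵖ ⥤ AddCommGrpCat.{u + 1}) :
    ((Functor.const (EtOver X)ᵒᵖ).obj (AddCommGrpCat.of (ULift.{u + 1} ℤ)) ⟶ P) ≃ Fam P where
  toFun η := ⟨fun E => η.app (op E) (ULift.up 1), fun g => (NatTrans.naturality_apply η g.op (ULift.up 1)).symm⟩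
  invFun s :=
    { app := fun E => AddCommGrpCat.ofHom ((zmultiplesHom _ (s.1 E.unop)).comp AddEquiv.ulift.toAddMonoidHom)
      naturality := fun E E' g => by
        refine ConcreteCategory.hom_ext _ _ ?_
        rintro ⟨z⟩
        show z • s.1 E'.unop = P.map g (z • s.1 E.unop)
        rw [map_zsmul, show P.map g (s.1 E.unop) = s.1 E'.unop from s.2 g.unop] }
  left_inv η := by
    refine NatTrans.ext (funext fun E => ConcreteCategory.hom_ext _ _ ?_)
    rintro ⟨z⟩
    show z • η.app E (ULift.up 1) = η.app E (ULift.up z)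
    rw [show (ULift.up z : ULift.{u + 1} ℤ) = z • ULift.up 1 from ULift.ext _ _ (by simp)]
    exact (map_zsmul (η.app E).hom z (ULift.up 1)).symm
  right_inv s := Subtype.ext (funext fun E => one_smul ℤ (s.1 E))

/-- Maps out of the constant sheaf of integers are families. -/
noncomputable def zEquiv (G : AbEt X) : (zSheaf X ⟶ G) ≃ Fam G.obj :=
  ((sheafificationAdjunction (etTop X) AddCommGrpCat.{u + 1}).homEquiv _ G).trans (famEquiv G.obj)

theorem zEquiv_comp {G G' : AbEt X} (a : zSheaf X ⟶ G) (b : G ⟶ G') (E : EtOver X) :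
    (zEquiv G' (a ≫ b)).1 E = b.hom.app (op E) ((zEquiv G a).1 E) := by
  show ((sheafificationAdjunction (etTop X) AddCommGrpCat.{u + 1}).homEquiv _ G' (a ≫ b)).app (op E) (ULift.up 1) = _
  rw [Adjunction.homEquiv_naturality_right]
  rfl

/-- Restriction of families to base changed objects. -/
noncomputable def restrFam (G : AbEt X) (s : Fam G.obj) : Fam ((pushEt hf AddCommGrpCat.{u + 1}).obj G).obj :=
  ⟨fun E => s.1 ((EtOver.bc hf).obj E), fun g => s.2 ((EtOver.bc hf).map g)⟩

theorem restrFam_compat (G : AbEt X) (t : Fam ((pushEt hf AddCommGrpCat.{u + 1}).obj G).obj) {Z : EtOver X}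
    {E₁ E₂ : EtOver Y} (a : Z ⟶ (EtOver.bc hf).obj E₁) (b : Z ⟶ (EtOver.bc hf).obj E₂) :
    G.obj.map a.op (t.1 E₁) = G.obj.map b.op (t.1 E₂) := by
  obtain ⟨c, rfl, rfl⟩ := exists_bc_prod hf a b
  rw [op_comp, op_comp, Functor.map_comp, Functor.map_comp, ConcreteCategory.comp_apply,
    ConcreteCategory.comp_apply]
  exact congrArg (G.obj.map c.op) ((t.2 (EtOver.prodFst E₁ E₂)).trans (t.2 (EtOver.prodSnd E₁ E₂)).symm)

theorem restrFam_bijective (hY : IsAlgSpace Y) (G : AbEt X) : Function.Bijective (restrFam hf G) := by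
  obtain ⟨U, a₀, ha, has⟩ := hY.atlas
  let E₀ : EtOver Y := EtOver.mk a₀ ha
  choose T t b ht using fun V : EtOver X => exists_cover_bc hf (E₀ := E₀) has V
  constructor
  · intro s s' e
    refine Subtype.ext (funext fun V => SpPts86.eq_of_locally_eq G _ _ fun v => ⟨T V, t V, ?_, ht V v⟩)
    rw [s.2, s'.2, ← s.2 (b V), ← s'.2 (b V)]
    exact congrArg (G.obj.map (b V).op) (congrFun (congrArg Subtype.val e) E₀)
  · intro τ
    have hsh := (isSheaf_iff_isSheaf_of_type _ _).1
      ((sheafCompose (etTop X) (forget AddCommGrpCat.{u + 1})).obj G).property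
    have hmem : ∀ V, Sieve.generate (Presieve.singleton (t V)) ∈ etTop X V := fun V =>
      SpPts86.mem_etTop_of_forall _ fun v => ⟨T V, t V, Sieve.le_generate _ _ _ ⟨⟩, ht V v⟩
    have hex : ∀ V, ∃ x : (G.obj.obj (op V) : Type (u + 1)),
        G.obj.map (t V).op x = G.obj.map (b V).op (τ.1 E₀) := fun V => by
      obtain ⟨x, hx, -⟩ := ((Presieve.isSheafFor_iff_generate _).2 (hsh _ (hmem V)))
        (fun Z g hg => by
          cases hg
          exact G.obj.map (b V).op (τ.1 E₀))
        (by
          intro Z₁ Z₂ Z g₁ g₂ f₁ f₂ h₁ h₂ e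
          cases h₁; cases h₂
          show G.obj.map g₁.op (G.obj.map (b V).op (τ.1 E₀)) = G.obj.map g₂.op (G.obj.map (b V).op (τ.1 E₀))
          rw [← ConcreteCategory.comp_apply, ← Functor.map_comp, ← ConcreteCategory.comp_apply, ← Functor.map_comp]
          exact restrFam_compat hf G τ (g₁ ≫ b V) (g₂ ≫ b V))
      exact ⟨x, hx (t V) ⟨⟩⟩
    choose x hx using hex
    have hx' : ∀ (V : EtOver X) (E : EtOver Y) (a : V ⟶ (EtOver.bc hf).obj E), x V = G.obj.map a.op (τ.1 E) :=
      fun V E a => SpPts86.eq_of_locally_eq G _ _ fun v => ⟨T V, t V, by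
        rw [hx, ← ConcreteCategory.comp_apply, ← Functor.map_comp, ← op_comp]
        exact restrFam_compat hf G τ (b V) (t V ≫ a), ht V v⟩
    refine ⟨⟨x, fun {V' V} g => SpPts86.eq_of_locally_eq G _ _ fun v => ⟨T V', t V', ?_, ht V' v⟩⟩,
      Subtype.ext (funext fun E => (hx' _ E (𝟙 _)).trans (by simp))⟩
    rw [hx V', ← ConcreteCategory.comp_apply, ← Functor.map_comp, ← op_comp]
    refine SpPts86.eq_of_locally_eq G _ _ fun w => ?_
    obtain ⟨z, hz⟩ := ht V ((t V' ≫ g).hom.left.left w)
    obtain ⟨p, hp, -⟩ := exists_pullback_pt (t V' ≫ g) (t V) w z hz.symm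
    refine ⟨_, EtOver.pullbackFst (t V' ≫ g) (t V), ?_, p, hp⟩
    rw [← ConcreteCategory.comp_apply, ← Functor.map_comp, ← ConcreteCategory.comp_apply, ← Functor.map_comp,
      ← op_comp, ← op_comp, EtOver.pullback_condition, op_comp, Functor.map_comp, ConcreteCategory.comp_apply,
      hx, ← ConcreteCategory.comp_apply, ← Functor.map_comp, ← op_comp]
    exact restrFam_compat hf G τ _ _

/-- Maps out of the constant sheaves correspond along a direct image. -/
noncomputable def zPushEquiv (hY : IsAlgSpace Y) (G : AbEt X) :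
    (zSheaf X ⟶ G) ≃ (zSheaf Y ⟶ (pushEt hf AddCommGrpCat.{u + 1}).obj G) :=
  ((zEquiv G).trans (Equiv.ofBijective _ (restrFam_bijective hf hY G))).trans (zEquiv _).symm

theorem zPushEquiv_comp (hY : IsAlgSpace Y) {G G' : AbEt X} (a : zSheaf X ⟶ G) (b : G ⟶ G') :
    zPushEquiv hf hY G' (a ≫ b) = zPushEquiv hf hY G a ≫ (pushEt hf AddCommGrpCat.{u + 1}).map b := by
  apply (zEquiv _).injective
  refine Subtype.ext (funext fun E => ?_)
  rw [zEquiv_comp]
  simp only [zPushEquiv, Equiv.trans_apply, Equiv.apply_symm_apply, Equiv.ofBijective_apply]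
  exact zEquiv_comp a b _

/-- The inverse image of the constant sheaf is the constant sheaf. -/
noncomputable def pullZIso (hY : IsAlgSpace Y) :
    (pullEt hf AddCommGrpCat.{u + 1}).obj (zSheaf Y) ≅ zSheaf X where
  hom := ((pullPushAdjEt hf AddCommGrpCat.{u + 1}).homEquiv _ _).symm (zPushEquiv hf hY _ (𝟙 _))
  inv := (zPushEquiv hf hY _).symm ((pullPushAdjEt hf AddCommGrpCat.{u + 1}).homEquiv _ _ (𝟙 _))
  hom_inv_id := by
    apply ((pullPushAdjEt hf AddCommGrpCat.{u + 1}).homEquiv _ _).injective
    rw [Adjunction.homEquiv_naturality_right, Equiv.apply_symm_apply, ← zPushEquiv_comp, Category.id_comp,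
      Equiv.apply_symm_apply]
  inv_hom_id := by
    apply (zPushEquiv hf hY _).injective
    rw [zPushEquiv_comp, Equiv.apply_symm_apply, ← Adjunction.homEquiv_naturality_right, Category.id_comp,
      Equiv.apply_symm_apply]

end Constant

theorem nonempty_hEt_addEquiv (hY : IsAlgSpace Y) (h : BcAffine hf) (F : AbEt X) (hF : AffAcyclic F) (i : ℕ) :
    Nonempty (HEt X F i ≃+ HEt Y ((pushEt hf AddCommGrpCat.{u + 1}).obj F) i) := by
  obtain ⟨θ⟩ := nonempty_ext_addEquiv_of_exactClass.{u + 1} (exactClass_pushEt hf h)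
    (pullPushAdjEt hf AddCommGrpCat.{u + 1}) (zSheaf Y) (pushEt_injective hf) i F hF
  let e := pullZIso hf hY
  refine ⟨AddEquiv.trans
    { toFun := fun x => (Abelian.Ext.mk₀ e.hom).comp x (zero_add i)
      invFun := fun x => (Abelian.Ext.mk₀ e.inv).comp x (zero_add i)
      left_inv := fun x => by simp [← Abelian.Ext.comp_assoc_of_second_deg_zero]
      right_inv := fun x => by simp [← Abelian.Ext.comp_assoc_of_second_deg_zero]
      map_add' := fun x y => by simp } θ⟩

end Groth.Agent.SpQC61
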