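import Groth.Agent.SpQC61.Present

/-!
Modules whose sections over affine objects base change have presentations.
-/

set_option autoImplicit false
set_option linter.style.haveILetI false
set_option backward.isDefEq.respectTransparency false

universe u v w

open CategoryTheory CategoryTheory.Limits AlgebraicGeometry Opposite TensorProduct
open AlgSp

namespace Groth.Agent.SpQC61

/-- The kernel of a base change is spanned by the kernel. -/
theorem mem_span_of_sum_tmul_eq_zero {A B : Type u} [CommRing A] [CommRing B] [Algebra A B] {N : Type v}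
    [AddCommGroup N] [Module A N] {I J : Type w} (ν : I → N) (hν : Submodule.span A (Set.range ν) = ⊤)
    (d : J → (I →₀ A))
    (hd : Submodule.span A (Set.range d) = LinearMap.ker (Finsupp.linearCombination A ν))
    (c : I →₀ B) (hc : (c.sum fun i b => b ⊗ₜ[A] ν i) = 0) :
    c ∈ Submodule.span B (Set.range fun j => Finsupp.mapRange (algebraMap A B) (map_zero _) (d j)) := by
  let f : (J →₀ A) →ₗ[A] (I →₀ A) := Finsupp.linearCombination A d
  let g : (I →₀ A) →ₗ[A] N := Finsupp.linearCombination A ν
  have hfg : Function.Exact f g := by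
    rw [LinearMap.exact_iff, Finsupp.range_linearCombination, hd]
  have hg : Function.Surjective g := by
    rw [← LinearMap.range_eq_top, Finsupp.range_linearCombination, hν]
  let ρ : (I →₀ A) →+ (I →₀ B) := Finsupp.mapRange.addMonoidHom (algebraMap A B).toAddMonoidHom
  have hρ : ∀ (a : A) (e : I →₀ A), ρ (a • e) = algebraMap A B a • ρ e := fun a e => by
    ext i
    show algebraMap A B ((a • e) i) = (algebraMap A B a • Finsupp.mapRange (algebraMap A B) (map_zero _) e) i
    rw [Finsupp.smul_apply, Finsupp.smul_apply, Finsupp.mapRange_apply, smul_eq_mul, smul_eq_mul, map_mul]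
  let Λ : B ⊗[A] (I →₀ A) →+ (I →₀ B) := bcMap ρ hρ
  let z : B ⊗[A] (I →₀ A) := c.sum fun i b => b ⊗ₜ[A] Finsupp.single i 1
  have hz : g.lTensor B z = 0 := by
    rw [← hc, map_finsuppSum]
    refine Finsupp.sum_congr fun i _ => ?_
    rw [LinearMap.lTensor_tmul]
    simp [g]
  have hΛ : Λ z = c := by
    rw [map_finsuppSum]
    conv_rhs => rw [← Finsupp.sum_single c]
    refine Finsupp.sum_congr fun i _ => ?_
    rw [bcMap_tmul]
    simp [ρ]
  obtain ⟨y, hy⟩ := ((lTensor_exact B hfg hg) z).1 hz
  rw [← hΛ, ← hy]
  clear hy
  induction y using TensorProduct.induction_on with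
  | zero => rw [map_zero, map_zero]; exact Submodule.zero_mem _
  | add a b ha hb => rw [map_add, map_add]; exact Submodule.add_mem _ ha hb
  | tmul b e =>
    rw [LinearMap.lTensor_tmul, bcMap_tmul]
    refine Submodule.smul_mem _ b ?_
    induction e using Finsupp.induction_linear with
    | zero => rw [map_zero, map_zero]; exact Submodule.zero_mem _
    | add p q hp hq => rw [map_add, map_add]; exact Submodule.add_mem _ hp hq
    | single j a =>
      rw [Finsupp.linearCombination_single, hρ]
      exact Submodule.smul_mem _ _ (Submodule.subset_span ⟨j, rfl⟩)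

variable {S : Scheme.{u}} {X : Sp S} {E : EtOver X}

theorem eq_of_forall_affine (F : ModOver E) {o : Over E} {x y : Sect F o}
    (h : ∀ (o' : Over E) (g : o' ⟶ o), Aff o'.left → res F g x = res F g y) : x = y := by
  have key : ∀ v : ↥o.left.obj.left.left, ∃ U : o.left.obj.left.left.Opens, IsAffineOpen U ∧ v ∈ U := fun v => by
    obtain ⟨U, hU, hv, -⟩ := exists_isAffineOpen_mem_and_subset (U := (⊤ : o.left.obj.left.left.Opens)) (x := v) trivial
    exact ⟨U, hU, hv⟩
  choose U hU hv using key
  exact eq_of_cover F (V := fun v => Over.mk (openObjι o.left (U v) ≫ o.hom))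
    (fun v => Over.homMk (openObjι o.left (U v)) rfl) (fun v => ⟨v, ⟨v, hv v⟩, rfl⟩) fun v => h _ _ (hU v)

/-- Sections spanning over affine objects generate. -/
theorem epi_of_span (F : ModOver E) {I : Type (u + 1)} (s : I → F.sections)
    (hs : ∀ (o : Over E), Aff o.left → ∀ x : Sect F o,
      x ∈ Submodule.span (Γt o.left) (Set.range fun i => sectAt F s i o)) :
    Epi (F.freeHomEquiv.symm s) := by
  refine ⟨fun {G} φ ψ e => ?_⟩
  have hi : ∀ i, SheafOfModules.sectionsMap φ (s i) = SheafOfModules.sectionsMap ψ (s i) := fun i => by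
    have h1 := congrArg (fun χ => G.freeHomEquiv χ i) e
    simpa [SheafOfModules.freeHomEquiv_symm_comp] using h1
  refine SheafOfModules.hom_ext (PresheafOfModules.hom_ext fun o => ModuleCat.hom_ext (LinearMap.ext fun x => ?_))
  refine eq_of_forall_affine G (o := o.unop) (x := appS φ o.unop x) (y := appS ψ o.unop x) fun o' g ha => ?_
  rw [appS_res, appS_res]
  have hx := hs o' ha (res F g x)
  revert hx
  generalize res F g (x : Sect F o.unop) = y
  intro hy
  induction hy using Submodule.span_induction with
  | mem z hz => obtain ⟨i, rfl⟩ := hz; exact congrArg (fun t : G.sections => t.eval (op o')) (hi i)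
  | zero => rw [map_zero, map_zero]
  | add a b _ _ ha hb => rw [map_add, map_add, ha, hb]
  | smul r a _ ha => rw [map_smul, map_smul, ha]

theorem comb_mem_span {F : ModOver E} {I J : Type (u + 1)} (s : I → F.sections) (o : Over E)
    (e : J → (I →₀ Γt o.left)) {c : I →₀ Γt o.left} (hc : c ∈ Submodule.span (Γt o.left) (Set.range e)) :
    comb s o c ∈ Submodule.span (Γt o.left) (Set.range fun j => comb s o (e j)) := by
  have h := Submodule.mem_map_of_mem (f := comb s o) hc
  rw [Submodule.map_span, ← Set.range_comp] at h
  exact h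

theorem mono_appS_injective {F G : ModOver E} (φ : F ⟶ G) [Mono φ] (o : Over E) :
    Function.Injective (appS φ o) := by
  let Fn := SheafOfModules.evaluation.{u + 1} ((OEtRing X).over E) (op o)
  haveI : Mono (Fn.map φ) := by
    rw [mono_iff_isPullback]
    exact IsPullback.map Fn ((mono_iff_isPullback _).1 inferInstance)
  exact (ModuleCat.mono_iff_injective (Fn.map φ)).1 inferInstance

theorem mem_span_of_appS_mem {F G : ModOver E} (φ : F ⟶ G) {o : Over E}
    (hφ : Function.Injective (appS φ o)) {J : Type (u + 1)} (t : J → F.sections) (r : J → G.sections)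
    (ht : ∀ j, appS φ o (sectAt F t j o) = sectAt G r j o) {y : Sect F o}
    (h : appS φ o y ∈ Submodule.span (Γt o.left) (Set.range fun j => sectAt G r j o)) :
    y ∈ Submodule.span (Γt o.left) (Set.range fun j => sectAt F t j o) := by
  rw [show (fun j => sectAt G r j o) = appS φ o ∘ fun j => sectAt F t j o from funext fun j => (ht j).symm,
    Set.range_comp, ← Submodule.map_span] at h
  obtain ⟨y', hy', he⟩ := h
  exact hφ he ▸ hy'

theorem mem_span_resC_of_theta_eq_zero {o₀ : Over E} {N : Type v} [AddCommGroup N] [Module (Γt o₀.left) N]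
    {I J : Type (u + 1)} (ν : I → N) (hν : Submodule.span (Γt o₀.left) (Set.range ν) = ⊤)
    (d : J → (I →₀ Γt o₀.left))
    (hd : Submodule.span (Γt o₀.left) (Set.range d) = LinearMap.ker (Finsupp.linearCombination (Γt o₀.left) ν))
    {o : Over E} (q : o ⟶ o₀) (c : I →₀ Γt o.left) (hc : theta ν q c = 0) :
    c ∈ Submodule.span (Γt o.left) (Set.range fun j => resC q (d j)) := by
  letI := (cmap q.left).toAlgebra
  refine mem_span_of_sum_tmul_eq_zero (A := Γt o₀.left) (B := Γt o.left) ν hν d hd c (Eq.trans ?_ hc)
  clear hc
  induction c using Finsupp.induction_linear with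
  | zero => rw [map_zero, Finsupp.sum_zero_index]
  | add a b ha hb =>
    rw [map_add, ← ha, ← hb, Finsupp.sum_add_index']
    · exact fun i => TensorProduct.zero_tmul (Γt o.left) (ν i)
    · exact fun i b b' => TensorProduct.add_tmul b b' (ν i)
  | single i a =>
    rw [theta_single, Finsupp.sum_single_index]
    · rfl
    · exact TensorProduct.zero_tmul (Γt o.left) (ν i)

variable (F : ModOver E)

/-- A section over the whole slice from one over the base. -/
noncomputable def globalOf (x : Sect F (Over.mk (𝟙 E))) : F.sections :=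
  PresheafOfModules.sectionsMk
    (fun o => (res F (Over.homMk o.unop.hom (Category.comp_id _)) x : F.val.obj o)) fun o o' g => by
    show res F g.unop (res F _ x) = res F _ x
    rw [← res_comp]
    exact res_congr F (Over.w g.unop) x

theorem res_globalOf (x : Sect F (Over.mk (𝟙 E))) {o : Over E} (g : o ⟶ Over.mk (𝟙 E)) :
    ((globalOf F x).eval (op o) : Sect F o) = res F g x :=
  res_congr F (show o.hom = g.left from ((Category.comp_id g.left).symm.trans (Over.w g)).symm) x

/-- A presentation from generators and relations of the sections over the base. -/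
theorem exists_presentation {I J : Type (u + 1)} (ν : I → Sect F (Over.mk (𝟙 E)))
    (hν : Submodule.span (Γt (Over.mk (𝟙 E)).left) (Set.range ν) = ⊤) (d : J → (I →₀ Γt (Over.mk (𝟙 E)).left))
    (hd : Submodule.span (Γt (Over.mk (𝟙 E)).left) (Set.range d) = LinearMap.ker (Finsupp.linearCombination (Γt (Over.mk (𝟙 E)).left) ν))
    (hgood : ∀ (o : Over E) (g : o ⟶ Over.mk (𝟙 E)), Aff o.left →
      Function.Bijective (bc F (AddMonoidHom.id (Sect F (Over.mk (𝟙 E)))) (fun _ _ => rfl) g)) :
    ∃ P : F.Presentation, P.generators.I = I ∧ P.relations.I = J := by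
  let s : I → F.sections := fun i => globalOf F (ν i)
  let tgt : ∀ o : Over E, o ⟶ Over.mk (𝟙 E) := fun o => Over.homMk o.hom (Category.comp_id _)
  have hspan : ∀ (o : Over E), Aff o.left → ∀ x : Sect F o,
      x ∈ Submodule.span (Γt o.left) (Set.range fun i => sectAt F s i o) := fun o ha x => by
    obtain ⟨z, rfl⟩ := (hgood o (tgt o) ha).2 x
    obtain ⟨c, rfl⟩ := exists_theta ν hν (tgt o) z
    induction c using Finsupp.induction_linear with
    | zero => rw [map_zero, map_zero]; exact Submodule.zero_mem _
    | add a b ha hb => rw [map_add, map_add]; exact Submodule.add_mem _ ha hb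
    | single i a =>
      rw [theta_single, bc_tmk]
      exact Submodule.smul_mem _ a (Submodule.subset_span ⟨i, res_globalOf F (ν i) (tgt o)⟩)
  let G : F.GeneratingSections := { I := I, s := s, epi := epi_of_span F s hspan }
  let r : J → (freeOver E I).sections := fun j => globalOf _ (comb (tauS E I) (Over.mk (𝟙 E)) (d j))
  have hr : ∀ j (o : Over E), sectAt (freeOver E I) r j o = comb (tauS E I) o (resC (tgt o) (d j)) := fun j o => by
    rw [← res_comb]
    exact res_globalOf _ _ _
  have hπ : ∀ (o : Over E) (c : I →₀ Γt o.left), appS G.π o (comb (tauS E I) o c) = comb s o c := fun o c => by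
    rw [appS_comb]
    refine congrArg (fun t => comb t o c) (funext fun i => ?_)
    exact SheafOfModules.sectionsMap_freeHomEquiv_symm_freeSection s i
  have hcomb : ∀ (o : Over E) (c : I →₀ Γt o.left),
      comb s o c = bc F (AddMonoidHom.id _) (fun _ _ => rfl) (tgt o) (theta ν (tgt o) c) := fun o c => by
    induction c using Finsupp.induction_linear with
    | zero => rw [map_zero, map_zero, map_zero]
    | add a b ha hb => rw [map_add, map_add, map_add, ha, hb]
    | single i a =>
      rw [theta_single, bc_tmk, comb, Finsupp.linearCombination_single]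
      exact congrArg (fun z => a • z) (res_globalOf F (ν i) (tgt o))
  have hzero : ∀ j (o : Over E), appS G.π o (sectAt (freeOver E I) r j o) = 0 := fun j o => by
    have h0 : comb s (Over.mk (𝟙 E)) (d j) = 0 := by
      have hm : d j ∈ LinearMap.ker (Finsupp.linearCombination (Γt (Over.mk (𝟙 E)).left) ν) := by
        rw [← hd]; exact Submodule.subset_span ⟨j, rfl⟩
      refine Eq.trans ?_ (LinearMap.mem_ker.1 hm)
      refine congrArg (fun t => Finsupp.linearCombination (Γt (Over.mk (𝟙 E)).left) t (d j)) (funext fun i => ?_)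
      exact (res_globalOf F (ν i) (𝟙 _)).trans (res_id F _ _)
    rw [hr, hπ, ← res_comb, h0, map_zero]
  have hk : (SheafOfModules.freeHomEquiv _).symm r ≫ G.π = 0 := by
    refine F.freeHomEquiv.injective (funext fun j => ?_)
    rw [SheafOfModules.freeHomEquiv_symm_comp, Equiv.apply_symm_apply]
    exact PresheafOfModules.sections_ext _ _ fun o => hzero j o.unop
  let k : SheafOfModules.free J ⟶ kernel G.π := kernel.lift G.π _ hk
  let t : J → (kernel G.π).sections := (kernel G.π).freeHomEquiv k
  have ht : ∀ j (o : Over E), appS (kernel.ι G.π) o (sectAt (kernel G.π) t j o) = sectAt (freeOver E I) r j o :=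
    fun j o => by
      have h1 : SheafOfModules.sectionsMap (kernel.ι G.π) (t j) = r j := by
        have h2 : (freeOver E I).freeHomEquiv (k ≫ kernel.ι G.π) j = SheafOfModules.sectionsMap (kernel.ι G.π) (t j) :=
          SheafOfModules.freeHomEquiv_comp_apply k (kernel.ι G.π) j
        rw [← h2, kernel.lift_ι, Equiv.apply_symm_apply]
      exact congrArg (fun z : (freeOver E I).sections => z.eval (op o)) h1
  refine ⟨{ generators := G, relations := { I := J, s := t, epi := epi_of_span _ t fun o ha y => ?_ } }, rfl, rfl⟩
  haveI := ha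
  obtain ⟨c, hc⟩ := comb_tau_surjective o (appS (kernel.ι G.π) o y)
  have h₀ : appS G.π o (appS (kernel.ι G.π) o y) = 0 :=
    congrArg (fun φ : kernel G.π ⟶ F => appS φ o y) (kernel.condition G.π)
  have h₁ : comb s o c = 0 := (hπ o c).symm.trans ((congrArg (appS G.π o) hc).trans h₀)
  have hc0 : theta ν (tgt o) c = 0 := (hgood o (tgt o) ha).1
    ((hcomb o c).symm.trans (h₁.trans
      (AddMonoidHom.map_zero (bc F (AddMonoidHom.id (Sect F (Over.mk (𝟙 E)))) (fun _ _ => rfl) (tgt o))).symm))
  have hmem : c ∈ Submodule.span (Γt o.left) (Set.range fun j => resC (tgt o) (d j)) :=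
    mem_span_resC_of_theta_eq_zero ν hν d hd (tgt o) c hc0
  refine mem_span_of_appS_mem (kernel.ι G.π) (mono_appS_injective (kernel.ι G.π) o) t r (fun j => ht j o) ?_
  have h₂ := comb_mem_span (tauS E I) o (fun j => resC (tgt o) (d j)) hmem
  rw [show (fun j => comb (tauS E I) o (resC (tgt o) (d j))) = fun j => sectAt (freeOver E I) r j o from
    funext fun j => (hr j o).symm] at h₂
  exact hc ▸ h₂

end Groth.Agent.SpQC61
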