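import Groth.Agent.SpQC61.GenLocal

/-!
Epimorphisms of sheaves of modules are locally surjective on sections.
-/

set_option autoImplicit false
set_option backward.isDefEq.respectTransparency false

universe v₁ u₁

open CategoryTheory CategoryTheory.Limits Opposite

namespace Groth.Agent.SpQC61

variable {C : Type u₁} [Category.{v₁} C] {J : GrothendieckTopology C} {R : Sheaf J RingCat.{max u₁ v₁}}
  [HasSheafify J AddCommGrpCat.{max u₁ v₁}] [J.WEqualsLocallyBijective AddCommGrpCat.{max u₁ v₁}]
  {M : SheafOfModules.{max u₁ v₁} R} (P : M.val.Submodule)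

/-- Where a section lies in a sub-presheaf. -/
def inSieve {W : C} (x : M.val.obj (op W)) : Sieve W where
  arrows V v := rmap M v x ∈ P.obj (op V)
  downward_closed {V V'} v hv f := by
    show rmap M (f ≫ v) x ∈ _
    rw [rmap, op_comp, M.val.map_comp_apply]
    exact P.map_mem f.op hv

theorem inSieve_pullback {W V : C} (x : M.val.obj (op W)) (v : V ⟶ W) :
    (inSieve P x).pullback v = inSieve P (rmap M v x) := by
  ext V' f
  show rmap M (f ≫ v) x ∈ _ ↔ rmap M f (rmap M v x) ∈ _
  simp only [rmap, op_comp, M.val.map_comp_apply]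

/-- The sections locally in a sub-presheaf. -/
noncomputable def saturate : M.val.Submodule where
  obj W :=
    { carrier := {x | inSieve P (W := W.unop) x ∈ J W.unop}
      zero_mem' := J.superset_covering (fun V v _ => by
        show rmap M v (0 : M.val.obj W) ∈ _
        rw [show rmap M v (0 : M.val.obj W) = 0 from map_zero (M.val.map v.op).hom]
        exact Submodule.zero_mem _) (J.top_mem _)
      add_mem' := fun {a b} ha hb => J.superset_covering (fun V v hv => by
        show rmap M v (a + b) ∈ _
        rw [show rmap M v (a + b) = rmap M v a + rmap M v b from map_add (M.val.map v.op).hom a b]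
        exact Submodule.add_mem _ hv.1 hv.2) (J.intersection_covering ha hb)
      smul_mem' := fun r a ha => J.superset_covering (fun V v hv => by
        show rmap M v (r • a) ∈ _
        rw [rmap, M.val.map_smul]
        exact Submodule.smul_mem _ _ hv) ha }
  map {W W'} f x hx := by
    show inSieve P (rmap M f.unop x) ∈ J _
    rw [← inSieve_pullback]
    exact J.pullback_stable f.unop hx

theorem isSheaf_saturate : Presheaf.IsSheaf J (saturate P).toPresheafOfModules.presheaf := by
  rw [Presheaf.isSheaf_iff_isSheaf_forget _ _ (forget AddCommGrpCat.{max u₁ v₁}), isSheaf_iff_isSheaf_of_type]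
  have hM : Presieve.IsSheaf J (M.val.presheaf ⋙ forget AddCommGrpCat.{max u₁ v₁}) :=
    (isSheaf_iff_isSheaf_of_type _ _).1 ((Presheaf.isSheaf_iff_isSheaf_forget _ _ _).1 M.isSheaf)
  intro W S hS x hx
  let x' : Presieve.FamilyOfElements (M.val.presheaf ⋙ forget AddCommGrpCat.{max u₁ v₁}) S.arrows :=
    fun V f hf => (x f hf).val
  have hx' : x'.Compatible := fun Y₁ Y₂ Z g₁ g₂ f₁ f₂ h₁ h₂ e => congrArg Subtype.val (hx g₁ g₂ h₁ h₂ e)
  obtain ⟨t, ht, htu⟩ := hM S hS x' hx'
  have htm : inSieve P (W := W) t ∈ J W := J.transitive hS _ fun V f hf => by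
    rw [inSieve_pullback]
    have : rmap M f t = (x f hf).val := ht f hf
    rw [this]
    exact (x f hf).property
  refine ⟨⟨t, htm⟩, fun V f hf => Subtype.ext (ht f hf), fun y hy => Subtype.ext ?_⟩
  exact htu y.val fun V f hf => congrArg Subtype.val (hy f hf)

variable {N : SheafOfModules.{max u₁ v₁} R} (φ : N ⟶ M)

/-- Every section of the target of an epimorphism is locally an image. -/
theorem exists_preimage_of_epi [Epi φ] {W : C} (x : M.val.obj (op W)) :
    ∃ S ∈ J W, ∀ ⦃V : C⦄ (v : V ⟶ W), S v → ∃ y : N.val.obj (op V), φ.val.app (op V) y = rmap M v x := by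
  let P : M.val.Submodule :=
    { obj := fun V => LinearMap.range (φ.val.app V).hom
      map := fun {V V'} f => by
        rintro _ ⟨y, rfl⟩
        exact ⟨N.val.map f y, PresheafOfModules.naturality_apply φ.val f y⟩ }
  let G : SheafOfModules.{max u₁ v₁} R := ⟨(saturate P).toPresheafOfModules, isSheaf_saturate P⟩
  let ι : G ⟶ M := ⟨(saturate P).ι⟩
  haveI : Mono ι := (SheafOfModules.forget R).mono_of_mono_map (inferInstance : Mono (saturate P).ι)
  let t : N ⟶ G := ⟨PresheafOfModules.homMk
    { app := fun V => AddCommGrpCat.ofHom (AddMonoidHom.mk'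
        (fun y => (⟨φ.val.app V y, J.superset_covering (fun U u _ => by
          show rmap M u (φ.val.app V y) ∈ _
          exact ⟨N.val.map u.op y, PresheafOfModules.naturality_apply φ.val u.op y⟩) (J.top_mem _)⟩ :
            (saturate P).obj V))
        fun a b => Subtype.ext (map_add (φ.val.app V).hom a b))
      naturality := fun V V' f => AddCommGrpCat.hom_ext (AddMonoidHom.ext fun y =>
        Subtype.ext (PresheafOfModules.naturality_apply φ.val f y)) }
    fun V r y => Subtype.ext ((φ.val.app V).hom.map_smul r y)⟩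
  have e : t ≫ ι = φ := SheafOfModules.hom_ext (PresheafOfModules.hom_ext fun V =>
    ModuleCat.hom_ext (LinearMap.ext fun y => rfl))
  haveI : Epi ι := by
    have : Epi (t ≫ ι) := by rw [e]; infer_instance
    exact epi_of_epi t ι
  haveI : IsIso ι := isIso_of_mono_of_epi ι
  obtain ⟨y, rfl⟩ : ∃ y : G.val.obj (op W), ι.val.app (op W) y = x :=
    ⟨(inv ι).val.app (op W) x, by
      have h2 : inv ι ≫ ι = 𝟙 M := IsIso.inv_hom_id ι
      exact congrArg (fun φ : M ⟶ M => φ.val.app (op W) x) h2⟩
  exact ⟨_, y.property, fun V v hv => hv⟩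

end Groth.Agent.SpQC61
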