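import Groth.Agent.SpQC61.FiniteSect
import Groth.Agent.SpQC61.Crit
import Groth.Agent.SpQC61.EpiLocal
import Groth.Agent.SpFP87.NoethDesc
import Mathlib.Algebra.Module.FinitePresentation

/-!
Coherent modules on locally Noetherian spaces.
-/

set_option autoImplicit false
set_option linter.style.haveILetI false
set_option backward.isDefEq.respectTransparency false

universe u v

open CategoryTheory CategoryTheory.Limits AlgebraicGeometry Opposite TensorProduct
open AlgSp

namespace Groth.Agent.SpQC61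

variable {S : Scheme.{u}} {X : Sp S}

theorem exists_presentation_finite (M : ModEt X) {W : EtOver X} [Aff W] (hgood : GoodM M W)
    (hfp : Module.FinitePresentation (Γt W) (SectM M W)) :
    ∃ P : (M.over W).Presentation, P.IsFinite := by
  haveI : Module.FinitePresentation (Γt (Over.mk (𝟙 W)).left) (Sect (M.over W) (Over.mk (𝟙 W))) := hfp
  obtain ⟨n, f, hf⟩ := Module.Finite.exists_fin' (Γt (Over.mk (𝟙 W)).left) (Sect (M.over W) (Over.mk (𝟙 W)))
  let ν : ULift.{u + 1} (Fin n) → Sect (M.over W) (Over.mk (𝟙 W)) := fun i => f (Pi.single i.down 1)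
  let g := Finsupp.linearCombination (Γt (Over.mk (𝟙 W)).left) ν
  have hν : Submodule.span (Γt (Over.mk (𝟙 W)).left) (Set.range ν) = ⊤ := by
    rw [eq_top_iff, ← LinearMap.range_eq_top.2 hf]
    rintro _ ⟨a, rfl⟩
    classical
    rw [pi_eq_sum_univ' a, map_sum]
    refine Submodule.sum_mem _ fun i _ => ?_
    rw [map_smul]
    exact Submodule.smul_mem _ _ (Submodule.subset_span ⟨⟨i⟩, rfl⟩)
  have hsurj : Function.Surjective g := by
    rw [← LinearMap.range_eq_top, Finsupp.range_linearCombination, hν]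
  obtain ⟨m, d, hd⟩ := Submodule.fg_iff_exists_fin_generating_family.1 (Module.FinitePresentation.fg_ker g hsurj)
  obtain ⟨P, hI, hJ⟩ := exists_presentation (M.over W) (J := ULift.{u + 1} (Fin m)) ν hν (fun j => d j.down) (by
    rw [← hd]
    exact congrArg (Submodule.span _) (Equiv.ulift.surjective.range_comp d))
    (fun o g ha => hgood o.left g.left ha)
  refine ⟨P, { isFiniteType_generators := ⟨?_⟩, isFiniteType_relations := ⟨?_⟩ }⟩
  · rw [hI]; infer_instance
  · rw [hJ]; infer_instance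

/-- Finite presentation from local data. -/
theorem isFinitePresentation_of_local (M : ModEt X)
    (h : ∀ (V : EtOver X) (v : ↥V.obj.left.left), ∃ (W : EtOver X) (g : W ⟶ V), Aff W ∧
      v ∈ Set.range g.hom.left.left ∧ GoodM M W ∧ Module.FinitePresentation (Γt W) (SectM M W)) :
    M.IsFinitePresentation := by
  let I := {W : EtOver X // Aff W ∧ GoodM M W ∧ Module.FinitePresentation (Γt W) (SectM M W)}
  have hP : ∀ i : I, ∃ P : (M.over i.1).Presentation, P.IsFinite := fun i =>
    haveI := i.2.1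
    exists_presentation_finite M i.2.2.1 i.2.2.2
  have hcov : (etTop X).CoversTop (fun i : I => i.1) := fun V => by
    refine SpPts86.mem_etTop_of_forall _ fun v => ?_
    obtain ⟨W, g, hW, hv, hgood, hfp⟩ := h V v
    exact ⟨W, g, ⟨⟨W, hW, hgood, hfp⟩, ⟨𝟙 _⟩⟩, hv⟩
  refine SheafOfModules.IsFinitePresentation.mk (M := M) ?_
  refine ⟨SheafOfModules.QuasicoherentData.mk (M := M) I (fun i => i.1) hcov (fun i => (hP i).choose), ?_⟩
  constructor
  exact fun i => (hP i).choose_spec

theorem isNoetherianRing_gamma (hX : IsAlgSpace X) (hN : IsLocNoethSp X) (E : EtOver X) [Aff E] :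
    IsNoetherianRing (Γt E) := by
  haveI : IsLocallyNoetherian E.obj.left.left := SpFP87.isLocallyNoetherian_chart hX hN E.property
  exact IsLocallyNoetherian.component_noetherian ⟨⊤, isAffineOpen_top _⟩

theorem isFinitePresentation_of_finite (hX : IsAlgSpace X) (hN : IsLocNoethSp X) (M : ModEt X)
    (h : ∀ (E : EtOver X), Aff E → GoodM M E ∧ Module.Finite (Γt E) (SectM M E)) : M.IsFinitePresentation := by
  refine isFinitePresentation_of_local M fun V v => ?_
  obtain ⟨U, hU, hvU, -⟩ := exists_isAffineOpen_mem_and_subset (U := (⊤ : V.obj.left.left.Opens)) (x := v) trivial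
  haveI : Aff (openObj V U) := hU
  haveI := isNoetherianRing_gamma hX hN (openObj V U)
  haveI := (h (openObj V U) hU).2
  exact ⟨openObj V U, openObjι V U, hU, ⟨⟨v, hvU⟩, rfl⟩, (h (openObj V U) hU).1, Module.finitePresentation_of_finite _ _⟩

theorem exists_cover_preimage {M N : ModEt X} (φ : M ⟶ N) [Epi φ] {E : EtOver X} [Aff E] (x : SectM N E) :
    ∃ (m : ℕ) (V : Fin m → EtOver X) (g : ∀ k, V k ⟶ E), (∀ k, Aff (V k)) ∧
      (∀ v : ↥E.obj.left.left, ∃ k, v ∈ Set.range (g k).hom.left.left) ∧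
      ∀ k, ∃ y : SectM M (V k), appM φ (V k) y = resM N (g k) x := by
  obtain ⟨R, hR, hy⟩ := exists_preimage_of_epi φ (W := E) x
  obtain ⟨m, V, g, hV, hg, hs⟩ := exists_finite_affine_cover hR
  exact ⟨m, V, g, hV, hs, fun k => hy (g k) (hg k)⟩

theorem span_resM_eq_top {M : ModEt X} {V E : EtOver X} (g : V ⟶ E) [Aff V] (hE : GoodM M E) (y : SectM M V)
    (T : Set (SectM M E)) (hT : Submodule.span (Γt E) T = ⊤) :
    y ∈ Submodule.span (Γt V) (resM M g '' T) := by
  letI := (cmap g).toAlgebra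
  obtain ⟨z, rfl⟩ := (hE V g ‹_›).2 y
  induction z using TensorProduct.induction_on with
  | zero => rw [show bcM M g 0 = 0 from map_zero _]; exact Submodule.zero_mem _
  | add p q hp hq =>
    rw [show bcM M g (p + q) = bcM M g p + bcM M g q from map_add _ _ _]
    exact Submodule.add_mem _ hp hq
  | tmul b n =>
    refine Submodule.smul_mem _ b ?_
    have hn : n ∈ Submodule.span (Γt E) T := by rw [hT]; trivial
    induction hn using Submodule.span_induction with
    | mem t ht => exact Submodule.subset_span ⟨t, ht, rfl⟩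
    | zero => rw [map_zero]; exact Submodule.zero_mem _
    | add p q _ _ hp hq => rw [map_add]; exact Submodule.add_mem _ hp hq
    | smul r p _ hp => rw [resM_smul]; exact Submodule.smul_mem _ _ hp

theorem appM_surjective_of_epi {M N : ModEt X} [M.IsQuasicoherent] [N.IsQuasicoherent] (φ : M ⟶ N) [Epi φ]
    (E : EtOver X) [Aff E] : Function.Surjective (appM φ E) := fun x => by
  obtain ⟨m, V, g, hV, hs, hy⟩ := exists_cover_preimage φ x
  suffices h : x ∈ Submodule.span (Γt E) (Set.range (appM φ E)) by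
    rw [← LinearMap.coe_range, Submodule.span_eq] at h
    exact h
  refine mem_span_of_cover g hV hs _ x fun k => ?_
  obtain ⟨y, hy⟩ := hy k
  haveI := hV k
  rw [← hy]
  have h := Submodule.mem_map_of_mem (f := appM φ (V k))
    (span_resM_eq_top (g k) (goodM_of_isQuasicoherent M E) y Set.univ Submodule.span_univ)
  rw [Submodule.map_span] at h
  refine Submodule.span_mono ?_ h
  rintro _ ⟨_, ⟨t, -, rfl⟩, rfl⟩
  exact ⟨appM φ E t, ⟨t, rfl⟩, resM_appM φ (g k) t⟩

theorem isFinitePresentation_of_finiteType (hX : IsAlgSpace X) (hN : IsLocNoethSp X) (M : ModEt X)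
    [M.IsQuasicoherent] [M.IsFiniteType] : M.IsFinitePresentation :=
  isFinitePresentation_of_finite hX hN M fun E _ => ⟨goodM_of_isQuasicoherent M E, finite_sectM M E⟩

theorem isFinitePresentation_of_mono (hX : IsAlgSpace X) (hN : IsLocNoethSp X) {M N : ModEt X}
    [M.IsFinitePresentation] (ι : N ⟶ M) [Mono ι] [N.IsQuasicoherent] : N.IsFinitePresentation :=
  isFinitePresentation_of_finite hX hN N fun E _ => by
    haveI := isNoetherianRing_gamma hX hN E
    haveI := finite_sectM M E
    exact ⟨goodM_of_isQuasicoherent N E, Module.Finite.of_injective (appM ι E) (appM_injective ι E)⟩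

theorem isFinitePresentation_of_epi (hX : IsAlgSpace X) (hN : IsLocNoethSp X) {M Q : ModEt X}
    [M.IsFinitePresentation] (π : M ⟶ Q) [Epi π] [Q.IsQuasicoherent] : Q.IsFinitePresentation :=
  isFinitePresentation_of_finite hX hN Q fun E _ => by
    haveI := finite_sectM M E
    exact ⟨goodM_of_isQuasicoherent Q E, Module.Finite.of_surjective (appM π E) (appM_surjective_of_epi π E)⟩

section Five

variable {M₁ M₂ : ModEt X} (φ : M₁ ⟶ M₂) {E' E : EtOver X} (g : E' ⟶ E)

/-- The base change of a morphism on sections. -/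
theorem bcM_lTensor : letI := (cmap g).toAlgebra
    ∀ z : Γt E' ⊗[Γt E] SectM M₁ E, bcM M₂ g ((appM φ E).lTensor (Γt E') z) = appM φ E' (bcM M₁ g z) := by
  letI := (cmap g).toAlgebra
  intro z
  induction z using TensorProduct.induction_on with
  | zero =>
    rw [LinearMap.map_zero, show bcM M₁ g 0 = 0 from map_zero _, show bcM M₂ g 0 = 0 from map_zero _,
      LinearMap.map_zero]
  | tmul b n =>
    rw [LinearMap.lTensor_tmul]
    show b • resM M₂ g (appM φ E n) = appM φ E' (b • resM M₁ g n)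
    rw [LinearMap.map_smul, resM_appM]
  | add p q hp hq =>
    rw [LinearMap.map_add, show bcM M₁ g (p + q) = bcM M₁ g p + bcM M₁ g q from map_add _ _ _,
      LinearMap.map_add, ← hp, ← hq]
    exact map_add _ _ _

end Five

theorem goodM_kernel {M N : ModEt X} [M.IsQuasicoherent] [N.IsQuasicoherent] (φ : M ⟶ N) (E : EtOver X)
    [Aff E] : GoodM (kernel φ) E := fun E' g ha => by
  haveI := ha
  letI := (cmap g).toAlgebra
  haveI : Module.Flat (Γt E) (Γt E') := flat_cmap g
  have hex : Function.Exact (appM (kernel.ι φ) E) (appM φ E) := fun x =>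
    ⟨fun hx => exists_kernel_preimage φ x hx, fun ⟨y, hy⟩ => by
      rw [← hy]; exact congrArg (fun ψ : kernel φ ⟶ N => appM ψ E y) (kernel.condition φ)⟩
  refine ⟨(injective_iff_map_eq_zero _).2 fun z hz => ?_, fun y => ?_⟩
  · refine Module.Flat.lTensor_preserves_injective_linearMap _ (appM_injective (kernel.ι φ) E) ?_
    rw [LinearMap.map_zero]
    refine (bcM_bijective M g).1 ((bcM_lTensor (kernel.ι φ) g z).trans ?_)
    rw [hz, LinearMap.map_zero]
    exact (map_zero (bcM M g)).symm
  · obtain ⟨w, hw⟩ := (bcM_bijective M g).2 (appM (kernel.ι φ) E' y)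
    obtain ⟨z, hz⟩ := (Module.Flat.lTensor_exact (M := Γt E') hex w).1 ((bcM_bijective N g).1 (by
      rw [bcM_lTensor, hw, show bcM N g 0 = 0 from map_zero _]
      exact congrArg (fun ψ : kernel φ ⟶ N => appM ψ E' y) (kernel.condition φ)))
    refine ⟨z, appM_injective (kernel.ι φ) E' ?_⟩
    rw [← bcM_lTensor, hz, hw]

section Coker

variable {M₁ M₂ Q : ModEt X} [M₁.IsQuasicoherent] [M₂.IsQuasicoherent] (φ : M₁ ⟶ M₂) (π : M₂ ⟶ Q) [Epi π]
  (hloc : ∀ (E : EtOver X), Aff E → ∀ x : SectM M₂ E, appM π E x = 0 →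
    ∃ (m : ℕ) (V : Fin m → EtOver X) (g : ∀ k, V k ⟶ E), (∀ k, Aff (V k)) ∧
      (∀ v : ↥E.obj.left.left, ∃ k, v ∈ Set.range (g k).hom.left.left) ∧
      ∀ k, ∃ y : SectM M₁ (V k), appM φ (V k) y = resM M₂ (g k) x)
include hloc

theorem bc_coker_bijective {E : EtOver X} [Aff E] {N : Type v} [AddCommGroup N]
    [Module (Γt (Over.mk (𝟙 E)).left) N] (p : Sect (M₂.over E) (Over.mk (𝟙 E)) →ₗ[Γt (Over.mk (𝟙 E)).left] N)
    (hp : Function.Surjective p) (hpφ : ∀ y : SectM M₁ E, p (appM φ E y : SectM M₂ E) = 0)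
    (h : N →+ Sect (Q.over E) (Over.mk (𝟙 E))) (hh : ∀ (a : Γt (Over.mk (𝟙 E)).left) (n : N), h (a • n) = a • h n)
    (hhp : ∀ x : SectM M₂ E, h (p x) = (appM π E x : SectM Q E))
    {o' : Over E} (q : o' ⟶ Over.mk (𝟙 E)) (ha : Aff o'.left) :
    Function.Bijective (bc (Q.over E) h hh q) := by
  refine bc_bijective (Q.over E) h hh (fun o q ha s => ?_) (fun o q ha x hx => ?_) q ha
  · haveI := ha
    obtain ⟨m, V, g, hV, hs, hy⟩ := exists_cover_preimage π (E := o.left) s
    refine ⟨m, fun k => Over.mk (g k ≫ o.hom), fun k => Over.homMk (g k) rfl, ⟨hV, hs⟩, fun k => ?_⟩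
    obtain ⟨y, hy⟩ := hy k
    haveI := hV k
    have h' := Submodule.mem_map_of_mem (f := appM π (V k))
      (span_resM_eq_top (g k ≫ q.left) (goodM_of_isQuasicoherent M₂ E) y Set.univ Submodule.span_univ)
    rw [Submodule.map_span, hy] at h'
    refine Submodule.span_mono ?_ h'
    rintro _ ⟨_, ⟨t, -, rfl⟩, rfl⟩
    refine ⟨p t, ?_⟩
    exact (congrArg (resM Q (g k ≫ q.left)) (hhp t)).trans (resM_appM π (g k ≫ q.left) t)
  · haveI := ha
    letI := (cmap q.left).toAlgebra
    obtain ⟨z, rfl⟩ : ∃ z, p.lTensor (Γt o.left) z = x := LinearMap.lTensor_surjective _ hp x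
    have key : ∀ w : Γt o.left ⊗[Γt (Over.mk (𝟙 E)).left] Sect (M₂.over E) (Over.mk (𝟙 E)),
        bc (Q.over E) h hh q (p.lTensor (Γt o.left) w) = (appM π o.left (bcM M₂ q.left w) : SectM Q o.left) :=
      fun w => by
        induction w using TensorProduct.induction_on with
        | zero =>
          rw [LinearMap.map_zero, show bcM M₂ q.left 0 = 0 from map_zero _, LinearMap.map_zero]
          exact map_zero _
        | tmul b n =>
          rw [LinearMap.lTensor_tmul]
          show b • resM Q q.left (h (p n)) = appM π o.left (b • resM M₂ q.left n)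
          rw [LinearMap.map_smul]
          exact congrArg (b • ·) ((congrArg (resM Q q.left) (hhp n)).trans (resM_appM π q.left n))
        | add a b ha hb =>
          rw [LinearMap.map_add, show bcM M₂ q.left (a + b) = bcM M₂ q.left a + bcM M₂ q.left b from map_add _ _ _,
            LinearMap.map_add, ← ha, ← hb]
          exact map_add _ _ _
    obtain ⟨m, V, g, hV, hs, hy⟩ := hloc o.left ha (bcM M₂ q.left z) ((key z).symm.trans hx)
    refine ⟨m, fun k => Over.mk (g k ≫ o.hom), fun k => Over.homMk (g k) rfl, ⟨hV, hs⟩, fun k => ?_⟩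
    obtain ⟨y, hy⟩ := hy k
    haveI := hV k
    letI : Algebra (Γt E) (Γt (V k)) := (cmap (g k ≫ q.left)).toAlgebra
    letI : Algebra (Γt (Over.mk (𝟙 E)).left) (Γt (V k)) := (cmap (g k ≫ q.left)).toAlgebra
    obtain ⟨w, hw⟩ := (goodM_of_isQuasicoherent M₁ E (V k) (g k ≫ q.left) ‹_›).2 y
    let v : Over.mk (g k ≫ o.hom) ⟶ o := Over.homMk (g k) rfl
    have h1 : bcM M₂ (g k ≫ q.left) (tenMap v (rfl : v ≫ q = v ≫ q) z) = resM M₂ (g k) (bcM M₂ q.left z) :=
      bc_tenMap (M₂.over E) (AddMonoidHom.id _) (fun _ _ => rfl) v (rfl : v ≫ q = v ≫ q) z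
    have h2 : tenMap v (rfl : v ≫ q = v ≫ q) z = (appM φ E).lTensor (Γt (V k)) w :=
      (goodM_of_isQuasicoherent M₂ E (V k) (g k ≫ q.left) ‹_›).1 (h1.trans (hy.symm.trans
        ((congrArg (appM φ (V k)) hw).symm.trans (bcM_lTensor φ (g k ≫ q.left) w).symm)))
    have h3 : ∀ w' : Γt o.left ⊗[Γt (Over.mk (𝟙 E)).left] Sect (M₂.over E) (Over.mk (𝟙 E)),
        tenMap v (rfl : v ≫ q = v ≫ q) (p.lTensor (Γt o.left) w') =
          p.lTensor (Γt (V k)) (tenMap v (rfl : v ≫ q = v ≫ q) w') := fun w' => by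
      induction w' using TensorProduct.induction_on with
      | zero => rw [LinearMap.map_zero, map_zero, map_zero, LinearMap.map_zero]
      | tmul b n => rfl
      | add a b ha hb => rw [LinearMap.map_add, map_add, map_add, LinearMap.map_add, ha, hb]
    rw [h3, h2]
    clear hw h2
    induction w using TensorProduct.induction_on with
    | zero => rw [LinearMap.map_zero, LinearMap.map_zero]
    | tmul b n =>
      rw [LinearMap.lTensor_tmul]
      exact (congrArg (b ⊗ₜ[Γt (Over.mk (𝟙 E)).left] ·) (hpφ n)).trans (TensorProduct.tmul_zero _ b)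
    | add a b ha hb => rw [LinearMap.map_add, LinearMap.map_add]; exact (congrArg₂ (· + ·) ha hb).trans (add_zero _)

theorem coker_good (hπφ : φ ≫ π = 0) (E : EtOver X) [Aff E] :
    GoodM Q E ∧ Function.Surjective (appM π E) := by
  haveI hao : Aff (Over.mk (𝟙 E)).left := ‹_›
  let πE : Sect (M₂.over E) (Over.mk (𝟙 E)) →ₗ[Γt (Over.mk (𝟙 E)).left] Sect (Q.over E) (Over.mk (𝟙 E)) := appM π E
  have hsurj : Function.Surjective (appM π E) := by
    intro x
    let R : Submodule (Γt (Over.mk (𝟙 E)).left) (Sect (M₂.over E) (Over.mk (𝟙 E))) := LinearMap.ker πE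
    obtain ⟨z, hz⟩ := (bc_coker_bijective φ π hloc R.mkQ R.mkQ_surjective (fun y => by
      rw [Submodule.mkQ_apply, Submodule.Quotient.mk_eq_zero]
      exact congrArg (fun ψ : M₁ ⟶ Q => appM ψ E y) hπφ)
      (R.liftQ πE le_rfl).toAddMonoidHom (fun a n => (R.liftQ πE le_rfl).map_smul a n) (fun x => rfl)
      (𝟙 _) hao).2 x
    rw [← hz]
    clear hz
    induction z using ten_induction with
    | h0 => exact ⟨0, by rw [map_zero, map_zero]⟩
    | ht a n =>
      obtain ⟨n', rfl⟩ := R.mkQ_surjective n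
      let a' : Γt E := a
      let n'' : SectM M₂ E := n'
      refine ⟨a' • n'', ?_⟩
      rw [bc_tmk, res_id]
      exact (appM π E).map_smul a' n''
    | ha p q hp hq =>
      obtain ⟨p', hp⟩ := hp
      obtain ⟨q', hq⟩ := hq
      exact ⟨p' + q', by rw [map_add, map_add, hp, hq]⟩
  refine ⟨fun E' g ha => ?_, hsurj⟩
  exact bc_coker_bijective φ π hloc πE hsurj (fun y => congrArg (fun ψ : M₁ ⟶ Q => appM ψ E y) hπφ)
    (AddMonoidHom.id _) (fun _ _ => rfl) (fun x => rfl) (Over.homMk g (Category.comp_id _) : Over.mk g ⟶ Over.mk (𝟙 E)) ha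

end Coker

theorem isFinitePresentation_kernel_cokernel (hX : IsAlgSpace X) (hN : IsLocNoethSp X) {M N : ModEt X}
    [M.IsFinitePresentation] [N.IsFinitePresentation] (φ : M ⟶ N) :
    (kernel φ).IsFinitePresentation ∧ (cokernel φ).IsFinitePresentation := by
  refine ⟨isFinitePresentation_of_finite hX hN _ fun E _ => ?_,
    isFinitePresentation_of_finite hX hN _ fun E _ => ?_⟩
  · haveI := isNoetherianRing_gamma hX hN E
    haveI := finite_sectM M E
    exact ⟨goodM_kernel φ E, Module.Finite.of_injective (appM (kernel.ι φ) E) (appM_injective (kernel.ι φ) E)⟩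
  · have hloc : ∀ (E' : EtOver X), Aff E' → ∀ x : SectM N E', appM (cokernel.π φ) E' x = 0 →
        ∃ (m : ℕ) (V : Fin m → EtOver X) (g : ∀ k, V k ⟶ E'), (∀ k, Aff (V k)) ∧
          (∀ v : ↥E'.obj.left.left, ∃ k, v ∈ Set.range (g k).hom.left.left) ∧
          ∀ k, ∃ y : SectM M (V k), appM φ (V k) y = resM N (g k) x := fun E' ha x hx => by
      haveI := ha
      obtain ⟨k₀, hk₀⟩ := exists_kernel_preimage (cokernel.π φ) x hx
      haveI : Epi (Abelian.factorThruImage φ) := inferInstance
      obtain ⟨m, V, g, hV, hs, hy⟩ := exists_cover_preimage (Abelian.factorThruImage φ)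
        (k₀ : SectM (Abelian.image φ) E')
      refine ⟨m, V, g, hV, hs, fun k => ?_⟩
      obtain ⟨y, hy⟩ := hy k
      refine ⟨y, ?_⟩
      have h1 : appM φ (V k) y = appM (Abelian.image.ι φ) (V k) (appM (Abelian.factorThruImage φ) (V k) y) :=
        (congrArg (fun ψ : M ⟶ N => appM ψ (V k) y) (Abelian.image.fac φ)).symm
      rw [h1, hy, ← resM_appM]
      exact congrArg (resM N (g k)) hk₀
    obtain ⟨hg, hs⟩ := coker_good φ (cokernel.π φ) hloc (cokernel.condition φ) E
    haveI := finite_sectM N E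
    exact ⟨hg, Module.Finite.of_surjective _ hs⟩

theorem isFinitePresentation_of_shortExact (hX : IsAlgSpace X) (hN : IsLocNoethSp X)
    (T : ShortComplex (ModEt X)) (hT : T.ShortExact) [T.X₁.IsFinitePresentation] [T.X₃.IsFinitePresentation] :
    T.X₂.IsFinitePresentation := by
  haveI := hT.mono_f
  haveI := hT.epi_g
  refine isFinitePresentation_of_local T.X₂ fun V v => ?_
  obtain ⟨U, hU, hvU, -⟩ := exists_isAffineOpen_mem_and_subset (U := (⊤ : V.obj.left.left.Opens)) (x := v) trivial
  let E := openObj V U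
  haveI : Aff E := hU
  haveI := finite_sectM T.X₃ E
  obtain ⟨n, f, hf⟩ := Module.Finite.exists_fin' (Γt E) (SectM T.X₃ E)
  choose R hR hRy using fun i : Fin n => exists_preimage_of_epi T.g (W := E) (f (Pi.single i 1) : SectM T.X₃ E)
  have hall : (⨅ i, R i) ∈ etTop X E := by
    classical
    have : ∀ s : Finset (Fin n), (⨅ i ∈ s, R i) ∈ etTop X E := fun s => by
      induction s using Finset.induction with
      | empty => simp
      | insert a s _ ih =>
        rw [Finset.iInf_insert]
        exact (etTop X).intersection_covering (hR a) ih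
    simpa using this Finset.univ
  obtain ⟨W, g, hgR, w, hw⟩ := SpPts86.exists_mem_range_of_mem_etTop hall (⟨v, hvU⟩ : U)
  obtain ⟨U', hU', hwU', -⟩ := exists_isAffineOpen_mem_and_subset (U := (⊤ : W.obj.left.left.Opens)) (x := w) trivial
  let W' := openObj W U'
  haveI : Aff W' := hU'
  let g' : W' ⟶ E := openObjι W U' ≫ g
  refine ⟨W', g' ≫ openObjι V U, hU', ⟨(⟨w, hwU'⟩ : U'), by
    show (U.ι : _ → _) (g.hom.left.left w) = v
    rw [hw]
    rfl⟩, ?_⟩
  have hlift : ∀ i, ∃ y : SectM T.X₂ W', appM T.g W' y = resM T.X₃ g' (f (Pi.single i 1)) := fun i =>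
    hRy i g' ((R i).downward_closed ((iInf_le R i) _ hgR) _)
  have hT' : Submodule.span (Γt E) (Set.range fun i => f (Pi.single i 1)) = ⊤ := by
    rw [eq_top_iff, ← LinearMap.range_eq_top.2 hf]
    rintro _ ⟨a, rfl⟩
    classical
    rw [pi_eq_sum_univ' a, map_sum]
    refine Submodule.sum_mem _ fun i _ => ?_
    rw [map_smul]
    exact Submodule.smul_mem _ _ (Submodule.subset_span ⟨i, rfl⟩)
  have hsurj : ∀ (E' : EtOver X) (b : E' ⟶ W'), Aff E' → Function.Surjective (appM T.g E') := fun E' b ha x => by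
    haveI := ha
    have hx := span_resM_eq_top (b ≫ g') (goodM_of_isQuasicoherent T.X₃ E) x _ hT'
    induction hx using Submodule.span_induction with
    | mem z hz =>
      obtain ⟨_, ⟨i, rfl⟩, rfl⟩ := hz
      obtain ⟨y, hy⟩ := hlift i
      exact ⟨resM T.X₂ b y, by rw [← resM_appM, hy]; exact (resM_comp T.X₃ b g' _).symm⟩
    | zero => exact ⟨0, map_zero _⟩
    | add p q _ _ hp hq =>
      obtain ⟨p', rfl⟩ := hp
      obtain ⟨q', rfl⟩ := hq
      exact ⟨p' + q', map_add _ _ _⟩
    | smul r p _ hp =>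
      obtain ⟨p', rfl⟩ := hp
      exact ⟨r • p', map_smul _ _ _⟩
  have hex := exact_appM T hT
  refine ⟨fun E' b ha => ?_, ?_⟩
  · haveI := ha
    letI := (cmap b).toAlgebra
    have hrt := lTensor_exact (Γt E') (hex W') (hsurj W' (𝟙 _) ‹_›)
    have h₁ := goodM_of_isQuasicoherent T.X₁ W' E' b ha
    have h₃ := goodM_of_isQuasicoherent T.X₃ W' E' b ha
    refine ⟨(injective_iff_map_eq_zero _).2 fun z hz => ?_, fun y => ?_⟩
    · obtain ⟨w, rfl⟩ := (hrt z).1 (h₃.1 (by
        rw [bcM_lTensor, hz, LinearMap.map_zero]; exact (map_zero _).symm))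
      have : bcM T.X₁ b w = 0 := appM_injective T.f E' (by rw [← bcM_lTensor, hz, LinearMap.map_zero])
      rw [h₁.1 (this.trans (map_zero _).symm), LinearMap.map_zero]
    · obtain ⟨u, hu⟩ := h₃.2 (appM T.g E' y)
      obtain ⟨u', rfl⟩ := LinearMap.lTensor_surjective _ (hsurj W' (𝟙 _) ‹_›) u
      rw [bcM_lTensor] at hu
      obtain ⟨x, hx⟩ := (hex E' (y - bcM T.X₂ b u')).1 (by rw [map_sub, hu, sub_self])
      obtain ⟨w, rfl⟩ := h₁.2 x
      refine ⟨u' + (appM T.f W').lTensor (Γt E') w, ?_⟩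
      rw [show bcM T.X₂ b (u' + _) = bcM T.X₂ b u' + bcM T.X₂ b ((appM T.f W').lTensor (Γt E') w) from
        map_add _ _ _, bcM_lTensor, hx, add_sub_cancel]
  · haveI := isNoetherianRing_gamma hX hN W'
    haveI := finite_sectM T.X₁ W'
    haveI := finite_sectM T.X₃ W'
    haveI : Module.Finite (Γt W') (SectM T.X₂ W') :=
      Module.Finite.of_exact (f := appM T.f W') (g := appM T.g W') (hex W') (hsurj W' (𝟙 _) ‹_›)
    exact Module.finitePresentation_of_finite _ _

end Groth.Agent.SpQC61
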