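import Groth.Agent.SpQC61.Coherent
import Groth.Agent.SpQC86.PushQC

/-! Direct images of coherent modules along finite morphisms are coherent. -/

set_option autoImplicit false
set_option linter.style.haveILetI false
set_option backward.isDefEq.respectTransparency false

universe u

open CategoryTheory CategoryTheory.Limits AlgebraicGeometry Opposite
open AlgSp

namespace Groth.Agent.SpQC61

variable {S : Scheme.{u}} {X Y : Sp S} {f : X ⟶ Y} (hf : Representable f)

theorem aff_bc_and_finite_of_isFiniteMor (h : IsFiniteMor f) (E : EtOver Y) [Aff E] :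
    Aff ((EtOver.bc hf).obj E) ∧ (SpQC86.bcΓ hf E).Finite := by
  obtain ⟨W, i, fst, sq, hW, hi⟩ := h ‹Aff E› E.obj.hom
  obtain ⟨θ, hθ⟩ := (yon S).map_surjective ((hf.isPullback E.obj.hom).isoIsPullback _ _ sq).hom
  haveI : IsIso ((yon S).map θ) := hθ ▸ inferInstance
  haveI : IsIso θ := isIso_of_fully_faithful (yon S) θ
  haveI : IsAffine ((Over.forget S).obj W) := hW
  haveI hA : Aff ((EtOver.bc hf).obj E) := IsAffine.of_isIso ((Over.forget S).map θ)
  refine ⟨hA, ?_⟩
  have hsnd : θ ≫ i = hf.snd E.obj.hom := (yon S).map_injective (by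
    rw [Functor.map_comp, hθ]
    exact IsPullback.isoIsPullback_hom_snd _ _ _ _)
  haveI : IsFinite (hf.snd E.obj.hom).left := by
    rw [← hsnd]
    haveI : IsIso θ.left := inferInstanceAs (IsIso ((Over.forget S).map θ))
    exact inferInstanceAs (IsFinite (θ.left ≫ i.left))
  exact IsFinite.finite_app (hf.snd E.obj.hom).left ⊤ (isAffineOpen_top _)

theorem goodM_push_of_isFiniteMor (h : IsFiniteMor f) (M : ModEt X) [M.IsQuasicoherent] (E : EtOver Y) [Aff E] :
    GoodM ((pushModEt hf).obj M) E := fun E' g hE' => by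
  haveI := hE'
  haveI := (aff_bc_and_finite_of_isFiniteMor hf h E).1
  exact SpQC86.goodM_push hf g M

theorem finite_sectM_push (h : IsFiniteMor f) (M : ModEt X) [M.IsQuasicoherent] [M.IsFiniteType]
    (E : EtOver Y) [Aff E] : Module.Finite (Γt E) (SectM ((pushModEt hf).obj M) E) := by
  obtain ⟨hA, hfin⟩ := aff_bc_and_finite_of_isFiniteMor hf h E
  haveI := hA
  letI := (SpQC86.bcΓ hf E).toAlgebra
  letI : Module (Γt E) (SectM M ((EtOver.bc hf).obj E)) := Module.compHom _ (SpQC86.bcΓ hf E)
  haveI : IsScalarTower (Γt E) (Γt ((EtOver.bc hf).obj E)) (SectM M ((EtOver.bc hf).obj E)) :=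
    ⟨fun a b x => mul_smul (SpQC86.bcΓ hf E a) b x⟩
  haveI : Module.Finite (Γt E) (Γt ((EtOver.bc hf).obj E)) := hfin
  haveI := finite_sectM M ((EtOver.bc hf).obj E)
  haveI := Module.Finite.trans (R := Γt E) (Γt ((EtOver.bc hf).obj E)) (SectM M ((EtOver.bc hf).obj E))
  exact Module.Finite.of_surjective
    ({ toFun := fun x => x, map_add' := fun _ _ => rfl, map_smul' := fun _ _ => rfl } :
      SectM M ((EtOver.bc hf).obj E) →ₗ[Γt E] SectM ((pushModEt hf).obj M) E) fun x => ⟨x, rfl⟩

theorem isFinitePresentation_push_of_isFiniteMor (hY : IsAlgSpace Y) (hN : IsLocNoethSp Y) (h : IsFiniteMor f)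
    (M : ModEt X) [M.IsQuasicoherent] [M.IsFiniteType] : ((pushModEt hf).obj M).IsFinitePresentation :=
  isFinitePresentation_of_finite hY hN _ fun E hE =>
    haveI := hE
    ⟨goodM_push_of_isFiniteMor hf h M E, finite_sectM_push hf h M E⟩

end Groth.Agent.SpQC61
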