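import Groth.Agent.SpQC61.StalkNbhd
import Groth.Agent.SpPts86.Compact

/-! Quasi-coherent submodules of a coherent module on a Noetherian algebraic space. -/

universe u

set_option autoImplicit false
set_option backward.isDefEq.respectTransparency false

open CategoryTheory CategoryTheory.Limits AlgebraicGeometry Opposite
open AlgSp Groth.Agent.SpFP87 Groth.Agent.SpPts86

namespace Groth.Agent.SpQC61

variable {S : Scheme.{u}} {X : Sp S}

theorem exists_finite_affine_atlas (hX : IsAlgSpace X) (hqc : IsQuasiCompactSp X) :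
    ∃ (m : ℕ) (E : Fin m → EtOver X), (∀ k, Aff (E k)) ∧
      ∀ x : Points X, ∃ k, x ∈ Set.range (Points.ofPt (E k).obj.hom) := by
  classical
  haveI := compactSpace_points_of_isQuasiCompactSp hqc
  choose E u hE hu using exists_affine_chart_pt hX
  obtain ⟨t, ht⟩ := CompactSpace.elim_nhds_subcover (fun x => Set.range (Points.ofPt (E x).obj.hom))
    (fun x => (isOpenMap_ofPt (E x).property).isOpen_range.mem_nhds ⟨u x, hu x⟩)
  refine ⟨t.card, fun k => E (t.equivFin.symm k).1, fun k => hE _, fun x => ?_⟩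
  obtain ⟨y, hy, hxy⟩ := Set.mem_iUnion₂.mp (ht.ge (Set.mem_univ x))
  refine ⟨t.equivFin ⟨y, hy⟩, ?_⟩
  show x ∈ Set.range (Points.ofPt (E (t.equivFin.symm (t.equivFin ⟨y, hy⟩)).1).obj.hom)
  rwa [Equiv.symm_apply_apply]

/-- A monomorphism into a quasi-coherent module which is surjective on a family of affine charts is an isomorphism. -/
theorem isIso_of_surjective_cover {N M : ModEt X} (ι : N ⟶ M) [Mono ι] [M.IsQuasicoherent]
    {κ : Type} (E : κ → EtOver X) (hE : ∀ k, Aff (E k))
    (hcov : ∀ x : Points X, ∃ k, x ∈ Set.range (Points.ofPt (E k).obj.hom))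
    (hs : ∀ k, Function.Surjective (appM ι (E k))) : IsIso ι := by
  have hloc : ∀ (E' : EtOver X) (y : SectM M E') (v : ↥E'.obj.left.left),
      ∃ (W : EtOver X) (g : W ⟶ E') (x : SectM N W), v ∈ Set.range g.hom.left.left ∧ appM ι W x = resM M g y := by
    intro E' y v
    obtain ⟨k, w, hw⟩ := hcov (Points.ofPt E'.obj.hom v)
    haveI := hE k
    obtain ⟨W, a, b, z, hA, -, hb⟩ := exists_affine_common w v hw
    haveI := hA
    have h := span_resM_eq_top a (goodM_of_isQuasicoherent M (E k)) (resM M b y) Set.univ Submodule.span_univ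
    have h' : resM M b y ∈ LinearMap.range (appM ι W) := by
      refine Submodule.span_le.mpr ?_ h
      rintro _ ⟨t, -, rfl⟩
      obtain ⟨s, rfl⟩ := hs k t
      exact ⟨resM N a s, (resM_appM ι a s).symm⟩
    obtain ⟨x, hx⟩ := h'
    exact ⟨W, b, x, ⟨z, hb⟩, hx⟩
  haveI : Epi ι := ⟨fun g h e => SheafOfModules.hom_ext (PresheafOfModules.hom_ext fun E' =>
    ModuleCat.hom_ext (LinearMap.ext fun y => resM_eq_of_forall_pt _ (E := E'.unop)
      (x := appM g E'.unop y) (y := appM h E'.unop y) fun v => by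
        obtain ⟨W, a, x, hv, hx⟩ := hloc E'.unop y v
        refine ⟨W, a, hv, ?_⟩
        rw [resM_appM, resM_appM, ← hx]
        exact congrArg (fun ψ => appM ψ W x) e))⟩
  exact isIso_of_mono_of_epi ι

end Groth.Agent.SpQC61
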