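import Groth.Agent.Desc59.AmitsurConerve

/-! Exactness of the Amitsur complex with coefficients in a module of any universe. -/

universe u v

set_option autoImplicit false

open TensorProduct

namespace Groth.Agent.SpQC61

open Desc59.AmitsurConerve

variable (R A : Type u) [CommRing R] [CommRing A] [Algebra R A]
  (T : ℕ → Type u) [∀ n, CommRing (T n)] [∀ n, Algebra R (T n)]
  (ι : ∀ n, Fin (n + 1) → A →ₐ[R] T n) (δ : ∀ n, Fin (n + 2) → T n →ₐ[R] T (n + 1))

theorem exact_lTensor_D [Module.FaithfullyFlat R A]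
    (hδ : ∀ n i j, (δ n i).comp (ι n j) = ι (n + 1) (i.succAbove j))
    (hlift : ∀ (n : ℕ) (B : Type u) [CommRing B] [Algebra R B] (f : Fin (n + 1) → A →ₐ[R] B),
      ∃ φ : T n →ₐ[R] B, ∀ j, φ.comp (ι n j) = f j)
    (hext : ∀ (n : ℕ) (B : Type u) [CommRing B] [Algebra R B] (φ ψ : T n →ₐ[R] B),
      (∀ j, φ.comp (ι n j) = ψ.comp (ι n j)) → φ = ψ)
    (hcomp : ∀ n, D R T δ (n + 1) ∘ₗ D R T δ n = 0)
    (M : Type v) [AddCommGroup M] [Module R M] (m : ℕ) :
    Function.Exact ((D R T δ m).lTensor M) ((D R T δ (m + 1)).lTensor M) := by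
  choose ψ hψ using fun n => hlift (n + 1) (A ⊗[R] T n)
    (Fin.cases Algebra.TensorProduct.includeLeft
      fun j => Algebra.TensorProduct.includeRight.comp (ι n j))
  let h : ∀ n, A ⊗[R] T (n + 1) →ₐ[R] A ⊗[R] T n := fun n =>
    Algebra.TensorProduct.lift Algebra.TensorProduct.includeLeft (ψ n) fun _ _ => Commute.all _ _
  have h0 : ∀ n, (h n).comp (Algebra.TensorProduct.map (AlgHom.id R A) (δ n 0)) = AlgHom.id R _ := by
    intro n
    refine Algebra.TensorProduct.ext' fun a t => ?_
    have hc : (ψ n).comp (δ n 0) = Algebra.TensorProduct.includeRight := by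
      refine hext n _ _ _ fun j => ?_
      rw [AlgHom.comp_assoc, hδ, Fin.succAbove_zero, hψ, Fin.cases_succ]
    have := congr($hc t)
    simp only [AlgHom.comp_apply, Algebra.TensorProduct.includeRight_apply] at this
    simp [h, this]
  have hs : ∀ n (i : Fin (n + 2)), (h (n + 1)).comp (Algebra.TensorProduct.map (AlgHom.id R A) (δ (n + 1) i.succ)) =
      (Algebra.TensorProduct.map (AlgHom.id R A) (δ n i)).comp (h n) := by
    intro n i
    refine Algebra.TensorProduct.ext' fun a t => ?_
    have hc : (ψ (n + 1)).comp (δ (n + 1) i.succ) =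
        (Algebra.TensorProduct.map (AlgHom.id R A) (δ n i)).comp (ψ n) := by
      refine hext (n + 1) _ _ _ fun j => ?_
      rw [AlgHom.comp_assoc, hδ, hψ, AlgHom.comp_assoc, hψ]
      refine Fin.cases ?_ (fun j => ?_) j
      · rw [Fin.succ_succAbove_zero, Fin.cases_zero]
        ext a
        simp
      · rw [Fin.succ_succAbove_succ, Fin.cases_succ, Fin.cases_succ, ← hδ]
        ext a
        simp
    have := congr($hc t)
    simp only [AlgHom.comp_apply] at this
    simp [h, this]
  have key : ∀ n (z : A ⊗[R] T (n + 1)),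
      (h (n + 1)) ((D R T δ (n + 1)).lTensor A z) = z - (D R T δ n).lTensor A (h n z) := by
    intro n z
    have e : ∀ (p : ℕ) (i : Fin (p + 2)) (w : A ⊗[R] T p),
        (δ p i).toLinearMap.lTensor A w = Algebra.TensorProduct.map (AlgHom.id R A) (δ p i) w := by
      intro p i w
      induction w with
      | zero => simp
      | tmul a t => simp
      | add x y hx hy => rw [map_add, map_add, hx, hy]
    have e1 : (D R T δ (n + 1)).lTensor A z = ∑ i : Fin (n + 3),
        (-1 : ℤ) ^ (i : ℕ) • Algebra.TensorProduct.map (AlgHom.id R A) (δ (n + 1) i) z := by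
      simp only [D, ← e]
      rw [show LinearMap.lTensor A = ⇑(LinearMap.lTensorHom (R := R) (N := T (n + 1)) (P := T (n + 1 + 1)) A) from
        rfl, map_sum, LinearMap.sum_apply]
      exact Finset.sum_congr rfl fun i _ => by rw [map_zsmul]; rfl
    have e2 : (D R T δ n).lTensor A (h n z) = ∑ i : Fin (n + 2),
        (-1 : ℤ) ^ (i : ℕ) • Algebra.TensorProduct.map (AlgHom.id R A) (δ n i) (h n z) := by
      simp only [D, ← e]
      rw [show LinearMap.lTensor A = ⇑(LinearMap.lTensorHom (R := R) (N := T n) (P := T (n + 1)) A) from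
        rfl, map_sum, LinearMap.sum_apply]
      exact Finset.sum_congr rfl fun i _ => by rw [map_zsmul]; rfl
    rw [e1, e2, map_sum, Fin.sum_univ_succ, sub_eq_add_neg, ← Finset.sum_neg_distrib]
    congr 1
    · have := congr($(h0 (n + 1)) z)
      simpa using this
    · refine Finset.sum_congr rfl fun i _ => ?_
      have := congr($(hs n i) z)
      simp only [AlgHom.comp_apply] at this
      rw [map_zsmul, this, Fin.val_succ, pow_succ, mul_neg_one, neg_smul]
  let hl : ∀ n, A ⊗[R] T (n + 1) →ₗ[R] A ⊗[R] T n := fun n => (h n).toLinearMap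
  have keyl : ∀ n, hl (n + 1) ∘ₗ (D R T δ (n + 1)).lTensor A + (D R T δ n).lTensor A ∘ₗ hl n = LinearMap.id := fun n =>
    LinearMap.ext fun z => by
      simp only [LinearMap.add_apply, LinearMap.comp_apply, LinearMap.id_apply]
      exact (congrArg (· + _) (key n z)).trans (sub_add_cancel _ _)
  have e : ∀ (n : ℕ) (z : A ⊗[R] (M ⊗[R] T n)), TensorProduct.leftComm R A M (T (n + 1)) (((D R T δ n).lTensor M).lTensor A z) =
      ((D R T δ n).lTensor A).lTensor M (TensorProduct.leftComm R A M (T n) z) := fun n z => by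
    refine LinearMap.congr_fun (f := (TensorProduct.leftComm R A M (T (n + 1))).toLinearMap ∘ₗ
      ((D R T δ n).lTensor M).lTensor A) (g := ((D R T δ n).lTensor A).lTensor M ∘ₗ
      (TensorProduct.leftComm R A M (T n)).toLinearMap) ?_ z
    ext a x t
    rfl
  rw [← Module.FaithfullyFlat.lTensor_exact_iff_exact R A]
  intro z
  constructor
  · intro hz
    let w := TensorProduct.leftComm R A M (T (m + 1)) z
    have hw : ((D R T δ (m + 1)).lTensor A).lTensor M w = 0 := by
      rw [← e, hz, map_zero]
    refine ⟨(TensorProduct.leftComm R A M (T m)).symm ((hl m).lTensor M w),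
      (TensorProduct.leftComm R A M (T (m + 1))).injective ?_⟩
    rw [e, LinearEquiv.apply_symm_apply]
    have h3 := LinearMap.congr_fun (congrArg (LinearMap.lTensor M) (keyl m)) w
    rw [LinearMap.lTensor_add, LinearMap.lTensor_comp, LinearMap.lTensor_comp, LinearMap.lTensor_id,
      LinearMap.add_apply, LinearMap.comp_apply, LinearMap.comp_apply, hw, map_zero, zero_add] at h3
    exact h3
  · rintro ⟨w, rfl⟩
    rw [← LinearMap.comp_apply, ← LinearMap.lTensor_comp, ← LinearMap.lTensor_comp, hcomp, LinearMap.lTensor_zero,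
      LinearMap.lTensor_zero, LinearMap.zero_apply]

end Groth.Agent.SpQC61
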