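import Groth.Agent.SpQC61.AffCov
import Groth.Agent.SpQC61.AmitsurModU
import Groth.Agent.Unr55.Et.CechCartan

/-! Quasi-coherent modules have no higher cohomology on affine objects. -/

universe u

set_option autoImplicit false
set_option backward.isDefEq.respectTransparency false

open CategoryTheory CategoryTheory.Limits AlgebraicGeometry Opposite TensorProduct
open AlgSp

namespace Groth.Agent.SpQC61

variable {S : Scheme.{u}} {X : Sp S} {U : EtOver X}

/-- Sections on a power as a base change. -/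
noncomputable def powSect (M : ModEt X) (Y : Over U) (n : ℕ) :
    SectM M U ⊗[Γt U] GPow Y n →+ SectM M (powObj Y n).left :=
  (bcM M (powObj Y n).hom).comp (TensorProduct.comm (Γt U) (SectM M U) (GPow Y n)).toAddMonoidHom

theorem powSect_bijective (M : ModEt X) [M.IsQuasicoherent] (Y : Over U) [Aff U] (hY : Aff Y.left) (n : ℕ) :
    Function.Bijective (powSect M Y n) := by
  haveI := aff_powObj Y hY n
  exact (bcM_bijective M (powObj Y n).hom).comp (TensorProduct.comm (Γt U) (SectM M U) (GPow Y n)).bijective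

theorem powSect_tmul (M : ModEt X) (Y : Over U) (n : ℕ) (m : SectM M U) (t : GPow Y n) :
    powSect M Y n (m ⊗ₜ t) = t • resM M (powObj Y n).hom m :=
  rfl

theorem powSect_face (M : ModEt X) (Y : Over U) (n : ℕ) (j : Fin (n + 2)) (z : SectM M U ⊗[Γt U] GPow Y n) :
    resM M (Fib44.Cech.face (oneFam Y) (fun _ : Fin (n + 2) => PUnit.unit.{u + 2}) j.succAbove).left
        (powSect M Y n z) =
      powSect M Y (n + 1) ((cfP Y n j).toLinearMap.lTensor _ z) := by
  induction z using TensorProduct.induction_on with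
  | zero => rw [map_zero, map_zero, map_zero, map_zero]
  | tmul m t =>
    rw [LinearMap.lTensor_tmul, powSect_tmul, powSect_tmul, resM_smul, ← resM_comp]
    exact congrArg₂ (· • resM M · m) rfl
      (Over.w (Fib44.Cech.face (oneFam Y) (fun _ : Fin (n + 2) => PUnit.unit.{u + 2}) j.succAbove))
  | add a b ha hb => rw [map_add, map_add, ha, hb, map_add, map_add]

theorem cfP_D_comp (Y : Over U) (p : ℕ) :
    Desc59.AmitsurConerve.D (Γt U) (GPow Y) (cfP Y) (p + 1) ∘ₗ
      Desc59.AmitsurConerve.D (Γt U) (GPow Y) (cfP Y) p = 0 := by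
  let P : (Over U)ᵒᵖ ⥤ AddCommGrpCat.{u + 1} :=
    (Over.forget U).op ⋙ (OEt X).obj ⋙ forget₂ CommRingCat.{u + 1} RingCat.{u + 1} ⋙
      forget₂ RingCat.{u + 1} AddCommGrpCat.{u + 1}
  let D := Desc59.AmitsurConerve.D (Γt U) (GPow Y) (cfP Y)
  have hD : ∀ (p : ℕ) (d : GPow Y p),
      (ULift.up (D p d) : ULift.{u + 1} (GPow Y (p + 1))) =
        ∑ j : Fin (p + 2), (-1 : ℤ) ^ (j : ℕ) •
          (show ULift.{u + 1} (GPow Y (p + 1)) from
            P.map (Fib44.Cech.face (oneFam Y) (fun _ : Fin (p + 2) => PUnit.unit.{u + 2}) j.succAbove).op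
              (ULift.up d : ULift.{u + 1} (GPow Y p))) := fun p d => by
    simp only [D, Desc59.AmitsurConerve.D, LinearMap.sum_apply, LinearMap.smul_apply]
    refine (map_sum (AddEquiv.ulift.{u, u + 1} (α := GPow Y (p + 1))).symm _ _).trans ?_
    refine Finset.sum_congr rfl fun j _ => ?_
    rw [map_zsmul]
    rfl
  refine LinearMap.ext fun d => ?_
  have h := Unr55.CechFl.dd (oneFam Y) P p (fun _ => (ULift.up d : ULift.{u + 1} (GPow Y p)))
    (fun _ => PUnit.unit.{u + 2})
  refine congrArg ULift.down ((hD (p + 1) (D p d)).trans (Eq.trans ?_ h))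
  refine Finset.sum_congr rfl fun j _ => ?_
  rw [hD p d]

theorem isZero_cechH_qcoh (M : ModEt X) [M.IsQuasicoherent] (Y : Over U) [Aff U] (hY : AffCov U Y) (q : ℕ) :
    IsZero (EtCech.cechH (oneFam Y) ((toAbEt X).obj M).obj (q + 1)) := by
  haveI := faithfullyFlatP Y hY
  let P : (Over U)ᵒᵖ ⥤ AddCommGrpCat.{u + 1} := (Over.forget U).op ⋙ ((toAbEt X).obj M).obj
  let D := Desc59.AmitsurConerve.D (Γt U) (GPow Y) (cfP Y)
  have hD : ∀ p z, powSect M Y (p + 1) ((D p).lTensor _ z) = ∑ j : Fin (p + 2), (-1 : ℤ) ^ (j : ℕ) •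
      resM M (Fib44.Cech.face (oneFam Y) (fun _ : Fin (p + 2) => PUnit.unit.{u + 2}) j.succAbove).left
        (powSect M Y p z) := by
    intro p z
    have el : (D p).lTensor (SectM M U) z =
        ∑ j : Fin (p + 2), (-1 : ℤ) ^ (j : ℕ) • (cfP Y p j).toLinearMap.lTensor (SectM M U) z := by
      simp only [D, Desc59.AmitsurConerve.D, ← LinearMap.coe_lTensorHom, map_sum, map_zsmul, LinearMap.sum_apply,
        LinearMap.smul_apply]
    rw [el, map_sum]
    exact Finset.sum_congr rfl fun j _ => by rw [map_zsmul, powSect_face]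
  refine (Fib44.Cech.isZero_homology_succ_iff (oneFam Y) P q).2 fun c hc => ?_
  obtain ⟨c₀, hc₀⟩ := (powSect_bijective M Y hY.1 (q + 1)).2
    (show SectM M (powObj Y (q + 1)).left from c fun _ => PUnit.unit)
  have hex := exact_lTensor_D (Γt U) (Γt Y.left) (GPow Y) (slotP Y) (cfP Y) (cfP_slotP Y)
    (exists_liftP Y hY.1) (hom_extP Y hY.1) (cfP_D_comp Y) (SectM M U) q
  obtain ⟨w, hw⟩ := (hex c₀).1 ((powSect_bijective M Y hY.1 (q + 2)).1 (by
    rw [map_zero]
    refine (hD (q + 1) c₀).trans ?_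
    rw [hc₀]
    exact hc fun _ => PUnit.unit))
  refine ⟨fun _ => powSect M Y q w, fun a => ?_⟩
  exact ((hD q w).symm.trans (congrArg (powSect M Y (q + 1)) hw)).trans hc₀

/-- **Acyclicity**: on a site with an affine final object, quasi-coherent modules are acyclic. -/
theorem subsingleton_HModEt_of_terminal {T : EtOver X} (hT : IsTerminal T) [Aff T] (M : ModEt X)
    [M.IsQuasicoherent] (i : ℕ) (hi : 0 < i) : Subsingleton (HModEt X M i) := by
  obtain ⟨q, rfl⟩ := Nat.exists_eq_add_one.2 hi
  refine Unr55.CechCartan.subsingleton_H.{u + 1, u, u + 1} (B := {U : EtOver X | Aff U})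
    (Cov := AffCov) ?_ ?_ hT (show Aff T from ‹_›) q _ ?_
  · intro U hU Y hY n a
    haveI : Aff U := hU
    exact aff_powObj Y hY.1 n
  · intro U hU F G g _ s
    haveI : Aff U := hU
    obtain ⟨Y, hY, hmem⟩ := exists_affCov g s
    refine ⟨Y, hY, hmem, SpPts86.mem_etTop_of_forall _ fun x => ?_⟩
    obtain ⟨v, hv⟩ := hY.2.surj x
    exact ⟨Y.left, Y.hom, Sieve.ofArrows_mk (fun _ : PUnit.{u + 2} => Y.left) (fun _ => Y.hom) PUnit.unit, v, hv⟩
  · intro U hU Y hY q
    haveI : Aff U := hU
    exact isZero_cechH_qcoh M Y hY q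

/-- The final object of the site of a representable space. -/
noncomputable def chartTop {T : Over S} (e : (yon S).obj T ≅ X) : EtOver X :=
  EtOver.mk e.hom (((AlgSp.RepWith (S := S) @Etale).of_isIso e.hom))

/-- It is final. -/
noncomputable def chartTopIsTerminal {T : Over S} (e : (yon S).obj T ≅ X) : IsTerminal (chartTop e) :=
  IsTerminal.ofUniqueHom (fun E => EtOver.homMk ((yon S).preimage (E.obj.hom ≫ e.inv)) (by
      show (yon S).map _ ≫ e.hom = E.obj.hom
      rw [Functor.map_preimage, Category.assoc, e.inv_hom_id, Category.comp_id]))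
    (fun E m => EtOver.hom_ext _ _ ((yon S).map_injective (by
      show (yon S).map m.hom.left = (yon S).map ((yon S).preimage (E.obj.hom ≫ e.inv))
      rw [Functor.map_preimage, ← cancel_mono e.hom, Category.assoc, e.inv_hom_id, Category.comp_id]
      exact EtOver.w m)))

end Groth.Agent.SpQC61
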