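import Groth.Agent.SpQC61.Noeth
import Groth.Agent.SpPts86.IdealBridge
import Groth.Prelude.Def_AlgSpModX
import Mathlib.RingTheory.Noetherian.Nilpotent

/-! Support of a coherent module in a closed subspace versus annihilation by a power of the ideal. -/

universe u

set_option autoImplicit false
set_option backward.isDefEq.respectTransparency false

open CategoryTheory CategoryTheory.Limits AlgebraicGeometry Opposite
open AlgSp Groth.Agent.SpFP87 Groth.Agent.SpPts86

namespace Groth.Agent.SpQC61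

variable {S : Scheme.{u}} {X Z : Sp S} {i : Z ⟶ X}

/-- The trace of a cut-out closed subspace on an affine chart. -/
theorem ofPt_mem_range_iff {I : IdealEt X} (hZ : IsCutOutBy I i) (E : EtOver X) (hE : IsAffine E.obj.left.left)
    (u : ↥E.obj.left.left) :
    Points.ofPt E.obj.hom u ∈ Set.range (Points.map i) ↔ I.ideal E hE ≤ primeAtPt E.obj.left.left u := by
  obtain ⟨hi, rfl⟩ := hZ
  haveI := hE
  haveI hc : IsClosedImmersion (hi.1.snd E.obj.hom).left := hi.property_snd _
  have h1 : Points.ofPt E.obj.hom u ∈ Set.range (Points.map i) ↔ u ∈ Set.range (hi.1.snd E.obj.hom).left :=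
    Set.ext_iff.mp (preimage_ofPt_range_map (hi.1.isPullback E.obj.hom)) u
  have hcl : IsClosed (Set.range (hi.1.snd E.obj.hom).left) := hc.isClosedEmbedding.isClosed_range
  have h2 : u ∈ Set.range (hi.1.snd E.obj.hom).left ↔ u ∈ (hi.1.snd E.obj.hom).left.ker.support := by
    rw [← SetLike.mem_coe, Scheme.Hom.support_ker, hcl.closure_eq]
  rw [h1, h2, Scheme.IdealSheafData.mem_support_iff_of_mem (U := ⟨⊤, isAffineOpen_top _⟩) trivial, ker_ideal_top,
    Scheme.mem_zeroLocus_iff]
  refine forall₂_congr fun f _ => ?_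
  rw [Scheme.mem_basicOpen_top]
  show ¬ _ ↔ f ∈ (IsLocalRing.maximalIdeal _).comap _
  rw [Ideal.mem_comap, IsLocalRing.mem_maximalIdeal, mem_nonunits_iff]

theorem mem_annSect_iff_smul {M : ModEt X} {E : EtOver X} (s : SectM M E) (a : Γt E) :
    a ∈ annSect (M := M) (E := E) s ↔ a • s = 0 :=
  Iff.rfl

/-- The submodule of sections killed by an ideal. -/
noncomputable def killedBy {M : ModEt X} {E : EtOver X} (J : Ideal (Γt E)) : Submodule (Γt E) (SectM M E) :=
  ⨅ a ∈ J, LinearMap.ker (LinearMap.lsmul (Γt E) (SectM M E) a)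

theorem mem_killedBy {M : ModEt X} {E : EtOver X} {J : Ideal (Γt E)} {s : SectM M E} :
    s ∈ killedBy J ↔ ∀ a ∈ J, a • s = 0 := by
  simp [killedBy]

variable {M : ModEt X} {I : IdealEt X}

theorem exists_pow_le_annSect_chart (hX : IsAlgSpace X) (hN : IsLocNoethSp X) [M.IsFinitePresentation]
    (hZ : IsCutOutBy I i)
    (hsupp : ∀ x : FieldPt X, x.IsGeometric → Points.mk x ∉ Set.range (Points.map i) →
      IsZero (stalkEt x ((toAbEt X).obj M)))
    (E : EtOver X) [hE : Aff E] :
    ∃ n : ℕ, ∀ (s : SectM M E), ∀ a ∈ (I.ideal E hE ^ n : Ideal (Γt E)), a • s = 0 := by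
  classical
  haveI := isNoetherianRing_gamma hX hN E
  obtain ⟨T, hT⟩ := (finite_sectM M E).fg_top
  have key : ∀ t : SectM M E, ∃ n, (I.ideal E hE ^ n : Ideal (Γt E)) ≤ annSect (M := M) (E := E) t := by
    intro t
    refine Ideal.exists_pow_le_of_le_radical_of_fg ?_ (IsNoetherian.noetherian _)
    intro f hf
    rw [Ideal.radical_eq_sInf]
    refine Ideal.mem_sInf.mpr ?_
    rintro P ⟨hP, hPp⟩
    by_contra hfP
    obtain ⟨w, rfl⟩ := exists_pt_primeAtPt P
    obtain ⟨p, l, hp, hl, hlp⟩ := exists_geometric_lift E w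
    have hout : Points.mk p ∉ Set.range (Points.map i) := by
      rw [hlp, ofPt_mem_range_iff hZ E hE]
      exact fun h => hfP (h hf)
    haveI := AddCommGrpCat.subsingleton_of_isZero (hsupp p hp hout)
    obtain ⟨V, g, e, hv⟩ := (germ_eq_iff hX hp ((toAbEt X).obj M).obj l
      (t : SectM M E) (0 : SectM M E)).1 (Subsingleton.elim (α := (stalkEt p ((toAbEt X).obj M) : AddCommGrpCat.{u + 1})) _ _)
    obtain ⟨v, hv⟩ := hv
    obtain ⟨U, hU, hvU, -⟩ := exists_isAffineOpen_mem_and_subset (U := (⊤ : V.obj.left.left.Opens)) (x := v) trivial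
    haveI : Aff (openObj V U) := hU
    have h0 : resM M (openObjι V U ≫ g) t = 0 := by
      rw [resM_comp, show resM M g t = 0 from e.trans (resM_zero' g), resM_zero']
    obtain ⟨r, hr, hrt⟩ := exists_notMem_of_resM_eq_zero (openObjι V U ≫ g) t h0 ⟨v, hvU⟩
    have hpt : (openObjι V U ≫ g).hom.left.left ⟨v, hvU⟩ = w := hv.trans hl
    rw [hpt] at hr
    exact hr (hP ((mem_annSect_iff_smul t r).mpr hrt))
  choose n hn using key
  refine ⟨T.sup n, fun s => mem_killedBy.mp ?_⟩
  refine (hT.ge.trans (Submodule.span_le.mpr fun t ht => mem_killedBy.mpr fun a ha => ?_)) Submodule.mem_top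
  exact (mem_annSect_iff_smul t a).mp (hn t (Ideal.pow_le_pow_right (Finset.le_sup ht) ha))

theorem exists_pow_le_annSect (hX : IsAlgSpace X) (hqc : IsQuasiCompactSp X) (hN : IsLocNoethSp X)
    [M.IsFinitePresentation] (hI : I.IsQCoh) (hZ : IsCutOutBy I i)
    (hsupp : ∀ x : FieldPt X, x.IsGeometric → Points.mk x ∉ Set.range (Points.map i) →
      IsZero (stalkEt x ((toAbEt X).obj M))) :
    ∃ n : ℕ, ∀ (E : EtOver X) (hE : IsAffine E.obj.left.left) (s : sectModEt M E),
      (I ^ n).ideal E hE ≤ annSect s := by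
  classical
  obtain ⟨m, E₀, hE₀, hcov⟩ := exists_finite_affine_atlas hX hqc
  choose n hn using fun k => @exists_pow_le_annSect_chart S X Z i M I hX hN _ hZ hsupp (E₀ k) (hE₀ k)
  refine ⟨Finset.univ.sup n, fun E hE s a ha => ?_⟩
  refine (mem_annSect_iff_smul (s : SectM M E) a).mpr ?_
  haveI : Aff E := hE
  refine resM_eq_of_forall_pt M fun v => ?_
  obtain ⟨k, w, hw⟩ := hcov (Points.ofPt E.obj.hom v)
  haveI := hE₀ k
  obtain ⟨W, c, b, z, hA, -, hb⟩ := exists_affine_common w v hw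
  haveI := hA
  refine ⟨W, b, ⟨z, hb⟩, ?_⟩
  rw [resM_smul, resM_zero']
  have h1 : cmap b a ∈ ((I.ideal (E₀ k) (hE₀ k)) ^ (n k) : Ideal (Γt (E₀ k))).map (cmap c) := by
    refine (?_ : ((I.ideal E hE) ^ (Finset.univ.sup n) : Ideal (Γt E)).map (cmap b) ≤ _) (Ideal.mem_map_of_mem _ ha)
    rw [Ideal.map_pow, Ideal.map_pow]
    exact (Ideal.pow_le_pow_right (Finset.le_sup (Finset.mem_univ k))).trans
      (Ideal.pow_right_mono ((I.map_le b hE hA).trans (hI c (hE₀ k) hA)) _)
  have h2 := span_resM_eq_top c (goodM_of_isQuasicoherent M (E₀ k)) (resM M b s) Set.univ Submodule.span_univ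
  generalize cmap b a = f at h1 ⊢
  refine (mem_killedBy (J := ((I.ideal (E₀ k) (hE₀ k)) ^ (n k) : Ideal (Γt (E₀ k))).map (cmap c))).mp ?_ f h1
  refine Submodule.span_le.mpr ?_ h2
  rintro _ ⟨y, -, rfl⟩
  refine mem_killedBy.mpr fun g hg => ?_
  show g • resM M c y = 0
  refine Submodule.span_induction (p := fun g _ => g • resM M c y = 0) ?_ (zero_smul _ _) ?_ ?_ hg
  · rintro _ ⟨a', ha', rfl⟩
    rw [← resM_smul, hn k y a' ha']
    exact resM_zero' c
  · intro g₁ g₂ _ _ e₁ e₂
    rw [add_smul, e₁, e₂, add_zero]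
  · intro r g' _ e
    rw [smul_assoc, e, smul_zero]

theorem isZero_stalk_of_pow_le (hX : IsAlgSpace X) (hZ : IsCutOutBy I i) {n : ℕ}
    (hn : ∀ (E : EtOver X) (hE : IsAffine E.obj.left.left) (s : sectModEt M E), (I ^ n).ideal E hE ≤ annSect s)
    (p : FieldPt X) (hp : p.IsGeometric) (hout : Points.mk p ∉ Set.range (Points.map i)) :
    IsZero (stalkEt p ((toAbEt X).obj M)) := by
  let Φ := etPoint p hX hp
  let P := ((toAbEt X).obj M).obj
  suffices h : ∀ z : (Φ.presheafFiber.obj P : AddCommGrpCat.{u + 1}), z = 0 by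
    haveI : Subsingleton ↑(stalkEt p ((toAbEt X).obj M) : AddCommGrpCat.{u + 1}) := ⟨fun a b => (h a).trans (h b).symm⟩
    exact AddCommGrpCat.isZero_of_subsingleton _
  intro z
  obtain ⟨V, (l : (FieldPt.liftsTo p).obj V), s, rfl⟩ := Φ.toPresheafFiber_jointly_surjective (P := P) z
  refine ((germ_eq_iff hX hp P l s (0 : SectM M V)).2 ?_).trans (map_zero _)
  let v := l.1.left (IsLocalRing.closedPoint p.K)
  obtain ⟨U, hU, hvU, -⟩ := exists_isAffineOpen_mem_and_subset (U := (⊤ : V.obj.left.left.Opens)) (x := v) trivial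
  haveI hW : Aff (openObj V U) := hU
  have hu : Points.ofPt (openObj V U).obj.hom ⟨v, hvU⟩ ∉ Set.range (Points.map i) := by
    rw [show Points.ofPt (openObj V U).obj.hom ⟨v, hvU⟩ = Points.ofPt V.obj.hom v from ofPt_comp _ _ _,
      ← mk_eq_of_lift p l]
    exact hout
  rw [ofPt_mem_range_iff hZ _ hW] at hu
  obtain ⟨f, hf, hfu⟩ := SetLike.not_le_iff_exists.mp hu
  let D := (openObj V U).obj.left.left.basicOpen f
  have hvD : (⟨v, hvU⟩ : ↥(openObj V U).obj.left.left) ∈ D := by
    rw [Scheme.mem_basicOpen_top]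
    by_contra hnu
    exact hfu ((IsLocalRing.mem_maximalIdeal _).mpr hnu)
  let g : openObj (openObj V U) D ⟶ V := openObjι (openObj V U) D ≫ openObjι V U
  refine ⟨_, g, ?_, ⟨⟨⟨v, hvU⟩, hvD⟩, rfl⟩⟩
  show resM M g s = resM M g 0
  rw [resM_comp, resM_comp, resM_zero', resM_zero']
  have h0 : (f ^ n : Γt (openObj V U)) • resM M (openObjι V U) s = 0 :=
    (mem_annSect_iff_smul (resM M (openObjι V U) s) (f ^ n)).mp (hn _ hW _ (Ideal.pow_mem_pow hf n))
  have h3 := congrArg (resM M (openObjι (openObj V U) D)) h0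
  rw [resM_smul, resM_zero', map_pow] at h3
  have hu : IsUnit (cmap (openObjι (openObj V U) D) f) := by
    show IsUnit (D.ι.appTop.hom f)
    have h := RingedSpace.isUnit_res_basicOpen (openObj V U).obj.left.left.toRingedSpace f
    rw [Scheme.Opens.ι_appTop]
    have h2 : IsUnit ((openObj V U).obj.left.left.presheaf.map
        (homOfLE (show D.ι ''ᵁ ⊤ ≤ D by simp)).op ((openObj V U).obj.left.left.presheaf.map
          (homOfLE (show D ≤ ⊤ from le_top)).op f)) := IsUnit.map (CommRingCat.Hom.hom _) h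
    rw [← ConcreteCategory.comp_apply, ← Functor.map_comp] at h2
    exact h2
  exact (hu.pow n).smul_eq_zero.mp h3

end Groth.Agent.SpQC61
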