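import Groth.Agent.SpQC61.PushFinite
import Groth.Agent.SpQC86.KilledEssImage
import Groth.Agent.SpPts86.FiniteCrit

/-! Coherent modules on closed subspaces. -/

set_option autoImplicit false
set_option linter.style.haveILetI false
set_option backward.isDefEq.respectTransparency false

universe u

open CategoryTheory CategoryTheory.Limits AlgebraicGeometry Opposite
open AlgSp

namespace Groth.Agent.SpQC61

variable {S : Scheme.{u}} {Z X : Sp S} {i : Z ⟶ X}

theorem isFiniteMor_of_closedImm (hi : RepWith @IsClosedImmersion i) : IsFiniteMor i :=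
  (SpPts86.isFiniteMor_iff i).2
    (SpPts86.repWith_mono (fun _ _ g (hg : IsClosedImmersion g) => (inferInstance : IsFinite g)) hi)

theorem exists_affine_bc_range (hi : RepWith @IsClosedImmersion i) (hX : IsAlgSpace X) (V : EtOver Z)
    (v : ↥V.obj.left.left) : ∃ (E : EtOver X) (_ : Aff E) (g : (EtOver.bc hi.1).obj E ⟶ V),
      v ∈ Set.range g.hom.left.left := by
  obtain ⟨E, g, w, rfl⟩ := SpPts86.exists_bc_map_mem_range (SpPts86.repWith_intUI_of_closedImm hi) hX V v
  obtain ⟨U, hU, hwU, -⟩ := exists_isAffineOpen_mem_and_subset (U := (⊤ : E.obj.left.left.Opens))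
    (x := (hi.1.snd E.obj.hom).left w) trivial
  obtain ⟨p, hp, -⟩ := Scheme.exists_preimage_of_isPullback
    (EtOver.isPullback_bcMap_left hi.1 (openObjι E U)) w ⟨_, hwU⟩ rfl
  exact ⟨openObj E U, hU, (EtOver.bc hi.1).map (openObjι E U) ≫ g, p, congrArg g.hom.left.left hp⟩

/-- A module on a closed subspace is coherent if its direct image is. -/
theorem finite_sectM_of_push (hi : RepWith @IsClosedImmersion i) (hX : IsAlgSpace X) (G : ModEt Z)
    [G.IsQuasicoherent] {M : ModEt X} [M.IsQuasicoherent] [M.IsFiniteType] (e : (pushModEt hi.1).obj G ≅ M)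
    (V : EtOver Z) [Aff V] : Module.Finite (Γt V) (SectM G V) := by
  choose E hE g hg using exists_affine_bc_range hi hX V
  let R : Sieve V := Sieve.ofArrows (fun v => (EtOver.bc hi.1).obj (E v)) g
  have hR : R ∈ etTop Z V := SpPts86.mem_etTop_of_forall _ fun v => ⟨_, g v, Sieve.ofArrows_mk _ _ v, hg v⟩
  obtain ⟨m, W, w, hW, hwR, hs⟩ := exists_finite_affine_cover hR
  haveI := hW
  have key : ∀ k, ∃ T : Set (SectM G V), T.Finite ∧ ∀ y : SectM G (W k),
      y ∈ Submodule.span (Γt (W k)) (resM G (w k) '' T) := fun k => by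
    obtain ⟨v, a, -⟩ := Sieve.ofArrows.exists (hwR k)
    haveI := hE v
    obtain ⟨hA, -⟩ := aff_bc_and_finite_of_isFiniteMor hi.1 (isFiniteMor_of_closedImm hi) (E v)
    haveI := hA
    haveI := finite_sectM M (E v)
    haveI : Module.Finite (Γt (E v)) (SectM ((pushModEt hi.1).obj G) (E v)) := by
      refine Module.Finite.of_surjective (appM e.inv (E v)) fun y => ⟨appM e.hom (E v) y, ?_⟩
      exact congrArg (fun φ : (pushModEt hi.1).obj G ⟶ (pushModEt hi.1).obj G => appM φ (E v) y) e.hom_inv_id
    obtain ⟨T₀, hT₀⟩ := (inferInstance : Module.Finite (Γt (E v)) (SectM ((pushModEt hi.1).obj G) (E v))).fg_top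
    let T₁ : Set (SectM G ((EtOver.bc hi.1).obj (E v))) :=
      id (α := Set (SectM ((pushModEt hi.1).obj G) (E v))) ↑T₀
    have hT₁ : Submodule.span (Γt ((EtOver.bc hi.1).obj (E v))) T₁ = ⊤ := by
      suffices H : ∀ x : SectM ((pushModEt hi.1).obj G) (E v),
          x ∈ Submodule.span (Γt (E v)) (↑T₀ : Set (SectM ((pushModEt hi.1).obj G) (E v))) →
            id (α := SectM G ((EtOver.bc hi.1).obj (E v))) x ∈ Submodule.span (Γt ((EtOver.bc hi.1).obj (E v))) T₁ from
        Submodule.eq_top_iff'.2 fun x => H x (by rw [hT₀]; trivial)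
      intro x hx
      induction hx using Submodule.span_induction with
      | mem t ht => exact Submodule.subset_span ht
      | zero => exact Submodule.zero_mem _
      | add p q _ _ hp hq => exact Submodule.add_mem _ hp hq
      | smul r p _ hp => exact Submodule.smul_mem _ (SpQC86.bcΓ hi.1 (E v) r) hp
    have hspan : ∀ y : SectM G (W k), y ∈ Submodule.span (Γt (W k)) (resM G a '' T₁) :=
      fun y => span_resM_eq_top a (goodM_of_isQuasicoherent G _) y T₁ hT₁
    choose T hT hTm using fun t : ↥(resM G a '' T₁) => exists_finset_span (w k) t.1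
    haveI : Finite ↥(resM G a '' T₁) := (T₀.finite_toSet.image _).to_subtype
    refine ⟨⋃ t, T t, Set.finite_iUnion hT, fun y => Submodule.span_le.2 (fun t ht => ?_) (hspan y)⟩
    exact Submodule.span_mono (Set.image_mono (Set.subset_iUnion T ⟨t, ht⟩)) (hTm ⟨t, ht⟩)
  choose T hT hTm using key
  exact ⟨Submodule.fg_def.2 ⟨⋃ k, T k, Set.finite_iUnion hT, Submodule.eq_top_iff'.2 fun x =>
    mem_span_of_cover w hW hs _ x fun k =>
      Submodule.span_mono (Set.image_mono (Set.subset_iUnion T k)) (hTm k _)⟩⟩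

theorem isFinitePresentation_of_push (hi : RepWith @IsClosedImmersion i) (hX : IsAlgSpace X) (hZ : IsAlgSpace Z)
    (hN : IsLocNoethSp Z) (G : ModEt Z) [G.IsQuasicoherent] {M : ModEt X} [M.IsQuasicoherent] [M.IsFiniteType]
    (e : (pushModEt hi.1).obj G ≅ M) : G.IsFinitePresentation :=
  isFinitePresentation_of_finite hZ hN G fun V hV =>
    haveI := hV
    ⟨goodM_of_isQuasicoherent G V, finite_sectM_of_push hi hX G e V⟩

end Groth.Agent.SpQC61
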