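import Groth.Agent.SpQC61.Main
import Groth.Agent.FlatCrit65.Assassin.QuasiFinite
import Groth.Agent.CAlg5.WeakAss
import Groth.Agent.S1233

/-!
Weakly associated points on affine etale charts do not depend on the chart.
-/

set_option autoImplicit false
set_option linter.style.haveILetI false
set_option backward.isDefEq.respectTransparency false

universe u v

open CategoryTheory CategoryTheory.Limits AlgebraicGeometry Opposite TensorProduct
open AlgSp

namespace Groth.Agent.SpQC61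

theorem comap_primeAtPt {U' U : Scheme.{u}} (f : U' ⟶ U) (x : U') :
    (primeAtPt U' x).comap f.appTop.hom = primeAtPt U (f x) := by
  unfold primeAtPt
  rw [Ideal.comap_comap, ← CommRingCat.hom_comp, show f.appTop ≫ U'.presheaf.germ ⊤ x trivial =
    U.presheaf.germ ⊤ (f x) trivial ≫ f.stalkMap x from (Scheme.Hom.germ_stalkMap f ⊤ x trivial).symm,
    CommRingCat.hom_comp, ← Ideal.comap_comap]
  congr 1
  ext a
  simp [IsLocalRing.mem_maximalIdeal, mem_nonunits_iff]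

theorem mem_weakAss_ulift_iff {A : Type u} [CommRing A] {M : Type v} [AddCommGroup M] [Module A M]
    (p : Ideal A) [p.IsPrime] :
    p.comap (ULift.ringEquiv.toRingHom : ULift.{u + 1} A →+* A) ∈ FlatCA.weakAss (ULift.{u + 1} A) M ↔
      p ∈ FlatCA.weakAss A M := by
  rw [CAlg5.mem_weakAss_iff, CAlg5.mem_weakAss_iff]
  constructor
  · rintro ⟨m, h1, h2⟩
    refine ⟨m, fun s hs => h1 (ULift.up s) hs, fun r hr => ?_⟩
    obtain ⟨⟨s⟩, hs, n, hn⟩ := h2 (ULift.up r) hr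
    exact ⟨s, hs, n, hn⟩
  · rintro ⟨m, h1, h2⟩
    refine ⟨m, fun s hs => h1 s.down hs, fun r hr => ?_⟩
    obtain ⟨s, hs, n, hn⟩ := h2 r.down hr
    exact ⟨ULift.up s, hs, n, hn⟩

variable {S : Scheme.{u}} {X : Sp S} (M : ModEt X)

theorem annSect_eq {E : EtOver X} (s : SectM M E) :
    annSect (s : sectModEt M E) = (Submodule.span (Γt E) {s}).annihilator := by
  ext a
  rw [CAlg5.mem_ann, mem_annSect_iff]
  rfl

theorem isWeakAssOn_iff {E : EtOver X} [Aff E] (u : ↥E.obj.left.left) :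
    IsWeakAssOn M E u ↔ primeAtPt E.obj.left.left u ∈ FlatCA.weakAss (Γt E) (SectM M E) := by
  constructor
  · rintro ⟨s, hs⟩
    exact ⟨s, (annSect_eq M (s : SectM M E)) ▸ hs⟩
  · rintro ⟨s, hs⟩
    refine ⟨(s : SectM M E), ?_⟩
    rwa [annSect_eq]

theorem exists_ulift_linearEquiv [M.IsQuasicoherent] {E' E : EtOver X} (g : E' ⟶ E) [Aff E] [Aff E'] :
    letI : Algebra (ULift.{u + 1} (Γt E)) (ULift.{u + 1} (Γt E')) :=
      ((ULift.ringEquiv.symm.toRingHom.comp (cmap g)).comp ULift.ringEquiv.toRingHom).toAlgebra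
    Nonempty ((ULift.{u + 1} (Γt E') ⊗[ULift.{u + 1} (Γt E)] SectM M E) ≃ₗ[ULift.{u + 1} (Γt E')] SectM M E') := by
  letI : Algebra (ULift.{u + 1} (Γt E)) (ULift.{u + 1} (Γt E')) :=
    ((ULift.ringEquiv.symm.toRingHom.comp (cmap g)).comp ULift.ringEquiv.toRingHom).toAlgebra
  letI := (cmap g).toAlgebra
  let Φ : ULift.{u + 1} (Γt E') ⊗[ULift.{u + 1} (Γt E)] SectM M E →+ SectM M E' :=
    bcMap (resM M g) fun a n => resM_smul M g a.down n
  let φ : Γt E' ⊗[Γt E] SectM M E →+ ULift.{u + 1} (Γt E') ⊗[ULift.{u + 1} (Γt E)] SectM M E :=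
    TensorProduct.liftAddHom
      (AddMonoidHom.mk' (fun a => AddMonoidHom.mk' (fun n => ULift.up.{u + 1} a ⊗ₜ[ULift.{u + 1} (Γt E)] n)
          fun x y => TensorProduct.tmul_add _ x y)
        fun a b => AddMonoidHom.ext fun n => TensorProduct.add_tmul (ULift.up a) (ULift.up b) n)
      fun c a n => TensorProduct.smul_tmul (ULift.up.{u + 1} c) (ULift.up a) n
  have hφ : ∀ z, Φ (φ z) = bcM M g z := fun z => by
    induction z using TensorProduct.induction_on with
    | zero => rw [map_zero, map_zero]; exact (map_zero (bcM M g)).symm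
    | tmul a n => rfl
    | add a b ha hb => rw [map_add, map_add, ha, hb]; exact (map_add (bcM M g) a b).symm
  have hsurj : Function.Surjective φ := fun z => by
    induction z using TensorProduct.induction_on with
    | zero => exact ⟨0, map_zero _⟩
    | tmul a n => exact ⟨a.down ⊗ₜ n, rfl⟩
    | add a b ha hb =>
      obtain ⟨a', rfl⟩ := ha
      obtain ⟨b', rfl⟩ := hb
      exact ⟨a' + b', map_add _ _ _⟩
  have hb : Function.Bijective Φ := by
    have h := bcM_bijective M g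
    refine ⟨fun x y e => ?_, fun s => ?_⟩
    · obtain ⟨x', rfl⟩ := hsurj x
      obtain ⟨y', rfl⟩ := hsurj y
      rw [hφ, hφ] at e
      exact congrArg φ (h.1 e)
    · obtain ⟨z, hz⟩ := h.2 s
      exact ⟨φ z, (hφ z).trans hz⟩
  exact ⟨LinearEquiv.ofBijective
    { toFun := Φ, map_add' := map_add _, map_smul' := bcMap_smul (resM M g) _ } hb⟩

/-- Weak associatedness is insensitive to etale morphisms of affine charts. -/
theorem isWeakAssOn_map_iff [M.IsQuasicoherent] {E' E : EtOver X} (g : E' ⟶ E) [Aff E] [Aff E']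
    (u' : ↥E'.obj.left.left) : IsWeakAssOn M E' u' ↔ IsWeakAssOn M E (g.hom.left.left u') := by
  rw [isWeakAssOn_iff, isWeakAssOn_iff, ← mem_weakAss_ulift_iff, ← mem_weakAss_ulift_iff (A := Γt E)]
  letI : Algebra (ULift.{u + 1} (Γt E)) (ULift.{u + 1} (Γt E')) :=
    ((ULift.ringEquiv.symm.toRingHom.comp (cmap g)).comp ULift.ringEquiv.toRingHom).toAlgebra
  haveI := EtOver.etale_left g
  have het : (cmap g).Etale := HasRingHomProperty.appTop @Etale _ inferInstance
  haveI : Algebra.Etale (ULift.{u + 1} (Γt E)) (ULift.{u + 1} (Γt E')) := by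
    letI := (cmap g).toAlgebra
    haveI : Algebra.Etale (Γt E) (Γt E') := het.toAlgebra
    haveI : Algebra.Etale (Γt E) (ULift.{u + 1} (Γt E)) :=
      Algebra.Etale.of_equiv (ULift.algEquiv (R := Γt E) (A := Γt E)).symm
    haveI : Algebra.Etale (Γt E) (ULift.{u + 1} (Γt E')) :=
      Algebra.Etale.of_equiv (ULift.algEquiv (R := Γt E) (A := Γt E')).symm
    haveI : IsScalarTower (Γt E) (ULift.{u + 1} (Γt E)) (ULift.{u + 1} (Γt E')) :=
      IsScalarTower.of_algebraMap_eq fun _ => rfl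
    exact Algebra.Etale.of_restrictScalars (Γt E) _ _
  obtain ⟨e⟩ := exists_ulift_linearEquiv M g
  let q : Ideal (ULift.{u + 1} (Γt E')) := (primeAtPt E'.obj.left.left u').comap ULift.ringEquiv.toRingHom
  let p : Ideal (ULift.{u + 1} (Γt E)) :=
    (primeAtPt E.obj.left.left (g.hom.left.left u')).comap ULift.ringEquiv.toRingHom
  haveI : q.LiesOver p := ⟨by
    show (primeAtPt _ _).comap _ = ((primeAtPt _ _).comap _).comap _
    rw [← comap_primeAtPt, Ideal.comap_comap, Ideal.comap_comap]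
    rfl⟩
  have h := Groth.Agent.S1233.result (A := ULift.{u + 1} (Γt E)) (B := ULift.{u + 1} (Γt E')) (SectM M E) p q
  refine Iff.trans ⟨fun hq => ?_, fun hq => ?_⟩ h
  · exact CAlg5.weakAss_subset_of_injective e.symm.toLinearMap e.symm.injective hq
  · exact CAlg5.weakAss_subset_of_injective e.toLinearMap e.injective hq

theorem exists_affine_common {E₁ E₂ : EtOver X} (u₁ : ↥E₁.obj.left.left) (u₂ : ↥E₂.obj.left.left)
    (h : Points.ofPt E₁.obj.hom u₁ = Points.ofPt E₂.obj.hom u₂) :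
    ∃ (W : EtOver X) (a : W ⟶ E₁) (b : W ⟶ E₂) (w : ↥W.obj.left.left), Aff W ∧
      a.hom.left.left w = u₁ ∧ b.hom.left.left w = u₂ := by
  let P := EtOver.prodObj E₁ E₂
  let g₂ : P.obj.left ⟶ E₂.obj.left := E₂.property.1.fst' E₁.obj.hom
  let g₁ : P.obj.left ⟶ E₁.obj.left := E₂.property.1.snd E₁.obj.hom
  have hg₂ : (yon S).map g₂ = E₂.property.1.fst E₁.obj.hom := Functor.relativelyRepresentable.map_fst' _ _
  have sq : IsPullback ((yon S).map g₂) ((yon S).map g₁) E₂.obj.hom E₁.obj.hom :=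
    hg₂.symm ▸ E₂.property.1.isPullback E₁.obj.hom
  obtain ⟨v, hv₂, hv₁⟩ := SpPts86.exists_pt_of_isPullback' sq u₂ u₁ h.symm
  obtain ⟨U, hU, hvU, -⟩ := exists_isAffineOpen_mem_and_subset (U := (⊤ : P.obj.left.left.Opens)) (x := v) trivial
  refine ⟨openObj P U, openObjι P U ≫ EtOver.prodFst E₁ E₂, openObjι P U ≫ EtOver.prodSnd E₁ E₂, ⟨v, hvU⟩, hU,
    ?_, ?_⟩
  · show (U.ι ≫ g₁.left) ⟨v, hvU⟩ = u₁
    rw [Scheme.Hom.comp_apply]
    exact hv₁
  · show (U.ι ≫ g₂.left) ⟨v, hvU⟩ = u₂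
    rw [Scheme.Hom.comp_apply]
    exact hv₂

theorem isWeakAssOn_congr [M.IsQuasicoherent] {E₁ E₂ : EtOver X} [Aff E₁] [Aff E₂] (u₁ : ↥E₁.obj.left.left)
    (u₂ : ↥E₂.obj.left.left) (h : Points.ofPt E₁.obj.hom u₁ = Points.ofPt E₂.obj.hom u₂) :
    IsWeakAssOn M E₁ u₁ ↔ IsWeakAssOn M E₂ u₂ := by
  obtain ⟨W, a, b, w, hW, rfl, rfl⟩ := exists_affine_common u₁ u₂ h
  rw [← isWeakAssOn_map_iff M a w, ← isWeakAssOn_map_iff M b w]

theorem exists_affine_chart_pt (hX : IsAlgSpace X) (x : Points X) :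
    ∃ (E : EtOver X) (u : ↥E.obj.left.left), Aff E ∧ Points.ofPt E.obj.hom u = x := by
  obtain ⟨U, a, ha, has⟩ := hX.atlas
  obtain ⟨w, hw⟩ := SpPts86.surjective_ofPt has x
  obtain ⟨V, hV, hwV, -⟩ := exists_isAffineOpen_mem_and_subset (U := (⊤ : U.left.Opens)) (x := w) trivial
  refine ⟨openObj (EtOver.mk a ha) V, ⟨w, hwV⟩, hV, ?_⟩
  exact (SpPts86.ofPt_comp _ a _).trans hw

theorem mem_weakAssEt_iff_forall [M.IsQuasicoherent] (hX : IsAlgSpace X) (x : Points X) :
    x ∈ WeakAssEt M ↔ ∀ (E : EtOver X) [Aff E] (u : ↥E.obj.left.left),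
      Points.ofPt E.obj.hom u = x → IsWeakAssOn M E u := by
  constructor
  · rintro ⟨E₀, hE₀, u₀, rfl, h⟩ E _ u hu
    exact (isWeakAssOn_congr M u₀ u hu.symm).1 h
  · intro h
    obtain ⟨E, u, hE, rfl⟩ := exists_affine_chart_pt hX x
    exact ⟨E, hE, u, rfl, h E u rfl⟩

theorem exists_pt_primeAtPt {U : Scheme.{u}} [IsAffine U] (p : Ideal Γ(U, ⊤)) [hp : p.IsPrime] :
    ∃ x : U, primeAtPt U x = p := by
  refine ⟨U.isoSpec.inv ⟨p, hp⟩, ?_⟩
  have h : primeAtPt U (U.isoSpec.inv ⟨p, hp⟩) =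
      ((isAffineOpen_top U).primeIdealOf ⟨U.isoSpec.inv ⟨p, hp⟩, trivial⟩).asIdeal := by
    rw [IsAffineOpen.primeIdealOf_eq_map_closedPoint]
    rfl
  rw [h]
  have h2 := (isAffineOpen_top U).fromSpec_primeIdealOf ⟨U.isoSpec.inv ⟨p, hp⟩, trivial⟩
  have h3 : ((isAffineOpen_top U).primeIdealOf ⟨U.isoSpec.inv ⟨p, hp⟩, trivial⟩) = ⟨p, hp⟩ := by
    refine U.isoSpec.inv.isOpenEmbedding.injective ?_
    simpa [IsAffineOpen.fromSpec_top] using h2
  rw [h3]

/-- A section that is zero near every weakly associated point is zero. -/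
theorem exists_weakAss_of_ne_zero {E : EtOver X} [Aff E] (s : SectM M E) (hs : s ≠ 0) :
    ∃ u : ↥E.obj.left.left, IsWeakAssOn M E u ∧
      ∀ r : Γt E, r • s = 0 → r ∈ primeAtPt E.obj.left.left u := by
  obtain ⟨p, hp, hr⟩ := CAlg5.exists_mem_weakAss (R := Γt E) hs
  haveI := CAlg5.weakAss_isPrime hp
  obtain ⟨u, rfl⟩ := exists_pt_primeAtPt (U := E.obj.left.left) p
  exact ⟨u, (isWeakAssOn_iff M u).2 hp, hr⟩

end Groth.Agent.SpQC61
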