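import Groth.Agent.SpQC61.Coherent
import Groth.Agent.SpQC61.WeakAss
import Groth.Agent.SpPts86.EtStalk
import Groth.Agent.SpPts86.Subspace
import Groth.Prelude.Def_AlgSpOX3

/-! Open neighbourhoods of geometric points on which finitely presented modules with vanishing germs vanish. -/

universe u

set_option autoImplicit false
set_option backward.isDefEq.respectTransparency false

open CategoryTheory CategoryTheory.Limits AlgebraicGeometry Opposite
open AlgSp Groth.Agent.SpFP87 Groth.Agent.SpPts86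

namespace Groth.Agent.SpQC61

variable {S : Scheme.{u}} {X : Sp S}

/-- All germs at `p` of sections over affine objects are zero. -/
def GermsVanish (M : ModEt X) (p : FieldPt X) : Prop :=
  ∀ (E : EtOver X), Aff E → ∀ (l : (FieldPt.liftsTo p).obj E) (x : SectM M E),
    ∃ (W : EtOver X) (g : W ⟶ E), l.1.left (IsLocalRing.closedPoint p.K) ∈ Set.range g.hom.left.left ∧ resM M g x = 0

theorem resM_zero' {M : ModEt X} {W E : EtOver X} (g : W ⟶ E) : resM M g (0 : SectM M E) = 0 :=
  map_zero (M.val.map g.op).hom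

theorem exists_open_vanish (hX : IsAlgSpace X) (M : ModEt X) [M.IsFinitePresentation] (p : FieldPt X)
    (hp : p.IsGeometric) (hzero : GermsVanish M p) :
    ∃ O : Set (Points X), IsOpen O ∧ Points.mk p ∈ O ∧
      ∀ E : EtOver X, Set.range (Points.ofPt E.obj.hom) ⊆ O → ∀ x : SectM M E, x = 0 := by
  classical
  obtain ⟨E, t, hE, ht⟩ := exists_affine_chart_pt hX (Points.mk p)
  haveI := hE
  obtain ⟨l₀, hl₀, hl₀t⟩ := exists_lift_of_etale E.property p hp t ht
  let l : (FieldPt.liftsTo p).obj E := ⟨l₀, hl₀⟩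
  obtain ⟨s, hs⟩ := (finite_sectM M E).fg_top
  choose V g hgV hg0 using fun x : SectM M E => hzero E hE l x
  let O : E.obj.left.left.Opens := ⟨⋂ x ∈ s, Set.range (g x).hom.left.left, isOpen_biInter_finset fun x _ => by
    haveI := EtOver.etale_left (g x)
    exact (g x).hom.left.left.isOpenMap.isOpen_range⟩
  obtain ⟨U, hU, hlU, hUO⟩ := exists_isAffineOpen_mem_and_subset (U := O)
    (x := l.1.left (IsLocalRing.closedPoint p.K)) (Set.mem_iInter₂.mpr fun x _ => hgV x)
  haveI hW : Aff (openObj E U) := hU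
  have hs0 : ∀ x ∈ s, resM M (openObjι E U) x = 0 := fun x hx => by
    refine resM_eq_of_forall_pt M fun v => ?_
    obtain ⟨v', hv'⟩ := Set.mem_iInter₂.mp (hUO v.2) x hx
    obtain ⟨z, hz, -⟩ := exists_pullback_pt (openObjι E U) (g x) v v' hv'.symm
    refine ⟨_, EtOver.pullbackFst (openObjι E U) (g x), ⟨z, hz⟩, ?_⟩
    rw [← resM_comp, EtOver.pullback_condition, resM_comp, hg0, resM_zero', resM_zero']
  have hWzero : ∀ y : SectM M (openObj E U), y = 0 := fun y => by
    have h := span_resM_eq_top (openObjι E U) (goodM_of_isQuasicoherent M E) y (s : Set (SectM M E)) hs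
    refine (Submodule.mem_bot _).mp (Submodule.span_le.mpr ?_ h)
    rintro _ ⟨x, hx, rfl⟩
    exact hs0 x hx
  refine ⟨Set.range (Points.ofPt (openObj E U).obj.hom), (isOpenMap_ofPt (openObj E U).property).isOpen_range,
    ⟨⟨_, hlU⟩, ?_⟩, fun E' hE' x => resM_eq_of_forall_pt M fun v => ?_⟩
  · rw [mk_eq_of_lift p l]
    exact ofPt_comp _ _ _
  · obtain ⟨w, hw⟩ := hE' ⟨v, rfl⟩
    obtain ⟨W, a, b, z, hA, -, hb⟩ := exists_affine_common w v hw
    haveI := hA
    refine ⟨W, b, ⟨z, hb⟩, ?_⟩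
    have h := span_resM_eq_top a (goodM_of_isQuasicoherent M (openObj E U)) (resM M b x) Set.univ Submodule.span_univ
    rw [resM_zero']
    refine (Submodule.mem_bot _).mp (Submodule.span_le.mpr ?_ h)
    rintro _ ⟨y, -, rfl⟩
    rw [hWzero y]
    exact resM_zero' a

/-- The germ of a section at a lifted point. -/
theorem exists_germ_lift (hX : IsAlgSpace X) {M N : ModEt X} (φ : M ⟶ N) (p : FieldPt X) (hp : p.IsGeometric)
    (h : Function.Surjective ((etPoint p hX hp).presheafFiber.map ((toAbEt X).map φ).hom))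
    {E : EtOver X} (l : (FieldPt.liftsTo p).obj E) (y : SectM N E) :
    ∃ (W : EtOver X) (g : W ⟶ E) (w : SectM M W),
      l.1.left (IsLocalRing.closedPoint p.K) ∈ Set.range g.hom.left.left ∧ appM φ W w = resM N g y := by
  let Φ := etPoint p hX hp
  obtain ⟨z, hz⟩ := h (Φ.toPresheafFiber E l ((toAbEt X).obj N).obj y)
  obtain ⟨V, (m : (FieldPt.liftsTo p).obj V), w, rfl⟩ := Φ.toPresheafFiber_jointly_surjective z
  rw [GrothendieckTopology.Point.toPresheafFiber_naturality_apply] at hz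
  let N₁ : Φ.fiber.Elements := ⟨V, m⟩
  let M₁ : Φ.fiber.Elements := ⟨E, l⟩
  let f₁ : (IsCofiltered.min N₁ M₁).1 ⟶ V := (IsCofiltered.minToLeft N₁ M₁).1
  let f₂ : (IsCofiltered.min N₁ M₁).1 ⟶ E := (IsCofiltered.minToRight N₁ M₁).1
  have h₁ : Φ.fiber.map f₁ (IsCofiltered.min N₁ M₁).2 = m := (IsCofiltered.minToLeft N₁ M₁).2
  have h₂ : Φ.fiber.map f₂ (IsCofiltered.min N₁ M₁).2 = l := (IsCofiltered.minToRight N₁ M₁).2
  let Q := ((toAbEt X).obj N).obj
  have e : Φ.toPresheafFiber _ (IsCofiltered.min N₁ M₁).2 Q (Q.map f₁.op (appM φ V w)) =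
      Φ.toPresheafFiber _ (IsCofiltered.min N₁ M₁).2 Q (Q.map f₂.op y) := by
    rw [GrothendieckTopology.Point.toPresheafFiber_w_apply,
      GrothendieckTopology.Point.toPresheafFiber_w_apply, h₁, h₂]
    exact hz
  obtain ⟨W, g, k, hk, e'⟩ := (Φ.toPresheafFiber_eq_iff' _ _ _ _).1 e
  refine ⟨W, g ≫ f₂, resM M g (resM M f₁ w), mem_range_of_lift (p := p) (l' := k) ?_, ?_⟩
  · show Φ.fiber.map (g ≫ f₂) k = l
    rw [Functor.map_comp, ConcreteCategory.comp_apply, hk, h₂]
  · rw [← resM_appM, ← resM_appM, resM_comp]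
    exact e'

theorem germsVanish_cokernel (hX : IsAlgSpace X) {M N : ModEt X} [M.IsFinitePresentation] [N.IsFinitePresentation]
    (φ : M ⟶ N) (p : FieldPt X) (hp : p.IsGeometric)
    (h : Function.Surjective ((etPoint p hX hp).presheafFiber.map ((toAbEt X).map φ).hom)) :
    GermsVanish (cokernel φ) p := fun E hE l x => by
  haveI := hE
  obtain ⟨m, V, g, hV, hs, hy⟩ := exists_cover_preimage (cokernel.π φ) x
  obtain ⟨k, hk⟩ := hs (l.1.left (IsLocalRing.closedPoint p.K))
  obtain ⟨y, hy⟩ := hy k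
  obtain ⟨l', hl'⟩ := exists_lift_of_mem_range hp (g k) l hk
  obtain ⟨W, a, w, hv, hw⟩ := exists_germ_lift hX φ p hp h l' y
  obtain ⟨v, hv⟩ := hv
  refine ⟨W, a ≫ g k, ⟨v, ?_⟩, ?_⟩
  · show (g k).hom.left.left (a.hom.left.left v) = _
    rw [hv, ← hl']
    rfl
  · rw [resM_comp, ← hy, resM_appM, ← hw]
    exact congrArg (fun ψ : M ⟶ cokernel φ => appM ψ W w) (cokernel.condition φ)

theorem germsVanish_kernel (hX : IsAlgSpace X) {M N : ModEt X} (φ : M ⟶ N) (p : FieldPt X) (hp : p.IsGeometric)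
    (h : Function.Injective ((etPoint p hX hp).presheafFiber.map ((toAbEt X).map φ).hom)) :
    GermsVanish (kernel φ) p := fun E _ l x => by
  let Φ := etPoint p hX hp
  let P := ((toAbEt X).obj M).obj
  have h0 : Φ.toPresheafFiber E l P (appM (kernel.ι φ) E x) = Φ.toPresheafFiber E l P (0 : SectM M E) := by
    refine h ?_
    rw [GrothendieckTopology.Point.toPresheafFiber_naturality_apply,
      GrothendieckTopology.Point.toPresheafFiber_naturality_apply]
    congr 1
    exact (congrArg (fun ψ : kernel φ ⟶ N => appM ψ E x) (kernel.condition φ)).trans (map_zero (appM φ E)).symm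
  obtain ⟨W, g, e, hv⟩ := (germ_eq_iff hX hp P l _ _).1 h0
  refine ⟨W, g, hv, appM_injective (kernel.ι φ) W ?_⟩
  rw [← resM_appM, map_zero]
  exact e.trans (resM_zero' g)

theorem appM_injective_of_kernel {M N : ModEt X} (φ : M ⟶ N) (E : EtOver X)
    (hker : ∀ x : SectM (kernel φ) E, x = 0) : Function.Injective (appM φ E) :=
  (injective_iff_map_eq_zero _).2 fun x hx => by
    obtain ⟨y, hy⟩ := exists_kernel_preimage φ x hx
    rw [← hy, hker y]
    exact map_zero (appM (kernel.ι φ) E)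

/-- If the cokernel has no sections near the image of `E`, sections lift locally on `E`. -/
theorem exists_local_preimage {M N : ModEt X} (φ : M ⟶ N) {E : EtOver X}
    (hcok : ∀ x : SectM (cokernel φ) E, x = 0) (x : SectM N E) (v : ↥E.obj.left.left) :
    ∃ (W : EtOver X) (g : W ⟶ E) (y : SectM M W), v ∈ Set.range g.hom.left.left ∧ appM φ W y = resM N g x := by
  obtain ⟨U, hU, hvU, -⟩ := exists_isAffineOpen_mem_and_subset (U := (⊤ : E.obj.left.left.Opens)) (x := v) trivial
  haveI : Aff (openObj E U) := hU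
  have hx : appM (cokernel.π φ) (openObj E U) (resM N (openObjι E U) x) = 0 := by
    rw [← resM_appM, hcok (appM (cokernel.π φ) E x)]
    exact resM_zero' _
  obtain ⟨k₀, hk₀⟩ := exists_kernel_preimage (cokernel.π φ) (resM N (openObjι E U) x) hx
  haveI : Epi (Abelian.factorThruImage φ) := inferInstance
  obtain ⟨m, V, g, -, hs, hy⟩ := exists_cover_preimage (Abelian.factorThruImage φ)
    (k₀ : SectM (Abelian.image φ) (openObj E U))
  obtain ⟨k, v', hv'⟩ := hs ⟨v, hvU⟩
  obtain ⟨y, hy⟩ := hy k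
  refine ⟨V k, g k ≫ openObjι E U, y, ⟨v', ?_⟩, ?_⟩
  · show (openObjι E U).hom.left.left ((g k).hom.left.left v') = v
    rw [hv']
    rfl
  · have h1 : appM φ (V k) y = appM (Abelian.image.ι φ) (V k) (appM (Abelian.factorThruImage φ) (V k) y) :=
      (congrArg (fun ψ : M ⟶ N => appM ψ (V k) y) (Abelian.image.fac φ)).symm
    rw [h1, hy, ← resM_appM, resM_comp]
    exact congrArg (resM N (g k)) hk₀

theorem resM_exists_glue_pt (M : ModEt X) {ι : Type u} {E : EtOver X} {V : ι → EtOver X} (g : ∀ k, V k ⟶ E)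
    (hsurj : ∀ x : ↥E.obj.left.left, ∃ k, x ∈ Set.range (g k).hom.left.left) (x : ∀ k, SectM M (V k))
    (hx : ∀ k l, resM M (EtOver.pullbackFst (g k) (g l)) (x k) = resM M (EtOver.pullbackSnd (g k) (g l)) (x l)) :
    ∃ y : SectM M E, ∀ k, resM M (g k) y = x k :=
  exists_glue_pb (M.over E) (o := Over.mk (𝟙 E)) (V := fun k => Over.mk (g k))
    (fun k => Over.homMk (g k) (Category.comp_id _)) hsurj x hx

theorem appM_surjective_of_vanish {M N : ModEt X} (φ : M ⟶ N) (O : Set (Points X))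
    (hker : ∀ E : EtOver X, Set.range (Points.ofPt E.obj.hom) ⊆ O → ∀ x : SectM (kernel φ) E, x = 0)
    (hcok : ∀ E : EtOver X, Set.range (Points.ofPt E.obj.hom) ⊆ O → ∀ x : SectM (cokernel φ) E, x = 0)
    (E : EtOver X) (hE : Set.range (Points.ofPt E.obj.hom) ⊆ O) : Function.Surjective (appM φ E) := fun x => by
  have hsub : ∀ {W : EtOver X} (_ : W ⟶ E), Set.range (Points.ofPt W.obj.hom) ⊆ O := fun {W} a => by
    rintro _ ⟨w, rfl⟩
    refine hE ⟨a.hom.left.left w, ?_⟩
    rw [← ofPt_comp, EtOver.w a]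
  choose W g y hv hy using fun v => exists_local_preimage φ (hcok E hE) x v
  obtain ⟨z, hz⟩ := resM_exists_glue_pt M g (fun v => ⟨v, hv v⟩) y fun k l => by
    refine appM_injective_of_kernel φ _ (hker _ (hsub (EtOver.pullbackFst (g k) (g l) ≫ g k))) ?_
    exact ((resM_appM φ (EtOver.pullbackFst (g k) (g l)) (y k)).symm.trans
        ((congrArg (resM N (EtOver.pullbackFst (g k) (g l))) (hy k)).trans
          (resM_comp N (EtOver.pullbackFst (g k) (g l)) (g k) x).symm)).trans
      ((congrArg (fun a => resM N a x) (EtOver.pullback_condition (g k) (g l))).trans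
        ((resM_comp N (EtOver.pullbackSnd (g k) (g l)) (g l) x).trans
          ((congrArg (resM N (EtOver.pullbackSnd (g k) (g l))) (hy l)).symm.trans
            (resM_appM φ (EtOver.pullbackSnd (g k) (g l)) (y l)))))
  refine ⟨z, resM_eq_of_forall_pt N fun v => ⟨W v, g v, hv v, ?_⟩⟩
  rw [resM_appM, hz, hy]

theorem exists_space_of_isOpen {S : Scheme.{u}} (X : AlgSp.Space S) (O : Set (Points X.obj)) (hO : IsOpen O) :
    ∃ (X' : AlgSp.Space S) (j : X' ⟶ X), RepWith @IsOpenImmersion j.hom ∧ Set.range (Points.map j.hom) = O :=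
  ⟨⟨restrictSheaf X.obj O, isAlgSpace_restrictSheaf X.property hO⟩, ObjectProperty.homMk (restrictι X.obj O),
    repWith_restrictι hO, range_map_restrictι hO⟩

theorem stalk_injective {S : Scheme.{u}} {X : Sp S} (hX : IsAlgSpace X) {M N : ModEt X} (φ : M ⟶ N) (p : FieldPt X)
    (hp : p.IsGeometric) (h : Mono ((stalkEtFunctor AddCommGrpCat.{u + 1} p).map ((toAbEt X).map φ))) :
    Function.Injective ((etPoint p hX hp).presheafFiber.map ((toAbEt X).map φ).hom) :=
  (AddCommGrpCat.mono_iff_injective _).mp h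

theorem stalk_surjective {S : Scheme.{u}} {X : Sp S} (hX : IsAlgSpace X) {M N : ModEt X} (φ : M ⟶ N) (p : FieldPt X)
    (hp : p.IsGeometric) (h : Epi ((stalkEtFunctor AddCommGrpCat.{u + 1} p).map ((toAbEt X).map φ))) :
    Function.Surjective ((etPoint p hX hp).presheafFiber.map ((toAbEt X).map φ).hom) :=
  (AddCommGrpCat.epi_iff_surjective _).mp h

end Groth.Agent.SpQC61

namespace Groth.Agent.SpQC61

theorem stalk_epi_of_vanish {S : Scheme.{u}} {X : Sp S} (hX : IsAlgSpace X) {M N : ModEt X} (φ : M ⟶ N)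
    (p : FieldPt X) (hp : p.IsGeometric) (O : Set (Points X)) (hO : IsOpen O) (hpO : Points.mk p ∈ O)
    (hcok : ∀ E : EtOver X, Set.range (Points.ofPt E.obj.hom) ⊆ O → ∀ x : SectM (cokernel φ) E, x = 0) :
    Epi ((stalkEtFunctor AddCommGrpCat.{u + 1} p).map ((toAbEt X).map φ)) := by
  refine (AddCommGrpCat.epi_iff_surjective _).mpr fun z => ?_
  let Φ := etPoint p hX hp
  obtain ⟨E, (l : (FieldPt.liftsTo p).obj E), x, rfl⟩ :=
    Φ.toPresheafFiber_jointly_surjective (P := ((toAbEt X).obj N).obj) z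
  let U : E.obj.left.left.Opens := ⟨_, hO.preimage (Points.continuous_ofPt E.obj.hom)⟩
  have hlU : l.1.left (IsLocalRing.closedPoint p.K) ∈ U := by
    show Points.ofPt E.obj.hom _ ∈ O
    rw [← mk_eq_of_lift p l]
    exact hpO
  obtain ⟨l₁, hl₁⟩ := exists_lift_of_mem_range hp (openObjι E U) l ⟨⟨_, hlU⟩, rfl⟩
  have hsub : Set.range (Points.ofPt (openObj E U).obj.hom) ⊆ O := by
    rintro _ ⟨v, rfl⟩
    rw [show Points.ofPt (openObj E U).obj.hom v = Points.ofPt E.obj.hom v.1 from ofPt_comp _ _ _]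
    exact v.2
  obtain ⟨W, g, y, hv, hy⟩ := exists_local_preimage φ (hcok _ hsub) (resM N (openObjι E U) x)
    (l₁.1.left (IsLocalRing.closedPoint p.K))
  obtain ⟨l₂, hl₂⟩ := exists_lift_of_mem_range hp g l₁ hv
  refine ⟨Φ.toPresheafFiber W l₂ ((toAbEt X).obj M).obj y, ?_⟩
  show Φ.presheafFiber.map ((toAbEt X).map φ).hom _ = _
  rw [GrothendieckTopology.Point.toPresheafFiber_naturality_apply]
  show Φ.toPresheafFiber W l₂ ((toAbEt X).obj N).obj (appM φ W y) = _
  rw [hy, ← resM_comp]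
  refine (GrothendieckTopology.Point.toPresheafFiber_w_apply Φ (g ≫ openObjι E U) l₂ ((toAbEt X).obj N).obj x).trans ?_
  have e : (FieldPt.liftsTo p).map (g ≫ openObjι E U) l₂ = l := by
    rw [Functor.map_comp, ConcreteCategory.comp_apply, hl₂, hl₁]
  show Φ.toPresheafFiber E ((FieldPt.liftsTo p).map (g ≫ openObjι E U) l₂) ((toAbEt X).obj N).obj x = _
  rw [e]

end Groth.Agent.SpQC61
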