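import Groth.Agent.SpQC61.IdealPow
import Groth.Agent.SpQC86.ClosedSub

/-! Splitting the support of a coherent module. -/

universe u

set_option autoImplicit false
set_option backward.isDefEq.respectTransparency false

open CategoryTheory CategoryTheory.Limits AlgebraicGeometry Opposite
open AlgSp Groth.Agent.SpFP87 Groth.Agent.SpPts86

namespace Groth.Agent.SpQC61

variable {S : Scheme.{u}} {X : Sp S}

/-- A section killed by a function invertible at a point vanishes near that point. -/
theorem exists_nbhd_zero_of_smul_eq_zero {M : ModEt X} {W : EtOver X} [Aff W] (x : SectM M W) (f : Γt W)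
    (v : ↥W.obj.left.left) (hf : f ∉ primeAtPt W.obj.left.left v) (h0 : f • x = 0) :
    ∃ (V : EtOver X) (g : V ⟶ W), v ∈ Set.range g.hom.left.left ∧ resM M g x = 0 := by
  let D := W.obj.left.left.basicOpen f
  have hvD : v ∈ D := by
    rw [Scheme.mem_basicOpen_top]
    by_contra hnu
    exact hf ((IsLocalRing.mem_maximalIdeal _).mpr hnu)
  refine ⟨_, openObjι W D, ⟨⟨v, hvD⟩, rfl⟩, ?_⟩
  have h3 := congrArg (resM M (openObjι W D)) h0
  rw [resM_smul, resM_zero'] at h3
  have hu : IsUnit (cmap (openObjι W D) f) := by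
    show IsUnit (D.ι.appTop.hom f)
    have h := RingedSpace.isUnit_res_basicOpen W.obj.left.left.toRingedSpace f
    rw [Scheme.Opens.ι_appTop]
    have h2 : IsUnit (W.obj.left.left.presheaf.map
        (homOfLE (show D.ι ''ᵁ ⊤ ≤ D by simp)).op (W.obj.left.left.presheaf.map
          (homOfLE (show D ≤ ⊤ from le_top)).op f)) := IsUnit.map (CommRingCat.Hom.hom _) h
    rw [← ConcreteCategory.comp_apply, ← Functor.map_comp] at h2
    exact h2
  exact hu.smul_eq_zero.mp h3

/-- If the stalk vanishes, every section is killed by a function invertible at the point. -/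
theorem exists_notMem_of_isZero_stalk (hX : IsAlgSpace X) {M : ModEt X} [M.IsQuasicoherent]
    {E : EtOver X} [Aff E] (t : SectM M E) (w : ↥E.obj.left.left)
    (h : ∀ p : FieldPt X, p.IsGeometric → Points.mk p = Points.ofPt E.obj.hom w →
      IsZero (stalkEt p ((toAbEt X).obj M))) :
    ∃ r : Γt E, r ∉ primeAtPt E.obj.left.left w ∧ r • t = 0 := by
  obtain ⟨p, l, hp, hl, hlp⟩ := exists_geometric_lift E w
  haveI := AddCommGrpCat.subsingleton_of_isZero (h p hp hlp)
  obtain ⟨V, g, e, hv⟩ := (germ_eq_iff hX hp ((toAbEt X).obj M).obj l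
    (t : SectM M E) (0 : SectM M E)).1
    (Subsingleton.elim (α := (stalkEt p ((toAbEt X).obj M) : AddCommGrpCat.{u + 1})) _ _)
  obtain ⟨v, hv⟩ := hv
  obtain ⟨U, hU, hvU, -⟩ := exists_isAffineOpen_mem_and_subset (U := (⊤ : V.obj.left.left.Opens)) (x := v) trivial
  haveI : Aff (openObj V U) := hU
  have h0 : resM M (openObjι V U ≫ g) t = 0 := by
    rw [resM_comp, show resM M g t = 0 from e.trans (resM_zero' g), resM_zero']
  obtain ⟨r, hr, hrt⟩ := exists_notMem_of_resM_eq_zero (openObjι V U ≫ g) t h0 ⟨v, hvU⟩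
  exact ⟨r, (show (openObjι V U ≫ g).hom.left.left ⟨v, hvU⟩ = w from hv.trans hl) ▸ hr, hrt⟩

theorem isZero_stalk_of_sections (hX : IsAlgSpace X) {M : ModEt X} (p : FieldPt X) (hp : p.IsGeometric)
    (h : ∀ (W : EtOver X), Aff W → ∀ (x : SectM M W) (v : ↥W.obj.left.left),
      Points.ofPt W.obj.hom v = Points.mk p → ∃ (V : EtOver X) (g : V ⟶ W),
        v ∈ Set.range g.hom.left.left ∧ resM M g x = 0) :
    IsZero (stalkEt p ((toAbEt X).obj M)) := by
  let Φ := etPoint p hX hp
  let P := ((toAbEt X).obj M).obj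
  suffices h : ∀ z : (Φ.presheafFiber.obj P : AddCommGrpCat.{u + 1}), z = 0 by
    haveI : Subsingleton ↑(stalkEt p ((toAbEt X).obj M) : AddCommGrpCat.{u + 1}) :=
      ⟨fun a b => (h a).trans (h b).symm⟩
    exact AddCommGrpCat.isZero_of_subsingleton _
  intro z
  obtain ⟨V, (l : (FieldPt.liftsTo p).obj V), s, rfl⟩ := Φ.toPresheafFiber_jointly_surjective (P := P) z
  refine ((germ_eq_iff hX hp P l s (0 : SectM M V)).2 ?_).trans (map_zero _)
  obtain ⟨U, hU, hvU, -⟩ := exists_isAffineOpen_mem_and_subset (U := (⊤ : V.obj.left.left.Opens))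
    (x := l.1.left (IsLocalRing.closedPoint p.K)) trivial
  obtain ⟨W, g, ⟨w, hw⟩, hg⟩ := h (openObj V U) hU (resM M (openObjι V U) s) ⟨_, hvU⟩
    ((ofPt_comp _ _ _).trans (mk_eq_of_lift p l).symm)
  refine ⟨W, g ≫ openObjι V U, ?_, ⟨w, congrArg Subtype.val hw⟩⟩
  show resM M (g ≫ openObjι V U) s = resM M (g ≫ openObjι V U) 0
  rw [resM_comp, hg, resM_zero']

theorem exists_supp_split (hX : IsAlgSpace X) (hN : IsLocNoethSp X) (F : ModEt X) [F.IsFinitePresentation]
    (Z Z' : Set (Points X)) (hZ : IsClosed Z) (hZ' : IsClosed Z')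
    (hsupp : ∀ x : FieldPt X, x.IsGeometric → Points.mk x ∉ Z ∪ Z' → IsZero (stalkEt x ((toAbEt X).obj F))) :
    ∃ (G' : ModEt X) (a : G' ⟶ F), Mono a ∧ G'.IsFinitePresentation ∧
      (cokernel a).IsFinitePresentation ∧
        (∀ x : FieldPt X, x.IsGeometric → Points.mk x ∉ Z' →
          IsZero (stalkEt x ((toAbEt X).obj G'))) ∧
        (∀ x : FieldPt X, x.IsGeometric → Points.mk x ∉ Z →
          IsZero (stalkEt x ((toAbEt X).obj (cokernel a)))) := by
  obtain ⟨G', a, hm, hq, hr, -⟩ := SpQC86.exists_supported F Z' fun W hW => by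
    haveI := hW
    haveI : IsLocallyNoetherian W.obj.left.left := SpFP87.isLocallyNoetherian_chart hX hN W.property
    haveI : IsNoetherian W.obj.left.left := { }
    have ho : IsOpen (Points.ofPt W.obj.hom ⁻¹' Z'ᶜ) := hZ'.isOpen_compl.preimage (Points.continuous_ofPt _)
    obtain ⟨J, hJ, he⟩ := SpQC86.exists_fg_of_compact_open (TopologicalSpace.NoetherianSpace.isCompact _) ho
    exact ⟨J, hJ, he.trans (compl_compl (Points.ofPt W.obj.hom ⁻¹' Z'))⟩
  replace hr : ∀ W : EtOver X, Aff W → Set.range (appM a W) = {x : SectM F W | W.obj.left.left.zeroLocus (U := ⊤)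
      ((annSect (show sectModEt F W from x) : Ideal (Γt W)) : Set (Γt W)) ⊆
        {w | Points.ofPt W.obj.hom w ∈ Z'}} := hr
  haveI := hq
  haveI := hm
  haveI hG := isFinitePresentation_of_mono hX hN a
  refine ⟨G', a, hm, hG, (isFinitePresentation_kernel_cokernel hX hN a).2, fun p hp hout => ?_, fun p hp hout => ?_⟩
  · refine isZero_stalk_of_sections hX p hp fun W hW x v hv => ?_
    haveI := hW
    have hx : appM a W x ∈ Set.range (appM a W) := ⟨x, rfl⟩
    rw [hr W hW] at hx
    have hv' : v ∉ W.obj.left.left.zeroLocus (U := ⊤)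
        ((annSect (show sectModEt F W from appM a W x) : Ideal (Γt W)) : Set (Γt W)) := fun h =>
      hout (hv ▸ hx h)
    rw [Scheme.mem_zeroLocus_iff] at hv'
    push Not at hv'
    obtain ⟨f, hf, hfv⟩ := hv'
    have hfp : f ∉ primeAtPt W.obj.left.left v := fun h => by
      rw [Scheme.mem_basicOpen_top] at hfv
      exact (IsLocalRing.mem_maximalIdeal _).mp h hfv
    refine exists_nbhd_zero_of_smul_eq_zero x f v hfp (appM_injective a W ?_)
    rw [map_smul, map_zero]
    exact (mem_annSect_iff_smul _ f).mp hf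
  · refine isZero_stalk_of_sections hX p hp fun W hW y v hv => ?_
    haveI := hW
    obtain ⟨m, V, g, hV, hs, hy⟩ := exists_cover_preimage (cokernel.π a) y
    obtain ⟨k, v', hv'⟩ := hs v
    obtain ⟨x, hx⟩ := hy k
    have hvZ : Points.ofPt (V k).obj.hom v' ∈ Zᶜ := by
      rw [← EtOver.w (g k), ofPt_comp, hv', hv]
      exact hout
    obtain ⟨U, hU, hvU, hUZ⟩ := exists_isAffineOpen_mem_and_subset
      (U := (⟨_, hZ.isOpen_compl.preimage (Points.continuous_ofPt (V k).obj.hom)⟩ : (V k).obj.left.left.Opens))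
      (x := v') hvZ
    haveI hA : Aff (openObj (V k) U) := hU
    refine ⟨_, openObjι (V k) U ≫ g k, ⟨⟨v', hvU⟩, hv'⟩, ?_⟩
    rw [resM_comp, ← hx, resM_appM]
    have hmem : resM F (openObjι (V k) U) x ∈ Set.range (appM a (openObj (V k) U)) := by
      rw [hr _ hA]
      intro u hu
      by_contra huZ'
      obtain ⟨r, hr', hrx⟩ := exists_notMem_of_isZero_stalk hX (resM F (openObjι (V k) U) x) u
        fun q hq hqu => hsupp q hq (by
          rw [hqu]
          rintro (h | h)
          · refine hUZ u.2 (?_ : Points.ofPt (V k).obj.hom u.1 ∈ Z)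
            exact (ofPt_comp (openObjι (V k) U).hom.left (V k).obj.hom u) ▸ h
          · exact huZ' h)
      rw [Scheme.mem_zeroLocus_iff] at hu
      refine hu r ((mem_annSect_iff_smul _ r).mpr hrx) ?_
      rw [Scheme.mem_basicOpen_top]
      by_contra hnu
      exact hr' ((IsLocalRing.mem_maximalIdeal _).mpr hnu)
    obtain ⟨z, hz⟩ := hmem
    rw [← hz]
    exact congrArg (fun ψ : G' ⟶ cokernel a => appM ψ (openObj (V k) U) z) (cokernel.condition a)

end Groth.Agent.SpQC61
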