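import Groth.Prelude.Def_AlgSpOX
import Mathlib.Algebra.Category.ModuleCat.Presheaf.Free
import Mathlib.Algebra.Category.Grp.AB
import Mathlib.CategoryTheory.Generator.Basic
import Mathlib.CategoryTheory.Abelian.GrothendieckAxioms.Sheaf

/-! Modules on small etale sites form a Grothendieck abelian category. -/

set_option autoImplicit false
set_option backward.isDefEq.respectTransparency false

universe u

open CategoryTheory CategoryTheory.Limits AlgebraicGeometry Opposite
open AlgSp

namespace Groth.Agent.SpQC61

variable {C : Type (u + 1)} [Category.{u} C] {J : GrothendieckTopology C}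

instance presheafMod_ab5_large (R₀ : Cᵒᵖ ⥤ RingCat.{u + 1}) : AB5OfSize.{u + 1, u + 1} (PresheafOfModules.{u + 1} R₀) where
  ofShape K _ _ := HasExactColimitsOfShape.domain_of_functor K (PresheafOfModules.toPresheaf R₀)

variable (R : Sheaf J RingCat.{u + 1}) [HasSheafify J AddCommGrpCat.{u + 1}]
  [J.WEqualsLocallyBijective AddCommGrpCat.{u + 1}]

instance sheafMod_ab5_large : AB5OfSize.{u + 1, u + 1} (SheafOfModules.{u + 1} R) where
  ofShape K _ _ :=
    (PresheafOfModules.sheafificationAdjunction (𝟙 R.obj)).hasExactColimitsOfShape K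

theorem sheafMod_hasSeparator_large : HasSeparator (SheafOfModules.{u + 1} R) := by
  let adj := PresheafOfModules.sheafificationAdjunction (𝟙 R.obj)
  let G : C → SheafOfModules.{u + 1} R := fun X =>
    (PresheafOfModules.sheafification (𝟙 R.obj)).obj
      ((PresheafOfModules.free R.obj).obj (uliftYoneda.{u + 1}.obj X))
  have hG : (ObjectProperty.ofObj G).IsSeparating := by
    intro M N f g h
    apply (SheafOfModules.forget R).map_injective
    refine PresheafOfModules.hom_ext fun X => ?_
    ext m
    let k : (PresheafOfModules.free R.obj).obj (uliftYoneda.{u + 1}.obj X.unop) ⟶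
        (SheafOfModules.forget R).obj M :=
      (PresheafOfModules.freeHomEquiv (R := R.obj)).symm (uliftYonedaEquiv.symm m)
    have h1 := h _ ⟨X.unop⟩ ((adj.homEquiv _ M).symm k)
    have h2 := congrArg (adj.homEquiv _ N) h1
    rw [Adjunction.homEquiv_naturality_right, Adjunction.homEquiv_naturality_right,
      Equiv.apply_symm_apply] at h2
    have h3 := congrArg (fun φ => uliftYonedaEquiv ((PresheafOfModules.freeHomEquiv (R := R.obj)) φ)) h2
    have hk : uliftYonedaEquiv ((PresheafOfModules.freeHomEquiv (R := R.obj)) k) = m :=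
      (congrArg uliftYonedaEquiv (Equiv.apply_symm_apply _ _)).trans (Equiv.apply_symm_apply _ _)
    rw [← hk]
    exact h3
  exact ⟨⟨∐ G, hG.isSeparator_coproduct⟩⟩

instance sheafMod_isGrothendieckAbelian_large :
    IsGrothendieckAbelian.{u + 1} (SheafOfModules.{u + 1} R) where
  hasSeparator := sheafMod_hasSeparator_large R

instance modEt_isGrothendieckAbelian {S : Scheme.{u}} (X : Sp S) : IsGrothendieckAbelian.{u + 1} (ModEt X) :=
  inferInstanceAs (IsGrothendieckAbelian.{u + 1} (SheafOfModules.{u + 1} (OEtRing X)))

end Groth.Agent.SpQC61
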