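import Groth.Agent.Unr55.Et.CechInjU
import Groth.Agent.Unr55.Et.CechFlasque
import Mathlib.Algebra.Category.ModuleCat.Presheaf.Free
import Mathlib.Algebra.Category.ModuleCat.Presheaf.Abelian
import Mathlib.Algebra.Category.ModuleCat.Sheaf.Abelian
import Mathlib.CategoryTheory.Abelian.Exact

/-! Injective sheaves of modules have trivial higher Čech cohomology. -/

set_option autoImplicit false
set_option backward.isDefEq.respectTransparency false

universe u v w

open CategoryTheory CategoryTheory.Limits Opposite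
open Groth.Agent.Unr55

namespace Groth.Agent.SpQC61

open CechInjU Fib44

variable {C : Type v} [Category.{w} C] {U : C} {ι : Type (max u w)} (Y : ι → Over U)
  (R : Cᵒᵖ ⥤ RingCat.{max u w})

/-- The free presheaves of modules on tuples. -/
noncomputable abbrev modZ (n : ℕ) : PresheafOfModules.{max u w} R := (PresheafOfModules.free R).obj (NF Y n)

/-- The differential. -/
noncomputable def modDZ (n : ℕ) : modZ Y R (n + 1) ⟶ modZ Y R n :=
  ∑ j : Fin (n + 2), (-1 : ℤ) ^ (j : ℕ) • (PresheafOfModules.free R).map (omitF Y n j)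

/-- The value of a map on a tuple. -/
noncomputable def evTuple {n : ℕ} (P : PresheafOfModules.{max u w} R) (V : Cᵒᵖ) (x : N Y n V.unop) :
    (modZ Y R n ⟶ P) →+ P.obj V :=
  AddMonoidHom.mk' (fun α => α.app V (ModuleCat.freeMk (R := R.obj V) (x : (NF Y n).obj V))) (fun _ _ => rfl)

theorem evTuple_modDZ {n : ℕ} {P : PresheafOfModules.{max u w} R} (α : modZ Y R n ⟶ P) (V : Cᵒᵖ)
    (x : N Y (n + 1) V.unop) : evTuple Y R P V x (modDZ Y R n ≫ α) =
      ∑ j : Fin (n + 2), (-1 : ℤ) ^ (j : ℕ) • evTuple Y R P V (omit' Y j x) α := by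
  rw [modDZ, Preadditive.sum_comp, map_sum]
  refine Finset.sum_congr rfl fun j _ => ?_
  rw [Preadditive.zsmul_comp, map_zsmul]
  refine congrArg _ ?_
  exact congrArg (α.app V).hom (ModuleCat.free_map_apply _ _)

theorem modDZ_app_freeMk (n : ℕ) (V : Cᵒᵖ) (x : N Y (n + 1) V.unop) :
    (modDZ Y R n).app V (ModuleCat.freeMk (R := R.obj V) (x : (NF Y (n + 1)).obj V)) =
      ∑ j : Fin (n + 2), (-1 : ℤ) ^ (j : ℕ) •
        (ModuleCat.freeMk (R := R.obj V) (omit' Y j x : (NF Y n).obj V) : (modZ Y R n).obj V) := by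
  have h := evTuple_modDZ Y R (𝟙 (modZ Y R n)) V x
  rw [Category.comp_id] at h
  exact h

/-- The cone. -/
noncomputable def modCone (n : ℕ) (V : Cᵒᵖ) : (modZ Y R n).obj V ⟶ (modZ Y R (n + 1)).obj V :=
  (ModuleCat.free (R.obj V)).map (↾fun x => (cone Y (V := V.unop) x : (NF Y (n + 1)).obj V))

theorem modCone_freeMk (n : ℕ) (V : Cᵒᵖ) (x : N Y n V.unop) :
    modCone Y R n V (ModuleCat.freeMk (R := R.obj V) (x : (NF Y n).obj V)) =
      ModuleCat.freeMk (R := R.obj V) (cone Y x : (NF Y (n + 1)).obj V) :=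
  ModuleCat.free_map_apply _ _

theorem mod_homotopy (n : ℕ) (V : Cᵒᵖ) :
    modCone Y R (n + 1) V ≫ (modDZ Y R (n + 1)).app V + (modDZ Y R n).app V ≫ modCone Y R n V =
      𝟙 ((modZ Y R (n + 1)).obj V) := by
  refine ModuleCat.free_hom_ext fun x => ?_
  show (modDZ Y R (n + 1)).app V (modCone Y R (n + 1) V (ModuleCat.freeMk x)) +
    modCone Y R n V ((modDZ Y R n).app V (ModuleCat.freeMk x)) = ModuleCat.freeMk x
  rw [modCone_freeMk, modDZ_app_freeMk, modDZ_app_freeMk, map_sum, Fin.sum_univ_succ]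
  simp only [map_zsmul, modCone_freeMk, Fin.val_zero, pow_zero, one_smul, omit_zero_cone, Fin.val_succ,
    omit_succ_cone, pow_succ, mul_neg, mul_one, neg_smul, Finset.sum_neg_distrib]
  abel

variable {R}

theorem exists_mod_factor (n : ℕ) {I : PresheafOfModules.{max u w} R} [Injective I]
    (φ : modZ Y R (n + 1) ⟶ I) (h : modDZ Y R (n + 1) ≫ φ = 0) : ∃ y, modDZ Y R n ≫ y = φ := by
  have h0 : kernel.ι (modDZ Y R n) ≫ φ = 0 := by
    ext V k
    let z := (kernel.ι (modDZ Y R n)).app V k
    have hz : (modDZ Y R n).app V z = 0 :=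
      congrArg (fun α : kernel (modDZ Y R n) ⟶ modZ Y R n => α.app V k) (kernel.condition (modDZ Y R n))
    have hz' : (modDZ Y R (n + 1)).app V (modCone Y R (n + 1) V z) = z := by
      have h' := congrArg (fun α : (modZ Y R (n + 1)).obj V ⟶ (modZ Y R (n + 1)).obj V => α z) (mod_homotopy Y R n V)
      change (modDZ Y R (n + 1)).app V (modCone Y R (n + 1) V z) + modCone Y R n V ((modDZ Y R n).app V z) = z at h'
      rwa [hz, map_zero, add_zero] at h'
    show φ.app V z = 0
    rw [← hz']
    exact congrArg (fun α : modZ Y R (n + 2) ⟶ I => α.app V (modCone Y R (n + 1) V z)) h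
  have hE : (ShortComplex.mk (kernel.ι (modDZ Y R n)) (modDZ Y R n) (kernel.condition _)).Exact :=
    ShortComplex.exact_of_f_is_kernel _ (kernelIsKernel _)
  exact ⟨hE.descToInjective φ h0, hE.comp_descToInjective φ h0⟩

variable [HasFiniteProducts (Over U)]

theorem isZero_cechH_modInj (I : PresheafOfModules.{max u w} R) [Injective I] (p : ℕ) :
    IsZero (EtCech.cechH Y I.presheaf (p + 1)) := by
  refine (Cech.isZero_homology_succ_iff _ _ p).2 fun f hf => ?_
  let φ : modZ Y R (p + 1) ⟶ I := PresheafOfModules.freeHomEquiv.symm (toPsh Y (P := I.presheaf) (p + 1) f)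
  have hφ : ∀ (V : Cᵒᵖ) (x : N Y (p + 1) V.unop),
      evTuple Y R I V x φ = I.presheaf.map (liftN Y x).left.op (f fun k => (x.1 k).1) := fun V x =>
    ModuleCat.freeDesc_apply _ _
  have h0 : modDZ Y R (p + 1) ≫ φ = 0 := by
    refine PresheafOfModules.hom_ext fun V => ModuleCat.free_hom_ext fun x => ?_
    refine (evTuple_modDZ Y R φ V x).trans ?_
    have h := congrArg (fun z => I.presheaf.map (liftN Y (V := V.unop) x).left.op z) (hf fun k => (x.1 k).1)
    simp only [map_sum, map_zsmul, map_zero] at h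
    refine Eq.trans (Finset.sum_congr rfl fun j _ => congrArg _ ?_) h
    refine (hφ V (omit' Y j x)).trans ?_
    rw [liftN_omit Y (V := V.unop) x j]
    exact ConcreteCategory.congr_hom
      (I.presheaf.map_comp (Cech.face Y (fun k => (x.1 k).1) j.succAbove).left.op (liftN Y (V := V.unop) x).left.op) _
  obtain ⟨y, hy⟩ := exists_mod_factor Y p φ h0
  refine ⟨fun a => evTuple Y R I (op (∏ᶜ (Y ∘ a)).left) (canon Y a) y, fun a => ?_⟩
  have h := (evTuple_modDZ Y R y (op (∏ᶜ (Y ∘ a)).left) (canon Y a)).symm.trans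
    ((congrArg (evTuple Y R I _ _) hy).trans (hφ (op (∏ᶜ (Y ∘ a)).left) (canon Y a)))
  erw [liftN_canon, CategoryTheory.Functor.map_id] at h
  refine Eq.trans (Finset.sum_congr rfl fun j _ => congrArg _ ?_) h
  refine (PresheafOfModules.naturality_apply y (Cech.face Y a j.succAbove).left.op
    (ModuleCat.freeMk (R := R.obj (op (∏ᶜ (Y ∘ (a ∘ j.succAbove))).left))
      (canon Y (a ∘ j.succAbove) : (NF Y p).obj (op (∏ᶜ (Y ∘ (a ∘ j.succAbove))).left)))).symm.trans ?_
  refine congrArg (y.app _).hom ?_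
  exact (ModuleCat.freeDesc_apply _ _).trans (congrArg ModuleCat.freeMk (omit_canon Y a j).symm)

variable {J : GrothendieckTopology C} (O : Sheaf J RingCat.{max u w}) [HasSheafify J AddCommGrpCat.{max u w}]
  [J.WEqualsLocallyBijective AddCommGrpCat.{max u w}]

theorem injective_val_of_injective (I : SheafOfModules.{max u w} O) [Injective I] : Injective I.val := by
  haveI : (PresheafOfModules.sheafification (J := J) (R := O) (𝟙 O.obj)).PreservesMonomorphisms :=
    preservesMonomorphisms_of_preservesLimitsOfShape _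
  exact Injective.injective_of_adjoint (PresheafOfModules.sheafificationAdjunction (𝟙 O.obj)) I

end Groth.Agent.SpQC61
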