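import Groth.Agent.SpQC61.Main
import Groth.Agent.SpQC61.EpiLocal
import Mathlib.Algebra.Homology.ShortComplex.Homology
import Mathlib.LinearAlgebra.TensorProduct.RightExactness
import Mathlib.RingTheory.Flat.Basic

/-! The base change property on slices: summands of free modules and cohomology of complexes. -/

set_option autoImplicit false
set_option linter.style.haveILetI false
set_option backward.isDefEq.respectTransparency false

universe u

open CategoryTheory CategoryTheory.Limits AlgebraicGeometry Opposite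
open AlgSp
open scoped TensorProduct

namespace Groth.Agent.SpQC61

variable {S : Scheme.{u}} {X : Sp S} {E : EtOver X}

/-- The canonical base change map on the slice. -/
noncomputable abbrev bcO (F : ModOver E) {o' o : Over E} (g : o' ⟶ o) : Ten (Sect F o) g →+ Sect F o' :=
  bc F (AddMonoidHom.id (Sect F o)) (fun _ _ => rfl) g

/-- Sections over affine objects over `o` are base change from `o`. -/
def GoodAtO (F : ModOver E) (o : Over E) : Prop :=
  ∀ (o' : Over E) (g : o' ⟶ o), Aff o'.left → Function.Bijective (bcO F g)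

theorem goodAtO_free (I : Type (u + 1)) (o : Over E) [Aff o.left] : GoodAtO (freeOver E I) o := by
  intro o' g ha
  let P : (freeOver E I).Presentation :=
    SheafOfModules.presentationOfIsCokernelFree (0 : freeOver E PEmpty.{u + 2} ⟶ freeOver E I) (𝟙 _) (by simp)
      (CokernelCofork.IsColimit.ofId _ rfl)
  exact goodAt_of_presentation P g ha

/-- A morphism on base changed sections. -/
noncomputable def tenApp {F G : ModOver E} (φ : F ⟶ G) {o' o : Over E} (g : o' ⟶ o) :
    Ten (Sect F o) g →+ Ten (Sect G o) g :=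
  letI := (cmap g.left).toAlgebra
  ((appS φ o).lTensor (Γt o'.left)).toAddMonoidHom

theorem tenApp_tmk {F G : ModOver E} (φ : F ⟶ G) {o' o : Over E} (g : o' ⟶ o) (a : Γt o'.left)
    (n : Sect F o) : tenApp φ g (tmk g a n) = tmk g a (appS φ o n) := rfl

theorem bcO_tenApp {F G : ModOver E} (φ : F ⟶ G) {o' o : Over E} (g : o' ⟶ o) (x : Ten (Sect F o) g) :
    bcO G g (tenApp φ g x) = appS φ o' (bcO F g x) := by
  induction x using ten_induction with
  | h0 => rw [map_zero, map_zero, map_zero, map_zero]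
  | ht a n =>
    rw [tenApp_tmk, bc_tmk, bc_tmk, LinearMap.map_smul]
    exact congrArg (a • ·) (appS_res φ g n)
  | ha p q hp hq => rw [map_add, map_add, map_add, map_add, hp, hq]

theorem appS_retract {F G : ModOver E} (i : F ⟶ G) (p : G ⟶ F) (h : i ≫ p = 𝟙 F) (o : Over E) (x : Sect F o) :
    appS p o (appS i o x) = x :=
  congrArg (fun φ : F ⟶ F => appS φ o x) h

theorem GoodAtO.retract {F G : ModOver E} {o : Over E} (hG : GoodAtO G o) (i : F ⟶ G) (p : G ⟶ F)
    (h : i ≫ p = 𝟙 F) : GoodAtO F o := fun o' g ha => by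
  have hpi : ∀ x, tenApp p g (tenApp i g x) = x := fun x => by
    induction x using ten_induction with
    | h0 => rw [map_zero, map_zero]
    | ht a n => rw [tenApp_tmk, tenApp_tmk, appS_retract i p h]
    | ha a b ha hb => rw [map_add, map_add, ha, hb]
  refine ⟨(injective_iff_map_eq_zero _).2 fun x hx => ?_, fun y => ?_⟩
  · have h0 : tenApp i g x = 0 := (hG o' g ha).1 (by rw [bcO_tenApp, hx, map_zero, map_zero])
    rw [← hpi x, h0, map_zero]
  · obtain ⟨z, hz⟩ := (hG o' g ha).2 (appS i o' y)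
    exact ⟨tenApp p g z, by rw [bcO_tenApp, hz, appS_retract i p h]⟩

theorem GoodAtO.of_iso {F G : ModOver E} {o : Over E} (hG : GoodAtO G o) (e : F ≅ G) : GoodAtO F o :=
  hG.retract e.hom e.inv e.hom_inv_id

/-- Evaluation of a kernel on sections. -/
theorem exact_appS_cycles (C : ShortComplex (ModOver E)) (o : Over E) :
    Function.Injective (appS C.iCycles o) ∧ Function.Exact (appS C.iCycles o) (appS C.g o) := by
  let Fv := SheafOfModules.evaluation.{u + 1} ((OEtRing X).over E) (op o)
  haveI : Fv.Additive := ⟨rfl⟩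
  haveI : PreservesLimit (parallelPair C.g 0) Fv := inferInstance
  let C' := ShortComplex.mk C.iCycles C.g C.iCycles_g
  refine ⟨?_, fun x => ⟨fun hx => ?_, ?_⟩⟩
  · haveI : Mono (Fv.map C.iCycles) := by
      rw [mono_iff_isPullback]
      exact IsPullback.map Fv ((mono_iff_isPullback C.iCycles).1 inferInstance)
    exact (ModuleCat.mono_iff_injective (Fv.map C.iCycles)).1 inferInstance
  · exact (ShortComplex.moduleCat_exact_iff _).1
      (ShortComplex.exact_of_f_is_kernel (C'.map Fv) (KernelFork.mapIsLimit _ C.cyclesIsKernel Fv)) x hx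
  · rintro ⟨y, rfl⟩
    exact congrArg (fun φ : C.cycles ⟶ C.X₃ => appS φ o y) C.iCycles_g

theorem goodAtO_cycles (C : ShortComplex (ModOver E)) {o : Over E} [Aff o.left] (h₂ : GoodAtO C.X₂ o)
    (h₃ : GoodAtO C.X₃ o) : GoodAtO C.cycles o := fun o' g ha => by
  haveI := ha
  letI := (cmap g.left).toAlgebra
  haveI : Module.Flat (Γt o.left) (Γt o'.left) := flat_cmap g.left
  obtain ⟨hinj, hex⟩ := exact_appS_cycles C o
  obtain ⟨hinj', hex'⟩ := exact_appS_cycles C o'
  have hi : Function.Injective (tenApp C.iCycles g) :=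
    Module.Flat.lTensor_preserves_injective_linearMap (appS C.iCycles o) hinj
  refine ⟨(injective_iff_map_eq_zero _).2 fun x hx => hi ?_, fun y => ?_⟩
  · refine ((h₂ o' g ha).1 ?_).trans (map_zero _).symm
    rw [bcO_tenApp, hx, map_zero, map_zero]
  · obtain ⟨z, hz⟩ := (h₂ o' g ha).2 (appS C.iCycles o' y)
    have h0 : tenApp C.g g z = 0 := (h₃ o' g ha).1 (by
      rw [bcO_tenApp, hz, (hex' _).2 ⟨y, rfl⟩, map_zero])
    obtain ⟨w, hw⟩ := (Module.Flat.lTensor_exact (M := Γt o'.left) hex z).1 h0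
    refine ⟨w, hinj' ?_⟩
    rw [← bcO_tenApp, ← hz]
    exact congrArg (bcO C.X₂ g) hw

/-- Sections of a module are locally images along an epimorphism. -/
theorem exists_affCover_preimage {F G : ModOver E} (φ : F ⟶ G) [Epi φ] {o : Over E} [Aff o.left]
    (x : Sect G o) : ∃ (m : ℕ) (V : Fin m → Over E) (v : ∀ k, V k ⟶ o), IsAffCover v ∧
      ∀ k, ∃ y : Sect F (V k), appS φ (V k) y = res G (v k) x := by
  obtain ⟨R, hR, hy⟩ := exists_preimage_of_epi φ (W := o) x
  obtain ⟨m, V, v, hv, hvR⟩ := exists_cover_of_mem hR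
  exact ⟨m, V, v, hv, fun k => hy (v k) (hvR k)⟩

theorem exists_affCover_of_coker {A Z H : ModOver E} (τ : A ⟶ Z) (π : Z ⟶ H) (w : τ ≫ π = 0)
    (hcok : IsColimit (CokernelCofork.ofπ π w)) {o : Over E} [Aff o.left]
    (z : Sect Z o) (hz : appS π o z = 0) :
    ∃ (m : ℕ) (V : Fin m → Over E) (v : ∀ k, V k ⟶ o), IsAffCover v ∧
      ∀ k, ∃ y : Sect A (V k), appS τ (V k) y = res Z (v k) z := by
  have hex : (ShortComplex.mk τ π w).Exact :=
    ShortComplex.exact_of_g_is_cokernel _ hcok
  let K := kernel π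
  haveI : Epi (kernel.lift π τ w) :=
    (ShortComplex.exact_iff_epi_kernel_lift _).1 hex
  let Fv := SheafOfModules.evaluation.{u + 1} ((OEtRing X).over E) (op o)
  haveI : Fv.Additive := ⟨rfl⟩
  haveI : PreservesLimit (parallelPair π 0) Fv := inferInstance
  let C' := ShortComplex.mk (kernel.ι π) π (kernel.condition _)
  obtain ⟨k₀, hk₀⟩ := (ShortComplex.moduleCat_exact_iff _).1
    (ShortComplex.exact_of_f_is_kernel (C'.map Fv) (KernelFork.mapIsLimit _ (kernelIsKernel _) Fv)) z hz
  let k₁ : Sect K o := k₀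
  have hk₁ : appS (kernel.ι π) o k₁ = z := hk₀
  obtain ⟨m, V, v, hv, hy⟩ := exists_affCover_preimage
    (kernel.lift π τ w) k₁
  refine ⟨m, V, v, hv, fun k => ?_⟩
  obtain ⟨y, hy⟩ := hy k
  refine ⟨y, ?_⟩
  rw [← hk₁, appS_res, ← hy]
  exact congrArg (fun φ : A ⟶ Z => appS φ (V k) y) (kernel.lift_ι _ _ _).symm

/-- Cokernels keep the base change property. -/
theorem goodAtO_coker {A Z H : ModOver E} (τ : A ⟶ Z) (π : Z ⟶ H) (w : τ ≫ π = 0)
    (hcok : IsColimit (CokernelCofork.ofπ π w)) {o : Over E} [Aff o.left] (h₁ : GoodAtO A o)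
    (hc : GoodAtO Z o) : GoodAtO H o := by
  haveI : Epi π := Limits.epi_of_isColimit_cofork hcok
  let B := LinearMap.range (appS τ o)
  have hB : B ≤ LinearMap.ker (appS π o) := by
    rintro _ ⟨y, rfl⟩
    exact congrArg (fun φ : A ⟶ H => appS φ o y) w
  let hl := B.liftQ (appS π o) hB
  let h : (Sect Z o ⧸ B) →+ Sect H o := hl.toAddMonoidHom
  have hh : ∀ (a : Γt o.left) n, h (a • n) = a • h n := fun a n => hl.map_smul a n
  have hq : ∀ {o' : Over E} (g : o' ⟶ o), ∃ q : Ten (Sect Z o) g →+ Ten (Sect Z o ⧸ B) g,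
      Function.Surjective q ∧ (∀ a n, q (tmk g a n) = tmk g a (B.mkQ n)) ∧
      (∀ y, q (tenApp τ g y) = 0) := fun {o'} g => by
    letI := (cmap g.left).toAlgebra
    refine ⟨(B.mkQ.lTensor (Γt o'.left)).toAddMonoidHom,
      LinearMap.lTensor_surjective (Γt o'.left) B.mkQ_surjective, fun a n => rfl, fun y => ?_⟩
    induction y using ten_induction with
    | h0 => rw [map_zero, map_zero]
    | ht a n =>
      show a ⊗ₜ[Γt o.left] B.mkQ (appS τ o n) = 0
      rw [show B.mkQ (appS τ o n) = 0 from (Submodule.Quotient.mk_eq_zero _).2 ⟨n, rfl⟩,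
        TensorProduct.tmul_zero]
    | ha p q hp hq => rw [map_add, map_add, hp, hq, add_zero]
  choose q hqs hqt hq0 using @hq
  have hbq : ∀ {o' : Over E} (g : o' ⟶ o) (y : Ten (Sect Z o) g),
      bc H h hh g (q g y) = appS π o' (bcO Z g y) := fun {o'} g y => by
    induction y using ten_induction with
    | h0 => rw [map_zero, map_zero, map_zero, map_zero]
    | ht a n =>
      rw [hqt, bc_tmk, bc_tmk, LinearMap.map_smul]
      exact congrArg (a • ·) (appS_res π g n)
    | ha p r hp hr => rw [map_add, map_add, map_add, map_add, hp, hr]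
  have hS : LocS H h := fun o' g ha s => by
    haveI := ha
    obtain ⟨m, V, v, hv, hy⟩ := exists_affCover_preimage π s
    refine ⟨m, V, v, hv, fun k => ?_⟩
    obtain ⟨y, hy⟩ := hy k
    obtain ⟨z, rfl⟩ := (hc (V k) (v k ≫ g) (hv.1 k)).2 y
    rw [← hy, ← hbq]
    clear hy
    induction z using ten_induction with
    | h0 => rw [map_zero, map_zero]; exact Submodule.zero_mem _
    | ht a n => rw [hqt, bc_tmk]; exact Submodule.smul_mem _ a (Submodule.subset_span ⟨_, rfl⟩)
    | ha p r hp hr => rw [map_add, map_add]; exact Submodule.add_mem _ hp hr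
  have hI : LocI H h hh := fun o' g ha x hx => by
    haveI := ha
    obtain ⟨y, rfl⟩ := hqs g x
    rw [hbq] at hx
    obtain ⟨m, V, v, hv, hw⟩ := exists_affCover_of_coker τ π w hcok _ hx
    refine ⟨m, V, v, hv, fun k => ?_⟩
    obtain ⟨w₁, hw⟩ := hw k
    obtain ⟨t, rfl⟩ := (h₁ (V k) (v k ≫ g) (hv.1 k)).2 w₁
    have e : tenMap (v k) (rfl : v k ≫ g = v k ≫ g) y = tenApp τ (v k ≫ g) t :=
      (hc (V k) (v k ≫ g) (hv.1 k)).1 (by rw [bcO, bc_tenMap, ← bcO, bcO_tenApp, hw])
    have hnat : ∀ y, tenMap (v k) (rfl : v k ≫ g = v k ≫ g) (q g y) =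
        q (v k ≫ g) (tenMap (v k) (rfl : v k ≫ g = v k ≫ g) y) := fun y => by
      induction y using ten_induction with
      | h0 => rw [map_zero, map_zero, map_zero, map_zero]
      | ht a n => rw [hqt, tenMap_tmk, tenMap_tmk, hqt]
      | ha p r hp hr => rw [map_add, map_add, map_add, map_add, hp, hr]
    rw [hnat, e, hq0]
  have hb := fun (o' : Over E) (g : o' ⟶ o) (ha : Aff o'.left) => bc_bijective H h hh hS hI g ha
  have hh0 : Function.Surjective h := fun s => by
    obtain ⟨x, hx⟩ := (hb o (𝟙 o) ‹_›).2 s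
    rw [← hx]
    clear hx
    induction x using ten_induction with
    | h0 => exact ⟨0, by rw [map_zero, map_zero]⟩
    | ht a n => exact ⟨a • n, by rw [hh, bc_tmk, res_id]⟩
    | ha p r hp hr =>
      obtain ⟨p', hp'⟩ := hp
      obtain ⟨r', hr'⟩ := hr
      exact ⟨p' + r', by rw [map_add, map_add, hp', hr']⟩
  intro o' g ha
  let t : Ten (Sect Z o ⧸ B) g →+ Ten (Sect H o) g :=
    letI := (cmap g.left).toAlgebra
    (hl.lTensor (Γt o'.left)).toAddMonoidHom
  have ht : Function.Surjective t := by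
    letI := (cmap g.left).toAlgebra
    exact LinearMap.lTensor_surjective (Γt o'.left) hh0
  have e : ∀ x, bcO H g (t x) = bc H h hh g x := fun x => by
    induction x using ten_induction with
    | h0 => rw [map_zero, map_zero, map_zero]
    | ht a n => rfl
    | ha p r hp hr => rw [map_add, map_add, map_add, hp, hr]
  refine ⟨(injective_iff_map_eq_zero _).2 fun x hx => ?_, fun s => ?_⟩
  · obtain ⟨x', rfl⟩ := ht x
    rw [e] at hx
    rw [(hb o' g ha).1 (hx.trans (map_zero _).symm), map_zero]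
  · obtain ⟨x', hx'⟩ := (hb o' g ha).2 s
    exact ⟨t x', (e x').trans hx'⟩

/-- The cohomology of a complex with the base change property has it. -/
theorem goodAtO_homology (C : ShortComplex (ModOver E)) {o : Over E} [Aff o.left] (h₁ : GoodAtO C.X₁ o)
    (h₂ : GoodAtO C.X₂ o) (h₃ : GoodAtO C.X₃ o) : GoodAtO C.homology o :=
  goodAtO_coker C.toCycles C.homologyπ C.toCycles_comp_homologyπ C.homologyIsCokernel h₁
    (goodAtO_cycles C h₂ h₃)

theorem goodM_of_goodAtO (M : ModEt X) {o : Over E} (h : GoodAtO (M.over E) o) : GoodM M o.left :=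
  fun E' g ha => h (Over.mk (g ≫ o.hom)) (Over.homMk g rfl : Over.mk (g ≫ o.hom) ⟶ o) ha

end Groth.Agent.SpQC61
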