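import Groth.Agent.SpQC61.ModAB
import Groth.Agent.SpQC61.ModCechInj
import Groth.Agent.SpQC61.PushAcyclic
import Groth.Agent.SpQC61.SliceQC
import Groth.Agent.SpQC61.Coherent
import Groth.Agent.SpQC86.Ses
import Groth.Agent.Mod48.LocGen
import Groth.Agent.Mod48.TruncTower
import Groth.Prelude.Def_AlgSpD

/-! Free modules on objects of the small etale site and vanishing of Ext groups over affine objects. -/

set_option autoImplicit false
set_option linter.style.haveILetI false
set_option backward.isDefEq.respectTransparency false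

universe u w

open CategoryTheory CategoryTheory.Limits AlgebraicGeometry Opposite CategoryTheory.Abelian
open AlgSp Groth.Agent.Mod48

namespace Groth.Agent.SpQC61

variable {S : Scheme.{u}} {X : Sp S}

/-- The free module on an object. -/
noncomputable def freeModOn (U : EtOver X) : ModEt X :=
  (PresheafOfModules.sheafification (𝟙 (OEtRing X).obj)).obj
    ((PresheafOfModules.free (OEtRing X).obj).obj (uliftYoneda.{u + 1}.obj U))

/-- Morphisms out of the free module are sections. -/
noncomputable def freeModEquiv (U : EtOver X) (M : ModEt X) : (freeModOn U ⟶ M) ≃ SectM M U :=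
  (((PresheafOfModules.sheafificationAdjunction (𝟙 (OEtRing X).obj)).homEquiv _ M).trans
    (PresheafOfModules.freeHomEquiv (R := (OEtRing X).obj))).trans uliftYonedaEquiv

theorem freeModEquiv_comp {U : EtOver X} {M N : ModEt X} (a : freeModOn U ⟶ M) (φ : M ⟶ N) :
    freeModEquiv U N (a ≫ φ) = appM φ U (freeModEquiv U M a) := by
  exact congrArg (fun z => uliftYonedaEquiv ((PresheafOfModules.freeHomEquiv (R := (OEtRing X).obj)) z))
    ((PresheafOfModules.sheafificationAdjunction (𝟙 (OEtRing X).obj)).homEquiv_naturality_right a φ)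

theorem freeModEquiv_zero (U : EtOver X) (M : ModEt X) : freeModEquiv U M 0 = 0 := by
  rw [← comp_zero (f := 𝟙 (freeModOn U)), freeModEquiv_comp]
  rfl

/-- Functoriality of the free module. -/
noncomputable def freeModMap {V U : EtOver X} (g : V ⟶ U) : freeModOn V ⟶ freeModOn U :=
  (freeModEquiv V _).symm (resM (freeModOn U) g (freeModEquiv U _ (𝟙 _)))

theorem freeModEquiv_freeModMap {V U : EtOver X} (g : V ⟶ U) :
    freeModEquiv V _ (freeModMap g) = resM (freeModOn U) g (freeModEquiv U _ (𝟙 _)) :=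
  Equiv.apply_symm_apply _ _

theorem freeModEquiv_map {V U : EtOver X} (g : V ⟶ U) {M : ModEt X} (a : freeModOn U ⟶ M) :
    freeModEquiv V M (freeModMap g ≫ a) = resM M g (freeModEquiv U M a) := by
  rw [freeModEquiv_comp, freeModEquiv_freeModMap, ← resM_appM, ← freeModEquiv_comp, Category.id_comp]

variable (X) in
/-- The free modules on objects behave like free sheaves. -/
noncomputable def modGenEt : LocGen (etTop X) (ModEt X) where
  P := freeModOn
  r := freeModMap
  r_comp {W V U} g h := by
    apply (freeModEquiv W _).injective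
    rw [freeModEquiv_map]
    rw [freeModEquiv_freeModMap, freeModEquiv_freeModMap]
    exact resM_comp _ g h _
  sep {U M} a R hR h := by
    apply (freeModEquiv U M).injective
    rw [freeModEquiv_zero]
    refine resM_eq_of_forall_pt M fun v => ?_
    obtain ⟨W, g, hg, hv⟩ := SpPts86.exists_mem_range_of_mem_etTop hR v
    refine ⟨W, g, hv, ?_⟩
    rw [map_zero, ← freeModEquiv_map, h g hg, freeModEquiv_zero]
  lift {U M N} p _ a := by
    obtain ⟨R, hR, hy⟩ := exists_preimage_of_epi p (W := U) (freeModEquiv U N a)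
    refine ⟨R, hR, fun V g hg => ?_⟩
    obtain ⟨y, hy⟩ := hy g hg
    refine ⟨(freeModEquiv V M).symm y, (freeModEquiv V N).injective ?_⟩
    rw [freeModEquiv_comp, Equiv.apply_symm_apply, freeModEquiv_map]
    exact hy
  detect {M} h := isZero_of_forall_affine M fun E _ x => by
    obtain ⟨a, rfl⟩ := (freeModEquiv E M).surjective x
    rw [h E a, freeModEquiv_zero]

theorem affAcyclic_injective (I : ModEt X) [Injective I] : AffAcyclic ((toAbEt X).obj I) := by
  intro U hU Y hY q
  haveI := injective_val_of_injective.{u + 1, u + 1, u} (OEtRing X) I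
  exact isZero_cechH_modInj.{u + 1, u + 1, u} (Unr55.CechCartan.fam.{u + 1, u, u + 1} Y) I.val q

theorem shortExact_toAbEt {C : ShortComplex (ModEt X)} (hC : C.ShortExact) : (C.map (toAbEt X)).ShortExact := by
  haveI : PreservesFiniteLimits (toAbEt X) := inferInstance
  haveI : ∀ {A B : ModEt X} (g : A ⟶ B), PreservesLimit (parallelPair g 0) (toAbEt X) := fun g => inferInstance
  haveI : (toAbEt X).PreservesEpimorphisms := ⟨fun {M N} f _ => inferInstanceAs (Epi ((SheafOfModules.toSheaf (OEtRing X)).map f))⟩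
  haveI : (toAbEt X).PreservesHomology := Functor.preservesHomology_of_preservesEpis_and_kernels _
  haveI : PreservesFiniteColimits (toAbEt X) := Functor.preservesFiniteColimits_of_preservesHomology _
  exact hC.map_of_exact _

theorem affAcyclic_quot {C : ShortComplex (ModEt X)} (hC : C.ShortExact) (h₁ : AffAcyclic ((toAbEt X).obj C.X₁))
    (h₂ : AffAcyclic ((toAbEt X).obj C.X₂)) : AffAcyclic ((toAbEt X).obj C.X₃) := by
  intro U hU Y hY q
  let D := C.map (toAbEt X)
  have hD := shortExact_toAbEt hC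
  exact Unr55.CechFl.isZero_homology_of_exact' (Unr55.CechCartan.fam.{u + 1, u, u + 1} Y)
    (Functor.whiskerLeft (Over.forget U).op D.f.hom) (Functor.whiskerLeft (Over.forget U).op D.g.hom)
    (fun W => (Unr55.CechFl.exists_sections_preimage D hD W.unop.left 0 (map_zero _)).1)
    (fun W y hy => (Unr55.CechFl.exists_sections_preimage D hD W.unop.left y hy).2)
    (fun W z => ConcreteCategory.congr_hom
      (NatTrans.congr_app (congrArg InducedCategory.Hom.hom D.zero) _) z)
    q (fun a => Unr55.CechCartan.surjective_sections.{u + 1, u, u + 1} _ _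
      (fun U hU _ _ g _ s => affCov_refines U hU g s) hD h₁ _ (affCov_powers U hU Y hY (q + 1) a))
    (h₂ U hU Y hY q) (h₁ U hU Y hY (q + 1))

theorem freeModEquiv_surjective {C : ShortComplex (ModEt X)} (hC : C.ShortExact)
    (h₁ : AffAcyclic ((toAbEt X).obj C.X₁)) (U : EtOver X) [Aff U] (a : freeModOn U ⟶ C.X₃) :
    ∃ b, b ≫ C.g = a := by
  obtain ⟨y, hy⟩ := Unr55.CechCartan.surjective_sections.{u + 1, u, u + 1} _ _
    (fun U hU _ _ g _ s => affCov_refines U hU g s) (shortExact_toAbEt hC) h₁ U ‹Aff U›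
    (freeModEquiv U C.X₃ a)
  refine ⟨(freeModEquiv U C.X₂).symm y, (freeModEquiv U C.X₃).injective ?_⟩
  rw [freeModEquiv_comp, Equiv.apply_symm_apply]
  exact hy

/-- **Vanishing** of Ext groups out of free modules on affine objects. -/
theorem ext_freeMod_eq_zero (U : EtOver X) [Aff U] : ∀ (k : ℕ) (F : ModEt X),
    AffAcyclic ((toAbEt X).obj F) → ∀ x : Ext.{u + 1} (freeModOn U) F (k + 1), x = 0
  | k, F, hF, x => by
    let C : ShortComplex (ModEt X) :=
      ShortComplex.mk (Injective.ι F) (cokernel.π (Injective.ι F)) (cokernel.condition _)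
    have hC : C.ShortExact :=
      { exact := ShortComplex.exact_of_g_is_cokernel _ (cokernelIsCokernel _) }
    haveI : Injective C.X₂ := inferInstanceAs (Injective (Injective.under F))
    obtain ⟨y, hy⟩ := Ext.covariant_sequence_exact₁ _ hC x
      ((Ext.subsingleton_of_injective _ C.X₂ k).elim _ _) rfl
    cases k with
    | zero =>
      obtain ⟨c, rfl⟩ := (Ext.mk₀_bijective _ _).2 y
      obtain ⟨b, rfl⟩ := freeModEquiv_surjective hC hF U c
      rw [← hy, ← Ext.mk₀_comp_mk₀, Ext.comp_assoc_of_second_deg_zero, hC.comp_extClass, Ext.comp_zero]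
    | succ k =>
      rw [← hy, ext_freeMod_eq_zero U k C.X₃ (affAcyclic_quot hC hF (affAcyclic_injective _)) y, Ext.zero_comp]

open DerivedCategory in
theorem vanishAt_freeMod [HasDerivedCategory.{w} (ModEt X)] (U : EtOver X) [Aff U] (F : ModEt X)
    (hF : AffAcyclic ((toAbEt X).obj F)) (k : ℤ) (hk : 0 < k) : LocGen.VanishAt (freeModOn U) F k := by
  obtain ⟨n, rfl⟩ : ∃ n : ℕ, k = ((n + 1 : ℕ) : ℤ) := ⟨k.toNat - 1, by omega⟩
  intro m q hmq f
  let A := freeModOn U
  change ((singleFunctor _ m).obj A ⟶ (singleFunctor _ q).obj F) at f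
  haveI : Subsingleton (Ext.{u + 1} A F (n + 1)) := subsingleton_of_forall_eq 0 (ext_freeMod_eq_zero U n F hF)
  haveI : Subsingleton ((singleFunctor _ 0).obj A ⟶ ((singleFunctor _ 0).obj F)⟦((n + 1 : ℕ) : ℤ)⟧) :=
    (Ext.homEquiv (X := A) (Y := F) (n := n + 1)).symm.subsingleton
  let s := singleFunctors (ModEt X)
  have eX : ((singleFunctor _ m).obj A)⟦m⟧ ≅ (singleFunctor _ 0).obj A := (s.shiftIso m 0 m (add_zero m)).app A
  have eF : ((singleFunctor _ q).obj F)⟦m⟧ ≅ ((singleFunctor _ 0).obj F)⟦((n + 1 : ℕ) : ℤ)⟧ :=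
    (s.shiftIso m (-((n + 1 : ℕ) : ℤ)) q (by omega)).app F ≪≫
      ((s.shiftIso ((n + 1 : ℕ) : ℤ) (-((n + 1 : ℕ) : ℤ)) 0 (by omega)).app F).symm
  apply (shiftFunctor _ m).map_injective
  rw [← cancel_mono eF.hom, ← cancel_epi eX.inv]
  exact Subsingleton.elim _ _

attribute [local instance] HasDerivedCategory.standard

theorem isRlimVia_truncTower_qcoh (E : DModEt X) (hE : DCoh.IsQCohDMod (OEtRing X) E)
    [HasProduct (CohCx.truncTower E)] :
    CohCx.IsRlimVia (CohCx.truncTower E) (CohCx.truncTowerMap E) E (CohCx.toTruncTower E) := by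
  refine LocGen.isRlimVia_truncTower (modGenEt X) E {U : EtOver X | Aff U} (fun U => ?_) fun V hV m => ?_
  · choose W hW hvW hsub using fun v : ↥U.obj.left.left =>
      exists_isAffineOpen_mem_and_subset (U := (⊤ : U.obj.left.left.Opens)) (x := v) trivial
    exact ⟨_, fun v => openObj U (W v), fun v => openObjι U (W v),
      SpPts86.mem_etTop_of_forall _ fun v => ⟨_, _, Sieve.ofArrows_mk _ _ v, ⟨v, hvW v⟩, rfl⟩, hW⟩
  · haveI : Aff V := hV
    refine ⟨(-m).toNat + 1, fun T hT => ?_⟩
    obtain ⟨n, W, g, hW, hg, hs⟩ := exists_finite_affine_cover hT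
    refine ⟨ULift.{u} (Fin n), fun i => W i.down, fun i => g i.down, fun i => hg _,
      SpPts86.mem_etTop_of_forall _ fun v => ?_, fun i l hl q k _ hk₁ _ => ?_⟩
    · obtain ⟨j, hj⟩ := hs v
      exact ⟨_, _, Sieve.ofArrows_mk _ _ (ULift.up j), hj⟩
    · haveI := hW i.down
      haveI : (DCoh.HDMod (OEtRing X) E q).IsQuasicoherent := hE q
      exact vanishAt_freeMod (W i.down) _ (affAcyclic_toAbEt _) k (by omega)

end Groth.Agent.SpQC61
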