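import Groth.Agent.SpQC61.SliceQC
import Groth.Agent.SpQC86.Criterion
import Groth.Prelude.Def_AlgSpPerf

/-! Cohomology of pseudo-coherent objects is quasi-coherent. -/

set_option autoImplicit false
set_option linter.style.haveILetI false
set_option backward.isDefEq.respectTransparency false

universe u

open CategoryTheory CategoryTheory.Limits AlgebraicGeometry Opposite
open AlgSp

attribute [local instance] HasDerivedCategory.standard

namespace Groth.Agent.SpQC61

variable {S : Scheme.{u}} {X : Sp S}

theorem goodAtO_of_finFreeSummand {V : EtOver X} (M : ModEtOn V) (h : DCoh.IsFinFreeSummandMod (OEtOn V) M)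
    (o : Over V) [Aff o.left] : GoodAtO (E := V) M o := by
  obtain ⟨n, i, p, hip⟩ := h
  exact (goodAtO_free _ o).retract i p hip

theorem nonempty_homology_resDEt (V : EtOver X) (K : DModEt X) (i : ℤ) :
    Nonempty ((DerivedCategory.homologyFunctor (ModEtOn V) i).obj ((resDEt V).obj K) ≅
      (DCoh.HDMod (OEtRing X) K i).over V) := by
  let P := DerivedCategory.Q.objPreimage K
  let e := DerivedCategory.Q.objObjPreimageIso K
  exact ⟨(DerivedCategory.homologyFunctor (ModEtOn V) i).mapIso ((resDEt V).mapIso e.symm ≪≫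
      (resModEt V).mapDerivedCategoryFactors.app P) ≪≫
    (DerivedCategory.homologyFunctorFactors (ModEtOn V) i).app _ ≪≫
    (P.sc i).mapHomologyIso (resModEt V) ≪≫
    (resModEt V).mapIso (((DerivedCategory.homologyFunctorFactors (ModEt X) i).app P).symm ≪≫
      (DerivedCategory.homologyFunctor (ModEt X) i).mapIso e)⟩

theorem isQuasicoherent_HDMod_of_locally (m : ℤ) (K : DModEt X) (hK : IsPseudoCoherentEtD m K) (i : ℤ)
    (hi : m < i) : (DCoh.HDMod (OEtRing X) K i).IsQuasicoherent := by
  refine SpQC86.isQuasicoherent_of_good _ fun E hE => ?_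
  haveI := hE
  obtain ⟨ι, V, g, hg, hV⟩ := hK E
  obtain ⟨n, W, w, hW, hwR, hs⟩ := exists_finite_affine_cover
    (E := E) (Precoverage.generate_mem_toGrothendieck hg)
  refine goodM_of_cover _ w hW hs fun k => ?_
  obtain ⟨T, a, b, hb, -⟩ := hwR k
  cases hb with
  | mk l =>
    obtain ⟨Ec, α, hEc, hiso, -⟩ := hV l
    haveI : Aff (Over.mk a : Over (V l)).left := hW k
    haveI := hiso i hi
    obtain ⟨e⟩ := nonempty_homology_resDEt (V l) K i
    have hH : GoodAtO (E := V l) (Ec.homology i) (Over.mk a) :=
      goodAtO_homology (Ec.sc i) (goodAtO_of_finFreeSummand _ (hEc.2 _) _)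
        (goodAtO_of_finFreeSummand _ (hEc.2 _) _) (goodAtO_of_finFreeSummand _ (hEc.2 _) _)
    exact goodM_of_goodAtO _ (hH.of_iso
      (e.symm ≪≫ (asIso ((DerivedCategory.homologyFunctor (ModEtOn (V l)) i).map α)).symm ≪≫
        (DerivedCategory.homologyFunctorFactors (ModEtOn (V l)) i).app Ec))

end Groth.Agent.SpQC61
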