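import Groth.Agent.SpQC61.FiniteSect
import Groth.Agent.SpFP87.NoethDesc
import Mathlib.RingTheory.Ideal.AssociatedPrime.Finiteness
import Mathlib.RingTheory.Ideal.AssociatedPrime.Localization

/-!
Basic properties of weakly associated points of quasi-coherent modules on spaces.
-/

set_option autoImplicit false
set_option linter.style.haveILetI false
set_option backward.isDefEq.respectTransparency false

universe u v

open CategoryTheory CategoryTheory.Limits AlgebraicGeometry Opposite
open AlgSp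

namespace Groth.Agent.SpQC61

variable {S : Scheme.{u}} {X : Sp S}

theorem primeAtPt_injective {U : Scheme.{u}} [IsAffine U] : Function.Injective (primeAtPt U) := fun x y e => by
  have h : ∀ z : U, primeAtPt U z = ((isAffineOpen_top U).primeIdealOf ⟨z, trivial⟩).asIdeal := fun z => by
    rw [IsAffineOpen.primeIdealOf_eq_map_closedPoint]
    rfl
  have h' : (isAffineOpen_top U).primeIdealOf ⟨x, trivial⟩ = (isAffineOpen_top U).primeIdealOf ⟨y, trivial⟩ :=
    PrimeSpectrum.ext ((h x).symm.trans (e.trans (h y)))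
  have hx := (isAffineOpen_top U).fromSpec_primeIdealOf ⟨x, trivial⟩
  have hy := (isAffineOpen_top U).fromSpec_primeIdealOf ⟨y, trivial⟩
  rw [h'] at hx
  exact hx.symm.trans hy

theorem weakAssEt_eq_empty_of_isZero {M : ModEt X} (h : IsZero M) : WeakAssEt M = ∅ := by
  refine Set.eq_empty_iff_forall_notMem.2 ?_
  rintro x ⟨E, hE, u, -, hu⟩
  haveI := hE
  obtain ⟨m, hm⟩ := (isWeakAssOn_iff M u).1 hu
  have h0 : m = 0 := congrArg (fun φ : M ⟶ M => appM φ E m) ((IsZero.iff_id_eq_zero M).1 h)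
  exact hm.1.1.ne_top ((Ideal.eq_top_iff_one _).2 (hm.1.2 (CAlg5.mem_ann.2 (by rw [h0, smul_zero]))))

theorem isZero_iff_weakAssEt_eq_empty (M : ModEt X) [M.IsQuasicoherent] : IsZero M ↔ WeakAssEt M = ∅ := by
  refine ⟨weakAssEt_eq_empty_of_isZero, fun h => isZero_of_forall_affine M fun E _ x => ?_⟩
  by_contra hx
  obtain ⟨u, hu, -⟩ := exists_weakAss_of_ne_zero M x hx
  exact Set.eq_empty_iff_forall_notMem.1 h _ ⟨E, ‹_›, u, rfl, hu⟩

theorem weakAssEt_shortExact (C : ShortComplex (ModEt X)) (hC : C.ShortExact) :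
    WeakAssEt C.X₂ ⊆ WeakAssEt C.X₁ ∪ WeakAssEt C.X₃ ∧ WeakAssEt C.X₁ ⊆ WeakAssEt C.X₂ := by
  haveI := hC.mono_f
  refine ⟨?_, ?_⟩
  · rintro x ⟨E, hE, u, rfl, hu⟩
    haveI := hE
    rw [isWeakAssOn_iff] at hu
    rcases CAlg5.weakAss_subset_union (appM C.f E) (appM C.g E) (appM_injective C.f E) (exact_appM C hC E) hu with
      h | h
    · exact Or.inl ⟨E, hE, u, rfl, (isWeakAssOn_iff _ u).2 h⟩
    · exact Or.inr ⟨E, hE, u, rfl, (isWeakAssOn_iff _ u).2 h⟩
  · rintro x ⟨E, hE, u, rfl, hu⟩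
    haveI := hE
    exact ⟨E, hE, u, rfl, (isWeakAssOn_iff _ u).2 (CAlg5.weakAss_subset_of_injective (appM C.f E)
      (appM_injective C.f E) ((isWeakAssOn_iff _ u).1 hu))⟩

theorem sections_eval_injective (M : ModEt X) [M.IsQuasicoherent] (E : EtOver X)
    (hE : WeakAssEt M ⊆ Set.range (Points.ofPt E.obj.hom)) :
    Function.Injective (fun s : M.sections => PresheafOfModules.sections.eval s (op E)) := by
  intro s t hst
  let ev : M.sections → ∀ E' : EtOver X, SectM M E' := fun s E' => s.eval (op E')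
  have hnat : ∀ (s : M.sections) {A B : EtOver X} (g : A ⟶ B), resM M g (ev s B) = ev s A :=
    fun s A B g => s.property g.op
  suffices h : ∀ (E' : EtOver X), Aff E' → ev s E' - ev t E' = 0 by
    refine PresheafOfModules.sections_ext s t fun E' => ?_
    refine resM_eq_of_forall_pt M (E := E'.unop) (x := ev s E'.unop) (y := ev t E'.unop) fun v => ?_
    obtain ⟨U, hU, hvU, -⟩ := exists_isAffineOpen_mem_and_subset
      (U := (⊤ : E'.unop.obj.left.left.Opens)) (x := v) trivial
    exact ⟨openObj E'.unop U, openObjι E'.unop U, ⟨⟨v, hvU⟩, rfl⟩, (hnat s _).trans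
      ((sub_eq_zero.1 (h (openObj E'.unop U) hU)).trans (hnat t _).symm)⟩
  intro E' hE'
  haveI := hE'
  by_contra hne
  obtain ⟨u, hu, hann⟩ := exists_weakAss_of_ne_zero M _ hne
  obtain ⟨v, hv⟩ := hE ⟨E', hE', u, rfl, hu⟩
  obtain ⟨U, hU, hvU, -⟩ := exists_isAffineOpen_mem_and_subset (U := (⊤ : E.obj.left.left.Opens)) (x := v) trivial
  let pt : ↥(openObj E U).obj.left.left := (⟨v, hvU⟩ : U)
  have hpt : Points.ofPt (openObj E U).obj.hom pt = Points.ofPt E.obj.hom v :=
    SpPts86.ofPt_comp _ E.obj.hom pt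
  obtain ⟨W, a, b, w, hW, ha, -⟩ := exists_affine_common (E₁ := E') (E₂ := openObj E U) u pt
    (hv.symm.trans hpt.symm)
  haveI := hW
  have h0 : resM M a (ev s E' - ev t E') = 0 := by
    have h1 : ∀ s : M.sections, resM M a (ev s E') = resM M (b ≫ openObjι E U) (ev s E) := fun s => by
      rw [hnat, hnat]
    rw [map_sub, h1, h1, show ev s E = ev t E from hst, sub_self]
  obtain ⟨r, hr, hrx⟩ := exists_notMem_of_resM_eq_zero a _ h0 w
  rw [ha] at hr
  exact hr (hann r hrx)

theorem finite_weakAssEt_inter (hX : IsAlgSpace X) (hN : IsLocNoethSp X) (M : ModEt X) [M.IsQuasicoherent]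
    [M.IsFiniteType] (W : Set (Points X)) (hWc : IsCompact W) : (WeakAssEt M ∩ W).Finite := by
  classical
  choose E u hE hu using exists_affine_chart_pt (X := X) hX
  have hopen : ∀ x : Points X, IsOpen (Set.range (Points.ofPt (E x).obj.hom)) := fun x =>
    (SpPts86.isOpenMap_ofPt (E x).property).isOpen_range
  obtain ⟨s, hs⟩ := hWc.elim_finite_subcover (fun x => Set.range (Points.ofPt (E x).obj.hom)) hopen
    fun x _ => Set.mem_iUnion.2 ⟨x, u x, hu x⟩
  have hfin : ∀ x, (Points.ofPt (E x).obj.hom '' {v | @IsWeakAssOn S X M (E x) (hE x) v}).Finite := fun x => by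
    haveI := hE x
    haveI : IsLocallyNoetherian (E x).obj.left.left := SpFP87.isLocallyNoetherian_chart hX hN (E x).property
    haveI : IsNoetherianRing (Γt (E x)) :=
      IsLocallyNoetherian.component_noetherian ⟨⊤, isAffineOpen_top _⟩
    haveI := finite_sectM M (E x)
    refine Set.Finite.image _ (Set.Finite.subset ((associatedPrimes.finite (Γt (E x)) (SectM M (E x))).preimage
      (f := primeAtPt (E x).obj.left.left) ?_) fun v hv => ?_)
    · intro a _ b _ e
      exact primeAtPt_injective e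
    · obtain ⟨m, hm⟩ := (isWeakAssOn_iff M v).1 hv
      exact IsAssociatedPrime.map_of_injective (Submodule.span (Γt (E x)) {m}).subtype
        (Module.associatedPrimes.minimalPrimes_annihilator_subset_associatedPrimes _ _ hm) (Submodule.injective_subtype _)
  refine Set.Finite.subset (Set.Finite.biUnion s.finite_toSet fun x _ => hfin x) ?_
  rintro p ⟨hp, hpW⟩
  obtain ⟨x, hx, v, rfl⟩ := Set.mem_iUnion₂.1 (hs hpW)
  haveI := hE x
  exact Set.mem_iUnion₂.2 ⟨x, hx, v, (mem_weakAssEt_iff_forall M hX _).1 hp (E x) v rfl, rfl⟩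

end Groth.Agent.SpQC61
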