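import Groth.Agent.SpQC61.Main
import Groth.Agent.Unr55.Et.GaCech
import Groth.Agent.SpPts86.EtStalk
import Mathlib.CategoryTheory.Limits.Constructions.Over.Basic
import Mathlib.CategoryTheory.Limits.Constructions.FiniteProductsOfBinaryProducts

/-! Affine coverings of affine objects by one morphism: powers, functions, flatness, refinement. -/

universe u

set_option autoImplicit false
set_option backward.isDefEq.respectTransparency false

open CategoryTheory CategoryTheory.Limits AlgebraicGeometry Opposite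
open AlgSp Groth.Agent.SpPts86

namespace Groth.Agent.SpQC61

variable {S : Scheme.{u}} {X : Sp S} {U : EtOver X}

noncomputable instance hasFiniteProducts_overEt (U : EtOver X) : HasFiniteProducts (Over U) := by
  haveI := (Over.mkIdTerminal (X := U)).hasTerminal
  haveI : HasBinaryProducts (Over U) := Over.ConstructProducts.over_binaryProduct_of_pullback
  exact hasFiniteProducts_of_has_binary_and_terminal

/-- Passing to schemes over the base object. -/
noncomputable abbrev toSchOver (U : EtOver X) : Over U ⥤ Over U.obj.left.left :=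
  Over.post (X := U) (EtOver.toScheme X)

/-- The one-member family. -/
abbrev oneFam (Y : Over U) : PUnit.{u + 2} → Over U := fun _ => Y

/-- The `(n+1)`-fold power. -/
noncomputable abbrev powObj (Y : Over U) (n : ℕ) : Over U :=
  ∏ᶜ (oneFam Y ∘ fun _ : Fin (n + 1) => PUnit.unit.{u + 2})

/-- Affine surjective coverings. -/
def AffCov (U : EtOver X) (Y : Over U) : Prop := Aff Y.left ∧ Surjective Y.hom.hom.left.left

/-- A post-composed functor preserves the terminal object of an over category. -/
theorem preservesFiniteProducts_toSchOver (U : EtOver X) : PreservesFiniteProducts (toSchOver U) := by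
  haveI : PreservesLimitsOfShape (WidePullbackShape WalkingPair) (EtOver.toScheme X) :=
    EtOver.preservesPullbacks_toScheme
  haveI : PreservesLimitsOfShape (WithTerminal (Discrete WalkingPair)) (EtOver.toScheme X) :=
    PreservesLimitsOfShape.ofWidePullbacks
  haveI : PreservesLimitsOfShape (Discrete WalkingPair) (toSchOver U) := PreservesLimitsOfShape.overPost
  haveI : PreservesLimit (Functor.empty.{0} (Over U)) (toSchOver U) :=
    preservesTerminal_of_iso _ ((toSchOver U).mapIso (terminalIsoIsTerminal Over.mkIdTerminal) ≪≫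
      Over.isoMk (Iso.refl _) (by simp) ≪≫ (terminalIsoIsTerminal Over.mkIdTerminal).symm)
  haveI : PreservesLimitsOfShape (Discrete PEmpty.{1}) (toSchOver U) :=
    preservesLimitsOfShape_pempty_of_preservesTerminal _
  exact PreservesFiniteProducts.of_preserves_binary_and_terminal _

/-- The power is a power of schemes. -/
noncomputable def powLimit (Y : Over U) (n : ℕ) :
    IsLimit (Fan.mk ((toSchOver U).obj (powObj Y n)) fun k : Fin (n + 1) =>
      (toSchOver U).map (Pi.π (oneFam Y ∘ fun _ : Fin (n + 1) => PUnit.unit.{u + 2}) k)) :=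
  haveI := preservesFiniteProducts_toSchOver U
  isLimitFanMkObjOfIsLimit (toSchOver U) _ _ (productIsProduct _)

theorem aff_powObj (Y : Over U) [Aff U] (hY : Aff Y.left) (n : ℕ) : Aff (powObj Y n).left :=
  Unr55.EtaleAff.isAffine_fan (n + 1) (fun _ : Fin (n + 1) => (toSchOver U).obj Y) (fun _ => hY) _ (powLimit Y n)

/-- Functions on the powers. -/
abbrev GPow (Y : Over U) (n : ℕ) : Type u := Γt (powObj Y n).left

noncomputable instance (Y : Over U) (n : ℕ) : Algebra (Γt U) (GPow Y n) := (cmap (powObj Y n).hom).toAlgebra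

noncomputable instance (Y : Over U) : Algebra (Γt U) (Γt Y.left) := (cmap Y.hom).toAlgebra

theorem cmap_over_w {A B : Over U} (g : A ⟶ B) (r : Γt U) : cmap g.left (cmap B.hom r) = cmap A.hom r := by
  rw [← RingHom.comp_apply, ← cmap_comp, Over.w g]

/-- The projections. -/
noncomputable def slotP (Y : Over U) (n : ℕ) (k : Fin (n + 1)) : Γt Y.left →ₐ[Γt U] GPow Y n where
  toRingHom := cmap (Pi.π (oneFam Y ∘ fun _ : Fin (n + 1) => PUnit.unit.{u + 2}) k).left
  commutes' r := cmap_over_w (Pi.π (oneFam Y ∘ fun _ : Fin (n + 1) => PUnit.unit.{u + 2}) k) r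

/-- The cofaces. -/
noncomputable def cfP (Y : Over U) (n : ℕ) (i : Fin (n + 2)) : GPow Y n →ₐ[Γt U] GPow Y (n + 1) where
  toRingHom := cmap (Fib44.Cech.face (oneFam Y) (fun _ : Fin (n + 2) => PUnit.unit.{u + 2}) i.succAbove).left
  commutes' r := cmap_over_w (Fib44.Cech.face (oneFam Y) (fun _ : Fin (n + 2) => PUnit.unit.{u + 2}) i.succAbove) r

theorem cfP_slotP (Y : Over U) (n : ℕ) (i : Fin (n + 2)) (j : Fin (n + 1)) :
    (cfP Y n i).comp (slotP Y n j) = slotP Y (n + 1) (i.succAbove j) := by
  refine AlgHom.coe_ringHom_injective ?_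
  show (cmap _).comp (cmap _) = cmap _
  rw [← cmap_comp, ← Over.comp_left, Fib44.Cech.face, Pi.lift_π]

open Unr55.EtaleAff in
theorem exists_liftP (Y : Over U) [Aff U] (hY : Aff Y.left) (n : ℕ) (B : Type u) [CommRing B] [Algebra (Γt U) B]
    (f : Fin (n + 1) → Γt Y.left →ₐ[Γt U] B) :
    ∃ φ : GPow Y n →ₐ[Γt U] B, ∀ j, φ.comp (slotP Y n j) = f j := by
  haveI : IsAffine ((toSchOver U).obj Y).left := hY
  let T : Over U.obj.left.left :=
    Over.mk (toAff (W := U.obj.left.left) (CommRingCat.ofHom (algebraMap (Γt U) B)))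
  let m : ∀ k : Fin (n + 1), T ⟶ (toSchOver U).obj Y := fun k =>
    Over.homMk (toAff (W := Y.left.obj.left.left) (CommRingCat.ofHom (f k).toRingHom)) (by
      refine (toAff_comp _ _).trans (congrArg toAff ?_)
      ext r
      exact (f k).commutes r)
  let g := (powLimit Y n).lift (Fan.mk T m)
  have hg : ∀ k, g ≫ (toSchOver U).map (Pi.π (oneFam Y ∘ fun _ : Fin (n + 1) => PUnit.unit.{u + 2}) k) = m k :=
    fun k => (powLimit Y n).fac (Fan.mk T m) ⟨k⟩
  refine ⟨⟨(g.left.appTop ≫ (Scheme.ΓSpecIso (CommRingCat.of B)).hom).hom, fun r => ?_⟩, fun j => ?_⟩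
  · have e := appTop_congr (Over.w g)
    have e2 : ((toSchOver U).obj (powObj Y n)).hom.appTop ≫ g.left.appTop ≫
        (Scheme.ΓSpecIso (CommRingCat.of B)).hom = CommRingCat.ofHom (algebraMap (Γt U) B) := by
      rw [← Category.assoc, ← Scheme.Hom.comp_appTop]
      exact (congrArg (· ≫ _) e).trans (toAff_appTop _)
    exact ConcreteCategory.congr_hom e2 r
  · refine AlgHom.coe_ringHom_injective ?_
    have e2 : ((toSchOver U).map (Pi.π (oneFam Y ∘ fun _ : Fin (n + 1) => PUnit.unit.{u + 2}) j)).left.appTop ≫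
        g.left.appTop ≫ (Scheme.ΓSpecIso (CommRingCat.of B)).hom = CommRingCat.ofHom (f j).toRingHom := by
      rw [← Category.assoc, ← Scheme.Hom.comp_appTop]
      exact (congrArg (fun z : T ⟶ (toSchOver U).obj Y => z.left.appTop ≫ (Scheme.ΓSpecIso (CommRingCat.of B)).hom)
        (hg j)).trans (@toAff_appTop _ hY _ _)
    exact congrArg CommRingCat.Hom.hom e2

open Unr55.EtaleAff in
theorem hom_extP (Y : Over U) [Aff U] (hY : Aff Y.left) (n : ℕ) (B : Type u) [CommRing B] [Algebra (Γt U) B]
    (φ ψ : GPow Y n →ₐ[Γt U] B) (h : ∀ j, φ.comp (slotP Y n j) = ψ.comp (slotP Y n j)) : φ = ψ := by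
  have : IsAffine (powObj Y n).left.obj.left.left := aff_powObj Y hY n
  have : IsAffine ((toSchOver U).obj Y).left := hY
  have : IsAffine ((toSchOver U).obj (powObj Y n)).left := aff_powObj Y hY n
  let T : Over U.obj.left.left :=
    Over.mk (toAff (W := U.obj.left.left) (CommRingCat.ofHom (algebraMap (Γt U) B)))
  let mk : (GPow Y n →ₐ[Γt U] B) → (T ⟶ (toSchOver U).obj (powObj Y n)) := fun χ =>
    Over.homMk (toAff (W := (powObj Y n).left.obj.left.left) (CommRingCat.ofHom χ.toRingHom)) (by
      refine (toAff_comp _ _).trans (congrArg toAff ?_)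
      ext r
      exact χ.commutes r)
  have e : mk φ = mk ψ := by
    refine Fan.IsLimit.hom_ext (powLimit Y n) _ _ fun j => Over.OverMorphism.ext ?_
    refine (@toAff_comp _ _ (aff_powObj Y hY n) hY _ _ _).trans
      (Eq.trans ?_ (@toAff_comp _ _ (aff_powObj Y hY n) hY _ _ _).symm)
    exact congrArg (@toAff _ hY _) (CommRingCat.hom_ext (congrArg AlgHom.toRingHom (h j)))
  refine AlgHom.coe_ringHom_injective ?_
  have e2 := congrArg (fun z : T ⟶ (toSchOver U).obj (powObj Y n) =>
    z.left.appTop ≫ (Scheme.ΓSpecIso (CommRingCat.of B)).hom) e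
  exact congrArg CommRingCat.Hom.hom (((toAff_appTop _).symm.trans e2).trans (toAff_appTop _))

theorem faithfullyFlatP (Y : Over U) [Aff U] (hY : AffCov U Y) : Module.FaithfullyFlat (Γt U) (Γt Y.left) := by
  haveI := hY.1
  haveI := EtOver.etale_left Y.hom
  let g := Y.hom.hom.left.left
  have h1 : Flat (Spec.map g.appTop) :=
    (MorphismProperty.arrow_mk_iso_iff @Flat (arrowIsoSpecΓOfIsAffine g)).1 inferInstance
  have h2 : Surjective (Spec.map g.appTop) :=
    (MorphismProperty.arrow_mk_iso_iff @Surjective (arrowIsoSpecΓOfIsAffine g)).1 hY.2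
  exact RingHom.faithfullyFlat_algebraMap_iff.1 ((flat_and_surjective_SpecMap_iff _).1 ⟨h1, h2⟩)

theorem exists_affCov {U : EtOver X} [Aff U] {F G : AbEt X} (g : F ⟶ G) [Epi g]
    (s : G.obj.obj (op U)) :
    ∃ Y : Over U, AffCov U Y ∧ (Presheaf.imageSieve g.hom s).arrows Y.hom := by
  haveI : Sheaf.IsLocallySurjective g :=
    (Sheaf.isLocallySurjective_iff_epi' AddCommGrpCat.{u + 1} g).2 ‹_›
  obtain ⟨n, V, v, hV, hR, hsurj⟩ := exists_finite_affine_cover (Presheaf.imageSieve_mem (etTop X) g.hom s)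
  let P : Fin n → Scheme.{u} := fun k => (V k).obj.left.left
  haveI hPa : ∀ k, IsAffine (P k) := hV
  let q : (∐ P) ⟶ U.obj.left.left := Sigma.desc fun k => (v k).hom.left.left
  have hq : Etale q := IsZariskiLocalAtSource.sigmaDesc fun k => EtOver.etale_left (v k)
  let Q : Over S := Over.mk (q ≫ U.obj.left.hom)
  let qS : Q ⟶ U.obj.left := Over.homMk q rfl
  let W : EtOver X := EtOver.mk ((yon S).map qS ≫ U.obj.hom) (by
    haveI : Etale qS.left := hq
    exact SpPts86.repWith_etale_comp _ U.property)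
  let π : W ⟶ U := EtOver.homMk qS rfl
  have hι : ∀ k, Sigma.ι P k ≫ q = (v k).hom.left.left := fun k => Sigma.ι_desc _ k
  let inc : ∀ k, V k ⟶ W := fun k => EtOver.homMk (Over.homMk (Sigma.ι P k) (by
      show Sigma.ι P k ≫ q ≫ U.obj.left.hom = (V k).obj.left.hom
      rw [← Category.assoc, hι, Over.w (v k).hom.left])) (by
    show (yon S).map _ ≫ (yon S).map qS ≫ U.obj.hom = (V k).obj.hom
    rw [← Category.assoc, ← Functor.map_comp, ← EtOver.w (v k)]
    congr 2
    exact Over.OverMorphism.ext (hι k))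
  have hincπ : ∀ k, inc k ≫ π = v k := fun k => EtOver.hom_ext _ _ (Over.OverMorphism.ext (hι k))
  refine ⟨Over.mk π, ⟨(inferInstanceAs (IsAffine (∐ P))), ⟨fun x => ?_⟩⟩, ?_⟩
  · obtain ⟨k, y, hy⟩ := hsurj x
    refine ⟨Sigma.ι P k y, ?_⟩
    rw [← hy, ← hι]
    rfl
  · choose t ht using fun k => hR k
    have hmem : Sieve.generate (Presieve.ofArrows V inc) ∈ etTop X W := by
      refine SpPts86.mem_etTop_of_forall _ fun p => ?_
      obtain ⟨y, hy⟩ := (sigmaOpenCover P).covers p
      generalize (sigmaOpenCover P).idx p = k at y hy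
      exact ⟨V k, inc k, Sieve.le_generate _ _ _ ⟨k⟩, y, hy⟩
    have hsh : ∀ H : AbEt X, Presieve.IsSheaf (etTop X) (H.obj ⋙ forget AddCommGrpCat.{u + 1}) := fun H =>
      (isSheaf_iff_isSheaf_of_type _ _).1 ((sheafCompose (etTop X) (forget AddCommGrpCat.{u + 1})).obj H).property
    have hcomp : Presieve.Arrows.Compatible (F.obj ⋙ forget AddCommGrpCat.{u + 1}) inc t := by
      intro i j Z gi gj hij
      by_cases hne : i = j
      · subst hne
        have hmono : gi = gj := EtOver.hom_ext _ _ (Over.OverMorphism.ext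
          ((cancel_mono (Sigma.ι P i)).1 (congrArg (fun m : Z ⟶ W => m.hom.left.left) hij)))
        rw [hmono]
      · have : IsEmpty Z.obj.left.left :=
          isEmpty_of_commSq_sigmaι_of_ne (g := P) (a := gi.hom.left.left) (b := gj.hom.left.left)
            ⟨congrArg (fun m : Z ⟶ W => m.hom.left.left) hij⟩ hne
        exact SpPts86.eq_of_locally_eq F _ _ fun z => this.elim z
    obtain ⟨tt, htt, -⟩ := (Presieve.isSheafFor_arrows_iff _ inc).1
      ((Presieve.isSheafFor_iff_generate _).2 (hsh F _ hmem)) t hcomp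
    refine ⟨tt, ((Presieve.isSheafFor_iff_generate _).2 (hsh G _ hmem)).isSeparatedFor.ext ?_⟩
    rintro _ _ ⟨k⟩
    refine ((NatTrans.naturality_apply g.hom (inc k).op tt).symm).trans ?_
    refine (congrArg (g.hom.app _) (htt k)).trans ((ht k).trans ?_)
    show G.obj.map (v k).op s = G.obj.map (inc k).op (G.obj.map π.op s)
    rw [← ConcreteCategory.comp_apply, ← Functor.map_comp, ← op_comp, hincπ]

end Groth.Agent.SpQC61
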