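import Mathlib.RingTheory.Flat.Basic
import Mathlib.RingTheory.IsTensorProduct
import Mathlib.RingTheory.Spectrum.Prime.Topology
import Mathlib.LinearAlgebra.TensorProduct.Pi
import Mathlib.LinearAlgebra.TensorProduct.Tower

/-!
Descent of elements of modules along a finite jointly faithfully flat family of algebras, and maps
out of base changed modules.
-/

set_option autoImplicit false
set_option linter.style.haveILetI false

universe u v w

open TensorProduct

namespace Groth.Agent.SpQC61

noncomputable section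

section BcMap

variable {A : Type u} [CommRing A] {B : Type u} [CommRing B] [Algebra A B]
  {N : Type v} [AddCommGroup N] [Module A N] {W : Type w} [AddCommGroup W] [Module B W]

/-- The map out of a base change given by a semilinear map. -/
def bcMap (f : N →+ W) (hf : ∀ (a : A) (n : N), f (a • n) = algebraMap A B a • f n) : B ⊗[A] N →+ W :=
  TensorProduct.liftAddHom
    (AddMonoidHom.mk' (fun b => AddMonoidHom.mk' (fun n => b • f n) fun x y => by rw [map_add, smul_add])
      fun b b' => AddMonoidHom.ext fun n => add_smul b b' (f n))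
    fun a b n => by
      show (a • b) • f n = b • f (a • n)
      rw [hf, smul_smul, Algebra.smul_def, mul_comm]

theorem bcMap_tmul (f : N →+ W) (hf : ∀ (a : A) (n : N), f (a • n) = algebraMap A B a • f n) (b : B) (n : N) :
    bcMap f hf (b ⊗ₜ[A] n) = b • f n :=
  rfl

theorem bcMap_smul (f : N →+ W) (hf : ∀ (a : A) (n : N), f (a • n) = algebraMap A B a • f n) (b : B)
    (x : B ⊗[A] N) : bcMap f hf (b • x) = b • bcMap f hf x := by
  induction x using TensorProduct.induction_on with
  | zero => simp
  | tmul c n => rw [smul_tmul', bcMap_tmul, bcMap_tmul, smul_eq_mul, mul_smul]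
  | add x y hx hy => rw [smul_add, map_add, map_add, hx, hy, smul_add]

/-- Composing base changes. -/
theorem bijective_bcMap_comp_iff {C : Type u} [CommRing C] [Algebra A C] [Algebra B C] [IsScalarTower A B C]
    {U : Type*} [AddCommGroup U] [Module C U] (f : N →+ W)
    (hf : ∀ (a : A) (n : N), f (a • n) = algebraMap A B a • f n) (f' : W →+ U)
    (hf' : ∀ (b : B) (w : W), f' (b • w) = algebraMap B C b • f' w)
    (hb : Function.Bijective (bcMap f hf)) (hff' : ∀ (a : A) (n : N), (f'.comp f) (a • n) = algebraMap A C a • (f'.comp f) n) :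
    Function.Bijective (bcMap (f'.comp f) hff') ↔ Function.Bijective (bcMap f' hf') := by
  let e₀ : (B ⊗[A] N) ≃ₗ[B] W := LinearEquiv.ofBijective
    { toFun := bcMap f hf, map_add' := map_add _, map_smul' := bcMap_smul f hf } hb
  let e : C ⊗[A] N ≃ₗ[B] C ⊗[B] W :=
    (AlgebraTensorModule.cancelBaseChange A B B C N).symm ≪≫ₗ e₀.lTensor C
  have he : ∀ z, bcMap f' hf' (e z) = bcMap (f'.comp f) hff' z := fun z => by
    induction z using TensorProduct.induction_on with
    | zero => simp
    | tmul c n =>
      show bcMap f' hf' (c ⊗ₜ[B] bcMap f hf (1 ⊗ₜ[A] n)) = _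
      rw [bcMap_tmul, bcMap_tmul, bcMap_tmul, one_smul]
      rfl
    | add a b ha hb => rw [map_add, map_add, map_add, ha, hb]
  rw [show ⇑(bcMap (f'.comp f) hff') = bcMap f' hf' ∘ e from funext fun z => (he z).symm]
  exact Function.Bijective.of_comp_iff _ e.bijective

end BcMap

section Faithful

variable {A : Type u} [CommRing A] {ι : Type*} (B : ι → Type u) [∀ k, CommRing (B k)] [∀ k, Algebra A (B k)]
  [∀ k, Module.Flat A (B k)] {N : Type v} [AddCommGroup N] [Module A N]

/-- An element killed by a jointly surjective flat family of algebras is zero. -/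
theorem eq_zero_of_forall_one_tmul
    (hB : ∀ p : PrimeSpectrum A, ∃ k, p ∈ Set.range (PrimeSpectrum.comap (algebraMap A (B k)))) (x : N)
    (h : ∀ k, (1 : B k) ⊗ₜ[A] x = 0) : x = 0 := by
  by_contra hx
  let g : A →ₗ[A] N := LinearMap.toSpanSingleton A N x
  let I : Ideal A := LinearMap.ker g
  have hI : I ≠ ⊤ := fun e => hx (by
    have : (1 : A) ∈ I := by rw [e]; exact Submodule.mem_top
    simpa [g, I] using this)
  obtain ⟨m, hm, hle⟩ := I.exists_le_maximal hI
  obtain ⟨k, q, hq⟩ := hB ⟨m, hm.isPrime⟩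
  have hinj : Function.Injective ((I.liftQ g le_rfl).lTensor (B k)) :=
    Module.Flat.lTensor_preserves_injective_linearMap _
      (LinearMap.ker_eq_bot.1 (Submodule.ker_liftQ_eq_bot _ _ _ le_rfl))
  have h1 : (1 : B k) ⊗ₜ[A] (Submodule.Quotient.mk 1 : A ⧸ I) = 0 := hinj (by
    rw [LinearMap.lTensor_tmul, map_zero]
    show (1 : B k) ⊗ₜ[A] g 1 = 0
    simpa [g] using h k)
  have h2 := congrArg (TensorProduct.tensorQuotEquivQuotSMul (B k) I) h1
  rw [map_zero, show (Submodule.Quotient.mk 1 : A ⧸ I) = Ideal.Quotient.mk I 1 from rfl,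
    TensorProduct.tensorQuotEquivQuotSMul_tmul_mk, one_smul,
    Submodule.Quotient.mk_eq_zero, Ideal.smul_top_eq_map] at h2
  have h3 : (1 : B k) ∈ q.asIdeal := by
    refine (Ideal.map_le_iff_le_comap.2 fun a ha => ?_ : I.map (algebraMap A (B k)) ≤ q.asIdeal) h2
    have : a ∈ m := hle ha
    rw [show m = q.asIdeal.comap (algebraMap A (B k)) from congrArg PrimeSpectrum.asIdeal hq.symm] at this
    exact this
  exact q.2.ne_top ((Ideal.eq_top_iff_one _).2 h3)

variable [Finite ι]

/-- Compatible elements of the base changes come from the module. -/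
theorem exists_descend
    (hB : ∀ p : PrimeSpectrum A, ∃ k, p ∈ Set.range (PrimeSpectrum.comap (algebraMap A (B k))))
    (y : ∀ k, B k ⊗[A] N)
    (hy : ∀ k l, (1 : B k) ⊗ₜ[A] y l = LinearMap.lTensor (B k) (TensorProduct.mk A (B l) N 1) (y k)) :
    ∃ x : N, ∀ k, (1 : B k) ⊗ₜ[A] x = y k := by
  haveI := Fintype.ofFinite ι
  haveI := Classical.decEq ι
  let α : N →ₗ[A] ∀ k, B k ⊗[A] N := LinearMap.pi fun k => TensorProduct.mk A (B k) N 1
  suffices h : y ∈ LinearMap.range α by
    obtain ⟨x, hx⟩ := h
    exact ⟨x, fun k => congrFun hx k⟩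
  rw [← Submodule.Quotient.mk_eq_zero]
  refine eq_zero_of_forall_one_tmul B hB _ fun m => ?_
  have hy' : (1 : B m) ⊗ₜ[A] y = α.lTensor (B m) (y m) := by
    refine (piRight A A (B m) fun k => B k ⊗[A] N).injective (funext fun l => ?_)
    rw [piRight_apply, piRight_apply, piRightHom_tmul]
    show (1 : B m) ⊗ₜ[A] y l = _
    rw [hy m l]
    have key : ∀ z : B m ⊗[A] N, piRightHom A A (B m) (fun k => B k ⊗[A] N) (α.lTensor (B m) z) l =
        (TensorProduct.mk A (B l) N 1).lTensor (B m) z := fun z => by
      induction z using TensorProduct.induction_on with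
      | zero => simp
      | tmul a n => simp [α]
      | add a b ha hb => simp only [map_add, Pi.add_apply, ha, hb]
    exact (key _).symm
  have e : (LinearMap.range α).mkQ ∘ₗ α = 0 := LinearMap.range_mkQ_comp α
  show (1 : B m) ⊗ₜ[A] (LinearMap.range α).mkQ y = 0
  rw [← LinearMap.lTensor_tmul, hy', ← LinearMap.comp_apply, ← LinearMap.lTensor_comp, e,
    LinearMap.lTensor_zero, LinearMap.zero_apply]

end Faithful

section Tower

variable {A A' : Type u} [CommRing A] [CommRing A'] [Algebra A A'] {ι : Type*}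
  (B : ι → Type u) [∀ k, CommRing (B k)] [∀ k, Algebra A (B k)] [∀ k, Algebra A' (B k)]
  [∀ k, IsScalarTower A A' (B k)] [∀ k, Module.Flat A' (B k)]
  {N : Type v} [AddCommGroup N] [Module A N]

/-- The identification of the two base changes of a module. -/
abbrev cancel (k : ι) : B k ⊗[A'] (A' ⊗[A] N) ≃ₗ[B k] B k ⊗[A] N :=
  AlgebraTensorModule.cancelBaseChange A A' (B k) (B k) N

theorem cancel_one_tmul (k : ι) (x : A' ⊗[A] N) :
    cancel B k ((1 : B k) ⊗ₜ[A'] x) = (IsScalarTower.toAlgHom A A' (B k)).toLinearMap.rTensor N x := by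
  induction x using TensorProduct.induction_on with
  | zero => simp
  | tmul a n =>
    rw [AlgebraTensorModule.cancelBaseChange_tmul, LinearMap.rTensor_tmul]
    simp [Algebra.smul_def]
  | add a b ha hb => rw [tmul_add, map_add, map_add, ha, hb]

/-- Injectivity of base change along a jointly surjective flat family. -/
theorem eq_zero_of_forall_rTensor
    (hB : ∀ p : PrimeSpectrum A', ∃ k, p ∈ Set.range (PrimeSpectrum.comap (algebraMap A' (B k))))
    (x : A' ⊗[A] N) (h : ∀ k, (IsScalarTower.toAlgHom A A' (B k)).toLinearMap.rTensor N x = 0) : x = 0 :=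
  eq_zero_of_forall_one_tmul B hB x fun k =>
    (cancel B k).injective (by rw [cancel_one_tmul, h k, map_zero])

variable (P : ι → ι → Type u) [∀ k l, CommRing (P k l)] [∀ k l, Algebra A (P k l)]
  [∀ k l, Algebra A' (P k l)] [∀ k l, IsScalarTower A A' (P k l)] [Finite ι]

/-- Compatible elements of base changes descend. -/
theorem exists_descend_rTensor
    (hB : ∀ p : PrimeSpectrum A', ∃ k, p ∈ Set.range (PrimeSpectrum.comap (algebraMap A' (B k))))
    (j₁ : ∀ k l, B k →ₐ[A'] P k l) (j₂ : ∀ k l, B l →ₐ[A'] P k l)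
    (hP : ∀ k l, Function.Bijective (Algebra.TensorProduct.lift (j₁ k l) (j₂ k l) fun _ _ => Commute.all _ _))
    (y : ∀ k, B k ⊗[A] N)
    (hy : ∀ k l, ((j₁ k l).restrictScalars A).toLinearMap.rTensor N (y k) =
      ((j₂ k l).restrictScalars A).toLinearMap.rTensor N (y l)) :
    ∃ x : A' ⊗[A] N, ∀ k, (IsScalarTower.toAlgHom A A' (B k)).toLinearMap.rTensor N x = y k := by
  suffices h : ∀ k l, (1 : B k) ⊗ₜ[A'] (cancel B l).symm (y l) =
      (TensorProduct.mk A' (B l) (A' ⊗[A] N) 1).lTensor (B k) ((cancel B k).symm (y k)) by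
    obtain ⟨x, hx⟩ := exists_descend B hB (fun k => (cancel B k).symm (y k)) h
    exact ⟨x, fun k => by rw [← cancel_one_tmul, hx k, LinearEquiv.apply_symm_apply]⟩
  intro k l
  let μ : (B k ⊗[A'] B l) ≃ₐ[A'] P k l := AlgEquiv.ofBijective _ (hP k l)
  let θ : B k ⊗[A'] (B l ⊗[A'] (A' ⊗[A] N)) ≃ₗ[A'] (B k ⊗[A'] B l) ⊗[A] N :=
    (TensorProduct.assoc A' (B k) (B l) (A' ⊗[A] N)).symm ≪≫ₗ
      (AlgebraTensorModule.cancelBaseChange A A' (B k ⊗[A'] B l) (B k ⊗[A'] B l) N).restrictScalars A'
  let ν : (B k ⊗[A'] B l) ⊗[A] N ≃ₗ[A] P k l ⊗[A] N :=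
    LinearEquiv.rTensor N (μ.toLinearEquiv.restrictScalars A)
  have h₂ : ∀ z : B l ⊗[A] N, ν (θ ((1 : B k) ⊗ₜ[A'] (cancel B l).symm z)) =
      ((j₂ k l).restrictScalars A).toLinearMap.rTensor N z := fun z => by
    induction z using TensorProduct.induction_on with
    | zero => simp
    | tmul b n => simp [θ, ν, μ]
    | add a b ha hb => simp only [map_add, tmul_add, ha, hb]
  have h₁ : ∀ z : B k ⊗[A] N, ν (θ ((TensorProduct.mk A' (B l) (A' ⊗[A] N) 1).lTensor (B k)
      ((cancel B k).symm z))) = ((j₁ k l).restrictScalars A).toLinearMap.rTensor N z := fun z => by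
    induction z using TensorProduct.induction_on with
    | zero => simp
    | tmul b n => simp [θ, ν, μ]
    | add a b ha hb => simp only [map_add, ha, hb]
  exact (θ.injective (ν.injective ((h₂ (y l)).trans ((hy k l).symm.trans (h₁ (y k)).symm))))

end Tower

section Pushout

variable {A S T P : Type u} [CommRing A] [CommRing S] [CommRing T] [CommRing P]
  [Algebra A S] [Algebra A T] [Algebra A P] [Algebra S P] [Algebra T P]
  [IsScalarTower A S P] [IsScalarTower A T P] [Algebra.IsPushout A S T P]
  {M : Type v} [AddCommGroup M] [Module A M] [Module T M] [IsScalarTower A T M]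
  {W : Type w} [AddCommGroup W] [Module P W] [Module S W] [IsScalarTower S P W]

/-- Base change along a pushout square of rings. -/
theorem bijective_bcMap_of_isPushout (f : M →+ W) (hf : ∀ (a : A) (m : M), f (a • m) = algebraMap A S a • f m)
    (hf' : ∀ (t : T) (m : M), f (t • m) = algebraMap T P t • f m) (h : Function.Bijective (bcMap f hf')) :
    Function.Bijective (bcMap f hf) := by
  have e : ∀ z, bcMap f hf' ((Algebra.IsPushout.cancelBaseChange A S T P M).symm z) = bcMap f hf z := fun z => by
    induction z using TensorProduct.induction_on with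
    | zero => simp
    | tmul s m =>
      rw [Algebra.IsPushout.cancelBaseChange_symm_tmul, bcMap_tmul, bcMap_tmul, IsScalarTower.algebraMap_smul]
    | add a b ha hb => simp only [map_add, ha, hb]
  have := h.comp (Algebra.IsPushout.cancelBaseChange A S T P M).symm.bijective
  rwa [show ⇑(bcMap f hf) = bcMap f hf' ∘ (Algebra.IsPushout.cancelBaseChange A S T P M).symm from
    funext fun z => (e z).symm]

end Pushout

end

end Groth.Agent.SpQC61
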