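import Groth.Agent.SpQC61.WeakAss

/-!
Zero sections, exactness and finiteness of sections over affine charts.
-/

set_option autoImplicit false
set_option linter.style.haveILetI false
set_option backward.isDefEq.respectTransparency false

universe u v

open CategoryTheory CategoryTheory.Limits AlgebraicGeometry Opposite TensorProduct
open AlgSp

namespace Groth.Agent.SpQC61

theorem exists_notMem_smul_eq_zero {A B : Type u} [CommRing A] [CommRing B] [Algebra A B] [Module.Flat A B]
    {N : Type v} [AddCommGroup N] [Module A N] (x : N) (h : (1 : B) ⊗ₜ[A] x = 0) (q : Ideal B) [q.IsPrime] :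
    ∃ r : A, r ∉ q.comap (algebraMap A B) ∧ r • x = 0 := by
  by_contra hne
  push Not at hne
  let g : A →ₗ[A] N := LinearMap.toSpanSingleton A N x
  let I : Ideal A := LinearMap.ker g
  have hinj : Function.Injective ((I.liftQ g le_rfl).lTensor B) :=
    Module.Flat.lTensor_preserves_injective_linearMap _
      (LinearMap.ker_eq_bot.1 (Submodule.ker_liftQ_eq_bot _ _ _ le_rfl))
  have h1 : (1 : B) ⊗ₜ[A] (Submodule.Quotient.mk 1 : A ⧸ I) = 0 := hinj (by
    rw [LinearMap.lTensor_tmul, map_zero]
    show (1 : B) ⊗ₜ[A] g 1 = 0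
    simpa [g] using h)
  have h2 := congrArg (TensorProduct.tensorQuotEquivQuotSMul B I) h1
  rw [map_zero, show (Submodule.Quotient.mk 1 : A ⧸ I) = Ideal.Quotient.mk I 1 from rfl,
    TensorProduct.tensorQuotEquivQuotSMul_tmul_mk, one_smul,
    Submodule.Quotient.mk_eq_zero, Ideal.smul_top_eq_map] at h2
  refine (inferInstance : q.IsPrime).ne_top ((Ideal.eq_top_iff_one _).2 ?_)
  refine (Ideal.map_le_iff_le_comap.2 fun a ha => ?_ : I.map (algebraMap A B) ≤ q) h2
  by_contra haq
  exact hne a haq (by simpa [I, g] using ha)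

variable {S : Scheme.{u}} {X : Sp S}

/-- A morphism of modules on sections. -/
noncomputable def appM {M N : ModEt X} (φ : M ⟶ N) (E : EtOver X) : SectM M E →ₗ[Γt E] SectM N E where
  toFun x := (φ.val.app (op E) x : N.val.obj (op E))
  map_add' x y := map_add (φ.val.app (op E)).hom x y
  map_smul' r x := (φ.val.app (op E)).hom.map_smul (upΓ E r) x

theorem resM_appM {M N : ModEt X} (φ : M ⟶ N) {E' E : EtOver X} (g : E' ⟶ E) (x : SectM M E) :
    resM N g (appM φ E x) = appM φ E' (resM M g x) :=
  (PresheafOfModules.naturality_apply φ.val g.op x).symm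

theorem appM_injective {M N : ModEt X} (φ : M ⟶ N) [Mono φ] (E : EtOver X) : Function.Injective (appM φ E) := by
  let F := SheafOfModules.evaluation.{u + 1} (OEtRing X) (op E)
  haveI : Mono (F.map φ) := by
    rw [mono_iff_isPullback]
    exact IsPullback.map F ((mono_iff_isPullback φ).1 inferInstance)
  exact (ModuleCat.mono_iff_injective (F.map φ)).1 inferInstance

theorem exact_appM (C : ShortComplex (ModEt X)) (hC : C.ShortExact) (E : EtOver X) :
    Function.Exact (appM C.f E) (appM C.g E) := fun x => by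
  let F := SheafOfModules.evaluation.{u + 1} (OEtRing X) (op E)
  haveI : F.Additive := ⟨rfl⟩
  haveI : PreservesLimit (parallelPair C.g 0) F := inferInstance
  have hex := ShortComplex.exact_of_f_is_kernel (C.map F) (KernelFork.mapIsLimit _ hC.fIsKernel F)
  constructor
  · intro hx
    exact (ShortComplex.moduleCat_exact_iff _).1 hex x hx
  · rintro ⟨y, rfl⟩
    exact congrArg (fun φ : C.X₁ ⟶ C.X₃ => appM φ E y) C.zero

variable (M : ModEt X)

theorem resM_eq_of_forall_pt {E : EtOver X} {x y : SectM M E}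
    (h : ∀ v : ↥E.obj.left.left, ∃ (W : EtOver X) (g : W ⟶ E),
      v ∈ Set.range g.hom.left.left ∧ resM M g x = resM M g y) : x = y := by
  choose W g hv he using h
  exact eq_of_cover (M.over E) (o := Over.mk (𝟙 E)) (V := fun v => Over.mk (g v))
    (fun v => Over.homMk (g v) (Category.comp_id _)) (fun v => ⟨v, hv v⟩) he

/-- A module without sections over affine objects is zero. -/
theorem isZero_of_forall_affine (h : ∀ (E : EtOver X) [Aff E] (x : SectM M E), x = 0) : IsZero M := by
  rw [IsZero.iff_id_eq_zero]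
  refine SheafOfModules.hom_ext (PresheafOfModules.hom_ext fun E => ModuleCat.hom_ext (LinearMap.ext fun x => ?_))
  refine resM_eq_of_forall_pt M (E := E.unop) (x := x) fun v => ?_
  obtain ⟨U, hU, hvU, -⟩ := exists_isAffineOpen_mem_and_subset
    (U := (⊤ : E.unop.obj.left.left.Opens)) (x := v) trivial
  haveI : Aff (openObj E.unop U) := hU
  exact ⟨openObj E.unop U, openObjι E.unop U, ⟨⟨v, hvU⟩, rfl⟩, (h _ _).trans (h _ _).symm⟩

variable {M} [M.IsQuasicoherent]

/-- Sections vanishing after restriction are killed by a function invertible at the given point. -/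
theorem exists_notMem_of_resM_eq_zero {W E : EtOver X} (g : W ⟶ E) [Aff W] [Aff E] (x : SectM M E)
    (hx : resM M g x = 0) (w : ↥W.obj.left.left) :
    ∃ r : Γt E, r ∉ primeAtPt E.obj.left.left (g.hom.left.left w) ∧ r • x = 0 := by
  letI := (cmap g).toAlgebra
  haveI : Module.Flat (Γt E) (Γt W) := flat_cmap g
  have h1 : (1 : Γt W) ⊗ₜ[Γt E] x = 0 := by
    refine (bcM_bijective M g).1 ?_
    rw [map_zero]
    exact (one_smul (Γt W) (resM M g x)).trans hx
  obtain ⟨r, hr, hrx⟩ := exists_notMem_smul_eq_zero x h1 (primeAtPt W.obj.left.left w)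
  refine ⟨r, fun h => hr ?_, hrx⟩
  rw [← comap_primeAtPt] at h
  exact h

/-- Membership in a span is local. -/
theorem mem_span_of_cover {m : ℕ} {E : EtOver X} [Aff E] {V : Fin m → EtOver X} (g : ∀ k, V k ⟶ E)
    (hV : ∀ k, Aff (V k)) (hsurj : ∀ x : ↥E.obj.left.left, ∃ k, x ∈ Set.range (g k).hom.left.left)
    (T : Set (SectM M E)) (x : SectM M E)
    (h : ∀ k, resM M (g k) x ∈ Submodule.span (Γt (V k)) (resM M (g k) '' T)) :
    x ∈ Submodule.span (Γt E) T := by
  haveI := hV
  letI := fun k => (cmap (g k)).toAlgebra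
  haveI : ∀ k, Module.Flat (Γt E) (Γt (V k)) := fun k => flat_cmap (g k)
  rw [← Submodule.Quotient.mk_eq_zero]
  refine eq_zero_of_forall_one_tmul (fun k => Γt (V k)) (exists_prime_preimage g hsurj) _ fun k => ?_
  suffices hk : ∀ y ∈ Submodule.span (Γt (V k)) (resM M (g k) '' T), ∀ z : Γt (V k) ⊗[Γt E] SectM M E,
      bcM M (g k) z = y → (Submodule.span (Γt E) T).mkQ.lTensor (Γt (V k)) z = 0 from
    hk _ (h k) ((1 : Γt (V k)) ⊗ₜ[Γt E] x) (one_smul (Γt (V k)) (resM M (g k) x))
  intro y hy
  have hb := bcM_bijective M (g k)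
  induction hy using Submodule.span_induction with
  | mem y hy =>
    obtain ⟨t, ht, rfl⟩ := hy
    intro z hz
    obtain rfl : z = (1 : Γt (V k)) ⊗ₜ[Γt E] t := hb.1 (hz.trans (one_smul (Γt (V k)) (resM M (g k) t)).symm)
    rw [LinearMap.lTensor_tmul, Submodule.mkQ_apply, (Submodule.Quotient.mk_eq_zero _).2 (Submodule.subset_span ht),
      TensorProduct.tmul_zero]
  | zero =>
    intro z hz
    obtain rfl : z = 0 := hb.1 (hz.trans (map_zero _).symm)
    exact map_zero _
  | add a b _ _ ha hb' =>
    intro z hz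
    obtain ⟨za, hza⟩ := hb.2 a
    obtain ⟨zb, hzb⟩ := hb.2 b
    obtain rfl : z = za + zb := hb.1 (hz.trans (by rw [← hza, ← hzb]; exact (map_add _ _ _).symm))
    rw [map_add, ha za hza, hb' zb hzb, add_zero]
  | smul r a _ ha =>
    intro z hz
    obtain ⟨za, hza⟩ := hb.2 a
    obtain rfl : z = r • za := hb.1 (hz.trans (by rw [← hza]; exact (bcMap_smul (resM M (g k)) _ r za).symm))
    clear hz
    have hl : ∀ w : Γt (V k) ⊗[Γt E] SectM M E, (Submodule.span (Γt E) T).mkQ.lTensor (Γt (V k)) (r • w) =
        r • (Submodule.span (Γt E) T).mkQ.lTensor (Γt (V k)) w := fun w => by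
      induction w using TensorProduct.induction_on with
      | zero => simp
      | tmul b n => rw [TensorProduct.smul_tmul', LinearMap.lTensor_tmul, LinearMap.lTensor_tmul,
          TensorProduct.smul_tmul']
      | add p q hp hq => rw [smul_add, map_add, map_add, hp, hq, smul_add]
    rw [hl, ha za hza, smul_zero]

theorem exists_finset_span {V E : EtOver X} (g : V ⟶ E) [Aff V] [Aff E] (y : SectM M V) :
    ∃ T : Set (SectM M E), T.Finite ∧ y ∈ Submodule.span (Γt V) (resM M g '' T) := by
  letI := (cmap g).toAlgebra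
  obtain ⟨z, rfl⟩ := (bcM_bijective M g).2 y
  induction z using TensorProduct.induction_on with
  | zero => exact ⟨∅, Set.finite_empty, by rw [show bcM M g 0 = 0 from map_zero _]; exact Submodule.zero_mem _⟩
  | tmul b n => exact ⟨{n}, Set.finite_singleton n, Submodule.smul_mem _ b (Submodule.subset_span ⟨n, rfl, rfl⟩)⟩
  | add p q hp hq =>
    obtain ⟨Tp, hTp, hp⟩ := hp
    obtain ⟨Tq, hTq, hq⟩ := hq
    refine ⟨Tp ∪ Tq, hTp.union hTq, ?_⟩
    rw [show bcM M g (p + q) = bcM M g p + bcM M g q from map_add _ _ _]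
    exact Submodule.add_mem _ (Submodule.span_mono (Set.image_mono Set.subset_union_left) hp)
      (Submodule.span_mono (Set.image_mono Set.subset_union_right) hq)

variable (M) in
/-- Sections of a quasi-coherent module of finite type over an affine object form a finite module. -/
theorem finite_sectM [M.IsFiniteType] (E : EtOver X) [Aff E] : Module.Finite (Γt E) (SectM M E) := by
  classical
  obtain ⟨q, hq⟩ := SheafOfModules.IsFiniteType.exists_localGeneratorsData M
  obtain ⟨m, V, g, hV, hg, hs⟩ := exists_finite_affine_cover (q.coversTop E)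
  haveI := hV
  choose i f using fun k => hg k
  have f' : ∀ k, V k ⟶ q.X (i k) := fun k => (f k).some
  haveI : ∀ k, Finite (q.generators (i k)).I := fun k => (hq.isFiniteType (i k)).finite
  let σ : ∀ k, (q.generators (i k)).I → SectM M (V k) := fun k j =>
    sectAt (M.over (q.X (i k))) (q.generators (i k)).s j (Over.mk (f' k))
  have hσ : ∀ k (y : SectM M (V k)), y ∈ Submodule.span (Γt (V k)) (Set.range (σ k)) := fun k y => by
    haveI : Epi ((M.over (q.X (i k))).freeHomEquiv.symm (q.generators (i k)).s) := (q.generators (i k)).epi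
    haveI : Aff (Over.mk (f' k)).left := hV k
    obtain ⟨m', W, w, hw, hws⟩ := exists_cover_span (M.over (q.X (i k))) (q.generators (i k)).s
      (o := Over.mk (f' k)) y
    refine mem_span_of_cover (fun l => (w l).left) hw.1 hw.2 _ y fun l => ?_
    refine Submodule.span_mono ?_ (hws l)
    rintro _ ⟨j, rfl⟩
    exact ⟨σ k j, ⟨j, rfl⟩, res_sectAt (M.over (q.X (i k))) (q.generators (i k)).s j (w l)⟩
  choose T hT hTm using fun p : Σ k, (q.generators (i k)).I => exists_finset_span (g p.1) (σ p.1 p.2)
  refine ⟨Submodule.fg_def.2 ⟨⋃ p, T p, Set.finite_iUnion hT, ?_⟩⟩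
  refine Submodule.eq_top_iff'.2 fun x => mem_span_of_cover g hV hs _ x fun k => ?_
  refine Submodule.span_le.2 ?_ (hσ k (resM M (g k) x))
  rintro _ ⟨j, rfl⟩
  exact Submodule.span_mono (Set.image_mono (Set.subset_iUnion T ⟨k, j⟩)) (hTm ⟨k, j⟩)

end Groth.Agent.SpQC61
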