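import Mathlib.Algebra.Category.ModuleCat.Sheaf.Abelian
import Mathlib.Algebra.Category.ModuleCat.Sheaf.Generators
import Mathlib.Algebra.Category.ModuleCat.Presheaf.Submodule
import Mathlib.Algebra.Category.ModuleCat.Sheaf.Limits
import Mathlib.Algebra.Category.ModuleCat.Kernels
import Mathlib.Algebra.Homology.ShortComplex.ModuleCat

/-!
Sections of sheaves of modules with generating sections, and of free sheaves.
-/

set_option autoImplicit false
set_option backward.isDefEq.respectTransparency false

universe v₁ u₁

open CategoryTheory CategoryTheory.Limits Opposite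

namespace Groth.Agent.SpQC61

variable {C : Type u₁} [Category.{v₁} C] {J : GrothendieckTopology C} {R : Sheaf J RingCat.{max u₁ v₁}}
  [HasSheafify J AddCommGrpCat.{max u₁ v₁}] [J.WEqualsLocallyBijective AddCommGrpCat.{max u₁ v₁}]
  {M : SheafOfModules.{max u₁ v₁} R} {I : Type (max u₁ v₁)} (s : I → M.sections)

/-- Restriction. -/
noncomputable abbrev rmap (M : SheafOfModules.{max u₁ v₁} R) {W V : C} (v : V ⟶ W) (x : M.val.obj (op W)) :
    M.val.obj (op V) :=
  M.val.map v.op x

/-- The span of the given sections over an object. -/
abbrev spanAt (V : C) : Submodule (R.obj.obj (op V)) (M.val.obj (op V)) :=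
  Submodule.span _ (Set.range fun i => (s i).eval (op V))

theorem map_mem_spanAt {V V' : C} (f : V' ⟶ V) {y : M.val.obj (op V)} (hy : y ∈ spanAt s V) :
    M.val.map f.op y ∈ spanAt s V' := by
  induction hy using Submodule.span_induction with
  | mem z hz =>
    obtain ⟨i, rfl⟩ := hz
    exact Submodule.subset_span ⟨i, ((s i).property f.op).symm⟩
  | zero =>
    rw [show M.val.map f.op (0 : M.val.obj (op V)) = 0 from map_zero (M.val.map f.op).hom]
    exact Submodule.zero_mem _
  | add a b _ _ ha hb =>
    rw [show M.val.map f.op (a + b) = M.val.map f.op a + M.val.map f.op b from map_add (M.val.map f.op).hom a b]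
    exact Submodule.add_mem _ ha hb
  | smul r a _ ha =>
    rw [M.val.map_smul]
    exact Submodule.smul_mem _ _ ha

/-- Where a section is a combination of the given ones. -/
def spanSieve {W : C} (x : M.val.obj (op W)) : Sieve W where
  arrows V v := M.val.map v.op x ∈ spanAt s V
  downward_closed {V V'} v hv f := by
    show M.val.map (f ≫ v).op x ∈ _
    rw [op_comp, M.val.map_comp_apply]
    exact map_mem_spanAt s f hv

theorem spanSieve_pullback {W V : C} (x : M.val.obj (op W)) (v : V ⟶ W) :
    (spanSieve s x).pullback v = spanSieve s (rmap M v x) := by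
  ext V' f
  show M.val.map (f ≫ v).op x ∈ _ ↔ M.val.map f.op (M.val.map v.op x) ∈ _
  rw [op_comp, M.val.map_comp_apply]

/-- The sections that are locally combinations of the given ones. -/
noncomputable def locSpan : M.val.Submodule where
  obj W :=
    { carrier := {x | spanSieve s (W := W.unop) x ∈ J W.unop}
      zero_mem' := J.superset_covering (fun V v _ => by
        show M.val.map v.op (0 : M.val.obj W) ∈ _
        rw [show M.val.map v.op (0 : M.val.obj W) = 0 from map_zero (M.val.map v.op).hom]
        exact Submodule.zero_mem _) (J.top_mem _)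
      add_mem' := fun {a b} ha hb => J.superset_covering (fun V v hv => by
        show M.val.map v.op (a + b) ∈ _
        rw [show M.val.map v.op (a + b) = M.val.map v.op a + M.val.map v.op b from map_add (M.val.map v.op).hom a b]
        exact Submodule.add_mem _ hv.1 hv.2) (J.intersection_covering ha hb)
      smul_mem' := fun r a ha => J.superset_covering (fun V v hv => by
        show M.val.map v.op (r • a) ∈ _
        rw [M.val.map_smul]
        exact Submodule.smul_mem _ _ hv) ha }
  map {W W'} f x hx := by
    show spanSieve s (rmap M f.unop x) ∈ J _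
    rw [← spanSieve_pullback]
    exact J.pullback_stable f.unop hx

theorem isSheaf_locSpan : Presheaf.IsSheaf J (locSpan s).toPresheafOfModules.presheaf := by
  rw [Presheaf.isSheaf_iff_isSheaf_forget _ _ (forget AddCommGrpCat.{max u₁ v₁}), isSheaf_iff_isSheaf_of_type]
  have hM : Presieve.IsSheaf J (M.val.presheaf ⋙ forget AddCommGrpCat.{max u₁ v₁}) :=
    (isSheaf_iff_isSheaf_of_type _ _).1 ((Presheaf.isSheaf_iff_isSheaf_forget _ _ _).1 M.isSheaf)
  intro W S hS x hx
  let x' : Presieve.FamilyOfElements (M.val.presheaf ⋙ forget AddCommGrpCat.{max u₁ v₁}) S.arrows :=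
    fun V f hf => (x f hf).val
  have hx' : x'.Compatible := fun Y₁ Y₂ Z g₁ g₂ f₁ f₂ h₁ h₂ e => congrArg Subtype.val (hx g₁ g₂ h₁ h₂ e)
  obtain ⟨t, ht, htu⟩ := hM S hS x' hx'
  have htm : spanSieve s (W := W) t ∈ J W := J.transitive hS _ fun V f hf => by
    rw [spanSieve_pullback]
    have : rmap M f t = (x f hf).val := ht f hf
    rw [this]
    exact (x f hf).property
  refine ⟨⟨t, htm⟩, fun V f hf => Subtype.ext (ht f hf), fun y hy => Subtype.ext ?_⟩
  exact htu y.val fun V f hf => congrArg Subtype.val (hy f hf)

/-- Every section of a module is locally a combination of generating sections. -/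
theorem exists_mem_spanAt_of_epi [Epi (M.freeHomEquiv.symm s)] {W : C} (x : M.val.obj (op W)) :
    spanSieve s x ∈ J W := by
  let G : SheafOfModules.{max u₁ v₁} R := ⟨(locSpan s).toPresheafOfModules, isSheaf_locSpan s⟩
  let ι : G ⟶ M := ⟨(locSpan s).ι⟩
  haveI : Mono ι := (SheafOfModules.forget R).mono_of_mono_map
    (inferInstance : Mono (locSpan s).ι)
  let t : I → G.sections := fun i => PresheafOfModules.sectionsMk
    (fun W' => ⟨(s i).eval W', J.superset_covering (fun V v _ => by
      show M.val.map v.op ((s i).eval (op W'.unop)) ∈ _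
      rw [show M.val.map v.op ((s i).eval (op W'.unop)) = (s i).eval (op V) from (s i).property v.op]
      exact Submodule.subset_span ⟨i, rfl⟩) (J.top_mem _)⟩)
    fun W' W'' f => Subtype.ext ((s i).property f)
  have e : G.freeHomEquiv.symm t ≫ ι = M.freeHomEquiv.symm s := by
    rw [SheafOfModules.freeHomEquiv_symm_comp]
    rfl
  haveI : Epi ι := by
    have : Epi (G.freeHomEquiv.symm t ≫ ι) := by rw [e]; infer_instance
    exact epi_of_epi (G.freeHomEquiv.symm t) ι
  haveI : IsIso ι := isIso_of_mono_of_epi ι
  obtain ⟨y, rfl⟩ : ∃ y : G.val.obj (op W), ι.val.app (op W) y = x :=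
    ⟨(inv ι).val.app (op W) x, by
      have h2 : inv ι ≫ ι = 𝟙 M := IsIso.inv_hom_id ι
      exact congrArg (fun φ : M ⟶ M => φ.val.app (op W) x) h2⟩
  exact y.property

/-- The tautological sections of a free sheaf are linearly independent over every object. -/
theorem free_coeff_eq_zero {W : C} (c : I →₀ R.obj.obj (op W))
    (h : (c.sum fun i r => r • (SheafOfModules.freeSection (R := R) i).eval (op W)) = 0) : c = 0 := by
  classical
  let one : (SheafOfModules.unit R).sections := (SheafOfModules.unit R).unitHomEquiv (𝟙 _)
  let zero : (SheafOfModules.unit R).sections := (SheafOfModules.unit R).unitHomEquiv 0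
  refine Finsupp.ext fun j => ?_
  let p : SheafOfModules.free (R := R) I ⟶ SheafOfModules.unit R :=
    (SheafOfModules.freeHomEquiv _).symm fun i => if i = j then one else zero
  have hp : ∀ i, p.val.app (op W) ((SheafOfModules.freeSection (R := R) i).eval (op W)) =
      (if i = j then one else zero).eval (op W) := fun i => by
    exact congrArg (fun z : (SheafOfModules.unit R).sections => z.val (op W))
      (SheafOfModules.sectionsMap_freeHomEquiv_symm_freeSection (fun i => if i = j then one else zero) i)
  have h1 := congrArg (p.val.app (op W)).hom h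
  rw [Finsupp.sum, map_sum, map_zero, Finset.sum_eq_single j] at h1
  · rw [map_smul, show (p.val.app (op W)).hom ((SheafOfModules.freeSection (R := R) j).eval (op W)) = _
      from hp j, if_pos rfl] at h1
    have h2 : c j * (1 : R.obj.obj (op W)) = 0 := h1
    rwa [mul_one] at h2
  · intro i _ hi
    rw [map_smul, show (p.val.app (op W)).hom ((SheafOfModules.freeSection (R := R) i).eval (op W)) = _
      from hp i, if_neg hi]
    exact smul_zero _
  · intro hj
    rw [Finsupp.notMem_support_iff.1 hj, zero_smul, map_zero]

/-- A section killed by a morphism comes from its kernel. -/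
theorem exists_kernel_preimage {N : SheafOfModules.{max u₁ v₁} R} (φ : N ⟶ M) {W : C} (x : N.val.obj (op W))
    (hx : φ.val.app (op W) x = 0) : ∃ y : (kernel φ).val.obj (op W), (kernel.ι φ).val.app (op W) y = x := by
  let F := SheafOfModules.evaluation.{max u₁ v₁} R (op W)
  haveI : F.Additive := ⟨rfl⟩
  haveI : PreservesLimit (parallelPair φ 0) F := inferInstance
  have hex := ShortComplex.exact_of_f_is_kernel
    ((ShortComplex.mk (kernel.ι φ) φ (kernel.condition φ)).map F)
    (KernelFork.mapIsLimit _ (kernelIsKernel φ) F)
  exact (ShortComplex.moduleCat_exact_iff _).1 hex x hx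

end Groth.Agent.SpQC61
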