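import Groth.Agent.SpQC61.Present

/-!
Modules on the small etale site whose sections over an affine object base change.
-/

set_option autoImplicit false
set_option linter.style.haveILetI false
set_option backward.isDefEq.respectTransparency false

universe u

open CategoryTheory CategoryTheory.Limits AlgebraicGeometry Opposite
open AlgSp

namespace Groth.Agent.SpQC61

variable {S : Scheme.{u}} {X : Sp S}

/-- Sections over an object, as a module over its ring of functions. -/
def SectM (M : ModEt X) (E : EtOver X) : Type (u + 1) := M.val.obj (op E)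

noncomputable instance (M : ModEt X) (E : EtOver X) : AddCommGroup (SectM M E) :=
  inferInstanceAs (AddCommGroup (M.val.obj (op E)))

noncomputable instance sectMModule (M : ModEt X) (E : EtOver X) : Module (Γt E) (SectM M E) :=
  Module.compHom (M.val.obj (op E)) (upΓ E : Γt E →+* (OEtRing X).obj.obj (op E))

variable (M : ModEt X)

/-- Restriction. -/
noncomputable def resM {E' E : EtOver X} (g : E' ⟶ E) : SectM M E →+ SectM M E' :=
  AddMonoidHom.mk' (fun x => (M.val.map g.op x : M.val.obj (op E'))) (fun x y => map_add (M.val.map g.op).hom x y)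

theorem resM_smul {E' E : EtOver X} (g : E' ⟶ E) (a : Γt E) (x : SectM M E) :
    resM M g (a • x) = cmap g a • resM M g x :=
  M.val.map_smul g.op (upΓ E a) x

theorem resM_comp {E'' E' E : EtOver X} (g' : E'' ⟶ E') (g : E' ⟶ E) (x : SectM M E) :
    resM M (g' ≫ g) x = resM M g' (resM M g x) :=
  M.val.map_comp_apply g.op g'.op x

/-- The base change map on sections. -/
noncomputable def bcM {E' E : EtOver X} (g : E' ⟶ E) :
    (letI := (cmap g).toAlgebra; TensorProduct (Γt E) (Γt E') (SectM M E)) →+ SectM M E' :=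
  letI := (cmap g).toAlgebra
  bcMap (resM M g) (resM_smul M g)

/-- Sections over affine objects over `E` are base change from `E`. -/
def GoodM (E : EtOver X) : Prop :=
  ∀ (E' : EtOver X) (g : E' ⟶ E), Aff E' → Function.Bijective (bcM M g)

theorem goodM_of_presentation {E₁ : EtOver X} (P : (M.over E₁).Presentation) {E₀ : EtOver X} [Aff E₀]
    (f : E₀ ⟶ E₁) : GoodM M E₀ := fun E' g ha => by
  haveI : Aff (Over.mk f).left := ‹_›
  exact goodAt_of_presentation P (Over.homMk g rfl : Over.mk (g ≫ f) ⟶ Over.mk f) ha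

theorem GoodM.of_hom {E₀ E₁ : EtOver X} (hE : GoodM M E₀) (h : E₁ ⟶ E₀) [Aff E₁] : GoodM M E₁ :=
  fun E' g ha => by
    letI := (cmap g).toAlgebra
    letI := (cmap h).toAlgebra
    letI : Algebra (Γt E₀) (Γt E') := (cmap (g ≫ h)).toAlgebra
    haveI : IsScalarTower (Γt E₀) (Γt E₁) (Γt E') := IsScalarTower.of_algebraMap_eq' (cmap_comp g h)
    have hff : ∀ (a : Γt E₀) (n : SectM M E₀), ((resM M g).comp (resM M h)) (a • n) =
        algebraMap (Γt E₀) (Γt E') a • ((resM M g).comp (resM M h)) n := fun a n => by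
      show resM M g (resM M h (a • n)) = cmap (g ≫ h) a • resM M g (resM M h n)
      rw [← resM_comp, ← resM_comp, resM_smul]
    refine (bijective_bcMap_comp_iff (resM M h) (resM_smul M h) (resM M g) (resM_smul M g)
      (hE E₁ h ‹_›) hff).1 ?_
    have e : ∀ z, bcMap ((resM M g).comp (resM M h)) hff z = bcM M (g ≫ h) z := fun z => by
      induction z using TensorProduct.induction_on with
      | zero => rw [map_zero]; exact (map_zero (bcM M (g ≫ h))).symm
      | tmul c n =>
        show c • resM M g (resM M h n) = c • resM M (g ≫ h) n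
        rw [resM_comp]
      | add a b ha hb => rw [map_add, ha, hb]; exact (map_add (bcM M (g ≫ h)) a b).symm
    rw [funext e]
    exact hE E' (g ≫ h) ha

theorem bcM_comp_bijective {E₀ E₁ E' : EtOver X} (h : E₁ ⟶ E₀) (g : E' ⟶ E₁)
    (hh : Function.Bijective (bcM M h)) (hg : Function.Bijective (bcM M g)) :
    Function.Bijective (bcM M (g ≫ h)) := by
  letI := (cmap g).toAlgebra
  letI := (cmap h).toAlgebra
  letI : Algebra (Γt E₀) (Γt E') := (cmap (g ≫ h)).toAlgebra
  haveI : IsScalarTower (Γt E₀) (Γt E₁) (Γt E') := IsScalarTower.of_algebraMap_eq' (cmap_comp g h)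
  have hff : ∀ (a : Γt E₀) (n : SectM M E₀), ((resM M g).comp (resM M h)) (a • n) =
      algebraMap (Γt E₀) (Γt E') a • ((resM M g).comp (resM M h)) n := fun a n => by
    show resM M g (resM M h (a • n)) = cmap (g ≫ h) a • resM M g (resM M h n)
    rw [← resM_comp, ← resM_comp, resM_smul]
  have := (bijective_bcMap_comp_iff (resM M h) (resM_smul M h) (resM M g) (resM_smul M g) hh hff).2 hg
  have e : ∀ z, bcMap ((resM M g).comp (resM M h)) hff z = bcM M (g ≫ h) z := fun z => by
    induction z using TensorProduct.induction_on with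
    | zero => rw [map_zero]; exact (map_zero (bcM M (g ≫ h))).symm
    | tmul c n =>
      show c • resM M g (resM M h n) = c • resM M (g ≫ h) n
      rw [resM_comp]
    | add a b ha hb => rw [map_add, ha, hb]; exact (map_add (bcM M (g ≫ h)) a b).symm
  rwa [funext e] at this

/-- The map from the base change of the sections over the second factor to those over the fibre product. -/
noncomputable def phiM {E E₁ E₂ : EtOver X} (g₁ : E₁ ⟶ E) (g₂ : E₂ ⟶ E) :
    (letI := (cmap g₁).toAlgebra; letI := Module.compHom (SectM M E₂) (cmap g₂);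
      TensorProduct (Γt E) (Γt E₁) (SectM M E₂)) →+ SectM M (EtOver.pullbackObj g₁ g₂) :=
  letI := (cmap g₁).toAlgebra
  letI := Module.compHom (SectM M E₂) (cmap g₂)
  letI := Module.compHom (SectM M (EtOver.pullbackObj g₁ g₂)) (cmap (EtOver.pullbackFst g₁ g₂))
  bcMap (resM M (EtOver.pullbackSnd g₁ g₂)) fun a m => by
    show resM M (EtOver.pullbackSnd g₁ g₂) (cmap g₂ a • m) =
      cmap (EtOver.pullbackFst g₁ g₂) (cmap g₁ a) • resM M (EtOver.pullbackSnd g₁ g₂) m
    rw [resM_smul, ← RingHom.comp_apply, ← cmap_comp, ← RingHom.comp_apply (cmap (EtOver.pullbackFst g₁ g₂)),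
      ← cmap_comp, EtOver.pullback_condition]

theorem phiM_bijective {E E₁ E₂ : EtOver X} (g₁ : E₁ ⟶ E) (g₂ : E₂ ⟶ E) [Aff E] [Aff E₁] [Aff E₂]
    (hE₂ : GoodM M E₂) : Function.Bijective (phiM M g₁ g₂) := by
  let P := EtOver.pullbackObj g₁ g₂
  haveI : Aff P := aff_pullback g₁ g₂
  letI := (cmap g₁).toAlgebra
  letI : Algebra (Γt E) (Γt E₂) := (cmap g₂).toAlgebra
  letI : Algebra (Γt E) (Γt P) := (cmap (EtOver.pullbackFst g₁ g₂ ≫ g₁)).toAlgebra
  letI : Algebra (Γt E₁) (Γt P) := (cmap (EtOver.pullbackFst g₁ g₂)).toAlgebra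
  letI : Algebra (Γt E₂) (Γt P) := (cmap (EtOver.pullbackSnd g₁ g₂)).toAlgebra
  haveI : IsScalarTower (Γt E) (Γt E₁) (Γt P) :=
    IsScalarTower.of_algebraMap_eq' (cmap_comp (EtOver.pullbackFst g₁ g₂) g₁)
  haveI : IsScalarTower (Γt E) (Γt E₂) (Γt P) := IsScalarTower.of_algebraMap_eq' (by
    show cmap (EtOver.pullbackFst g₁ g₂ ≫ g₁) = (cmap (EtOver.pullbackSnd g₁ g₂)).comp (cmap g₂)
    rw [EtOver.pullback_condition, cmap_comp])
  haveI : Algebra.IsPushout (Γt E) (Γt E₁) (Γt E₂) (Γt P) :=
    CommRingCat.isPushout_iff_isPushout.1 (isPushout_cmap g₁ g₂)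
  letI := Module.compHom (SectM M E₂) (cmap g₂)
  haveI : IsScalarTower (Γt E) (Γt E₂) (SectM M E₂) := ⟨fun a b m => by
    show (cmap g₂ a * b) • m = cmap g₂ a • b • m
    rw [mul_smul]⟩
  letI := Module.compHom (SectM M P) (cmap (EtOver.pullbackFst g₁ g₂))
  haveI : IsScalarTower (Γt E₁) (Γt P) (SectM M P) := ⟨fun a b m => by
    show (cmap (EtOver.pullbackFst g₁ g₂) a * b) • m = cmap (EtOver.pullbackFst g₁ g₂) a • b • m
    rw [mul_smul]⟩
  exact bijective_bcMap_of_isPushout (resM M (EtOver.pullbackSnd g₁ g₂)) _ (resM_smul M _)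
    (hE₂ P (EtOver.pullbackSnd g₁ g₂) ‹_›)

end Groth.Agent.SpQC61
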