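import Groth.Agent.SpQC61.Ten

/-!
A locally bijective map from a base changed module to sections over affine objects is bijective.
-/

set_option autoImplicit false
set_option linter.style.haveILetI false
set_option backward.isDefEq.respectTransparency false

universe u v

open CategoryTheory CategoryTheory.Limits AlgebraicGeometry Opposite TensorProduct
open AlgSp

namespace Groth.Agent.SpQC61

variable {S : Scheme.{u}} {X : Sp S} {E : EtOver X} {o : Over E} {N : Type v} [AddCommGroup N]
  [Module (Γt o.left) N]

/-- A finite affine covering family. -/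
def IsAffCover {ι : Type} {o' : Over E} {V : ι → Over E} (v : ∀ k, V k ⟶ o') : Prop :=
  (∀ k, Aff (V k).left) ∧ ∀ x : ↥o'.left.obj.left.left, ∃ k, x ∈ Set.range (v k).left.hom.left.left

theorem eq_zero_of_tenMap {o' : Over E} [Aff o'.left] (g : o' ⟶ o) {ι : Type} {V : ι → Over E}
    (v : ∀ k, V k ⟶ o') (hv : IsAffCover v) (x : Ten N g)
    (hx : ∀ k, tenMap (v k) (rfl : v k ≫ g = v k ≫ g) x = 0) : x = 0 := by
  haveI := hv.1
  letI : Algebra (Γt o.left) (Γt o'.left) := (cmap g.left).toAlgebra
  letI : ∀ k, Algebra (Γt o'.left) (Γt (V k).left) := fun k => (cmap (v k).left).toAlgebra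
  letI : ∀ k, Algebra (Γt o.left) (Γt (V k).left) := fun k => (cmap (v k ≫ g).left).toAlgebra
  haveI : ∀ k, IsScalarTower (Γt o.left) (Γt o'.left) (Γt (V k).left) := fun k =>
    IsScalarTower.of_algebraMap_eq' (cmap_comp (v k).left g.left)
  haveI : ∀ k, Module.Flat (Γt o'.left) (Γt (V k).left) := fun k => flat_cmap (v k).left
  refine eq_zero_of_forall_rTensor (fun k => Γt (V k).left)
    (exists_prime_preimage (fun k => (v k).left) hv.2) x fun k => ?_
  refine Eq.trans ?_ (hx k)
  clear hx
  induction x using ten_induction with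
  | h0 => rw [map_zero, map_zero]
  | ht a n => rfl
  | ha x y hx hy => rw [map_add, map_add, hx, hy]

variable (F : ModOver E) (h : N →+ Sect F o) (hh : ∀ (a : Γt o.left) (n : N), h (a • n) = a • h n)

/-- The map from the base changed module to sections is locally surjective. -/
def LocS : Prop :=
  ∀ (o' : Over E) (g : o' ⟶ o), Aff o'.left → ∀ s : Sect F o', ∃ (m : ℕ) (V : Fin m → Over E)
    (v : ∀ k, V k ⟶ o'), IsAffCover v ∧
      ∀ k, res F (v k) s ∈ Submodule.span (Γt (V k).left) (Set.range fun n => res F (v k ≫ g) (h n))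

/-- The map from the base changed module to sections is locally injective. -/
def LocI : Prop :=
  ∀ (o' : Over E) (g : o' ⟶ o), Aff o'.left → ∀ x : Ten N g, bc F h hh g x = 0 →
    ∃ (m : ℕ) (V : Fin m → Over E) (v : ∀ k, V k ⟶ o'), IsAffCover v ∧
      ∀ k, tenMap (v k) (rfl : v k ≫ g = v k ≫ g) x = 0

theorem bc_injective (hI : LocI F h hh) {o' : Over E} (g : o' ⟶ o) (ha : Aff o'.left) :
    Function.Injective (bc F h hh g) := by
  haveI := ha
  refine (injective_iff_map_eq_zero _).2 fun x hx => ?_
  obtain ⟨m, V, v, hv, hz⟩ := hI o' g ha x hx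
  exact eq_zero_of_tenMap g v hv x hz

theorem bc_surjective (hS : LocS F h) (hI : LocI F h hh) {o' : Over E} (g : o' ⟶ o) (ha : Aff o'.left) :
    Function.Surjective (bc F h hh g) := fun s => by
  haveI := ha
  obtain ⟨m, V, v, hv, hs⟩ := hS o' g ha s
  haveI := hv.1
  choose y hy using fun k => mem_range_bc_of_mem_span F h hh (v k ≫ g) (hs k)
  let P : Fin m → Fin m → Over E := fun k l => pbO (v k) (v l)
  haveI hP : ∀ k l, Aff (P k l).left := fun k l => aff_pullback (v k).left (v l).left
  let p : ∀ k l, P k l ⟶ o' := fun k l => pbFst (v k) (v l) ≫ v k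
  let gp : ∀ k l, P k l ⟶ o := fun k l => p k l ≫ g
  letI : Algebra (Γt o.left) (Γt o'.left) := (cmap g.left).toAlgebra
  letI : ∀ k, Algebra (Γt o'.left) (Γt (V k).left) := fun k => (cmap (v k).left).toAlgebra
  letI : ∀ k, Algebra (Γt o.left) (Γt (V k).left) := fun k => (cmap (v k ≫ g).left).toAlgebra
  letI : ∀ k l, Algebra (Γt o'.left) (Γt (P k l).left) := fun k l => (cmap (p k l).left).toAlgebra
  letI : ∀ k l, Algebra (Γt o.left) (Γt (P k l).left) := fun k l => (cmap (gp k l).left).toAlgebra
  haveI : ∀ k, IsScalarTower (Γt o.left) (Γt o'.left) (Γt (V k).left) := fun k =>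
    IsScalarTower.of_algebraMap_eq' (cmap_comp (v k).left g.left)
  haveI : ∀ k l, IsScalarTower (Γt o.left) (Γt o'.left) (Γt (P k l).left) := fun k l =>
    IsScalarTower.of_algebraMap_eq' (cmap_comp (p k l).left g.left)
  haveI : ∀ k, Module.Flat (Γt o'.left) (Γt (V k).left) := fun k => flat_cmap (v k).left
  let j₁ : ∀ k l, Γt (V k).left →ₐ[Γt o'.left] Γt (P k l).left := fun k l =>
    { cmap (pbFst (v k) (v l)).left with
      commutes' := fun a => (RingHom.congr_fun (cmap_comp (pbFst (v k) (v l)).left (v k).left) a).symm }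
  let j₂ : ∀ k l, Γt (V l).left →ₐ[Γt o'.left] Γt (P k l).left := fun k l =>
    { cmap (pbSnd (v k) (v l)).left with
      commutes' := fun a => by
        show cmap (pbSnd (v k) (v l)).left (cmap (v l).left a) = cmap (p k l).left a
        rw [show p k l = pbSnd (v k) (v l) ≫ v l from pb_condition _ _]
        exact (RingHom.congr_fun (cmap_comp (pbSnd (v k) (v l)).left (v l).left) a).symm }
  have hlift : ∀ k l, Function.Bijective
      (Algebra.TensorProduct.lift (j₁ k l) (j₂ k l) fun _ _ => Commute.all _ _) := fun k l => by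
    letI : Algebra (Γt (V k).left) (Γt (P k l).left) := (j₁ k l).toRingHom.toAlgebra
    letI : Algebra (Γt (V l).left) (Γt (P k l).left) := (j₂ k l).toRingHom.toAlgebra
    haveI : IsScalarTower (Γt o'.left) (Γt (V k).left) (Γt (P k l).left) :=
      IsScalarTower.of_algebraMap_eq' (j₁ k l).comp_algebraMap.symm
    haveI : IsScalarTower (Γt o'.left) (Γt (V l).left) (Γt (P k l).left) :=
      IsScalarTower.of_algebraMap_eq' (j₂ k l).comp_algebraMap.symm
    haveI : Algebra.IsPushout (Γt o'.left) (Γt (V k).left) (Γt (V l).left) (Γt (P k l).left) :=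
      CommRingCat.isPushout_iff_isPushout.1 (isPushout_cmap (v k).left (v l).left)
    have e : ∀ z, Algebra.TensorProduct.lift (j₁ k l) (j₂ k l) (fun _ _ => Commute.all _ _) z =
        Algebra.IsPushout.equiv (Γt o'.left) (Γt (V k).left) (Γt (V l).left) (Γt (P k l).left) z := fun z => by
      induction z using TensorProduct.induction_on with
      | zero => simp
      | tmul a b => rw [Algebra.TensorProduct.lift_tmul, Algebra.IsPushout.equiv_tmul]; rfl
      | add a b ha hb => rw [map_add, map_add, ha, hb]
    rw [funext e]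
    exact (Algebra.IsPushout.equiv _ _ _ _).bijective
  have h₁ : ∀ k l, ∀ z : Ten N (v k ≫ g),
      ((j₁ k l).restrictScalars (Γt o.left)).toLinearMap.rTensor N z =
        tenMap (pbFst (v k) (v l)) (Category.assoc _ _ _).symm z := fun k l z => by
    induction z using ten_induction with
    | h0 => simp
    | ht a n => rfl
    | ha a b ha hb => simp only [map_add, ha, hb]
  have h₂ : ∀ k l, ∀ z : Ten N (v l ≫ g),
      ((j₂ k l).restrictScalars (Γt o.left)).toLinearMap.rTensor N z =
        tenMap (g'' := gp k l) (pbSnd (v k) (v l))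
          (by rw [← Category.assoc, ← pb_condition]) z := fun k l z => by
    induction z using ten_induction with
    | h0 => simp
    | ht a n => rfl
    | ha a b ha hb => simp only [map_add, ha, hb]
  obtain ⟨x, hx⟩ := exists_descend_rTensor (fun k => Γt (V k).left) (fun k l => Γt (P k l).left)
    (exists_prime_preimage (fun k => (v k).left) hv.2) j₁ j₂ hlift y fun k l => by
      rw [h₁, h₂]
      refine bc_injective F h hh hI (gp k l) (hP k l) ?_
      rw [bc_tenMap, bc_tenMap, hy, hy, ← res_comp, ← res_comp]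
      exact congrArg (fun a => res F a s) (pb_condition _ _)
  refine ⟨x, eq_of_cover F v hv.2 fun k => ?_⟩
  rw [← bc_tenMap F h hh (v k) (rfl : v k ≫ g = v k ≫ g), ← hy k]
  refine congrArg _ ?_
  rw [← hx k]
  clear hx
  induction x using ten_induction with
  | h0 => simp
  | ht a n => rfl
  | ha a b ha hb => rw [map_add, map_add, ha, hb]

theorem bc_bijective (hS : LocS F h) (hI : LocI F h hh) {o' : Over E} (g : o' ⟶ o) (ha : Aff o'.left) :
    Function.Bijective (bc F h hh g) :=
  ⟨bc_injective F h hh hI g ha, bc_surjective F h hh hS hI g ha⟩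

end Groth.Agent.SpQC61
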