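import Groth.Agent.SpQC61.Good

/-!
Sections of quasi-coherent modules on the small etale site over affine objects are base change.
-/

set_option autoImplicit false
set_option linter.style.haveILetI false
set_option backward.isDefEq.respectTransparency false

universe u

open CategoryTheory CategoryTheory.Limits AlgebraicGeometry Opposite
open AlgSp

namespace Groth.Agent.SpQC61

variable {S : Scheme.{u}} {X : Sp S} (M : ModEt X)

section Cover

variable {ι : Type} {E : EtOver X} {V : ι → EtOver X} (g : ∀ k, V k ⟶ E)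
  (hsurj : ∀ x : ↥E.obj.left.left, ∃ k, x ∈ Set.range (g k).hom.left.left)
include hsurj

theorem resM_eq_of_cover {x y : SectM M E} (h : ∀ k, resM M (g k) x = resM M (g k) y) : x = y :=
  eq_of_cover (M.over E) (o := Over.mk (𝟙 E)) (V := fun k => Over.mk (g k))
    (fun k => Over.homMk (g k) (Category.comp_id _)) hsurj h

theorem resM_exists_glue (x : ∀ k, SectM M (V k))
    (hx : ∀ k l, resM M (EtOver.pullbackFst (g k) (g l)) (x k) = resM M (EtOver.pullbackSnd (g k) (g l)) (x l)) :
    ∃ y : SectM M E, ∀ k, resM M (g k) y = x k :=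
  exists_glue_pb (M.over E) (o := Over.mk (𝟙 E)) (V := fun k => Over.mk (g k))
    (fun k => Over.homMk (g k) (Category.comp_id _)) hsurj x hx

end Cover

theorem piRight_lTensor {A B N : Type*} [CommRing A] [AddCommGroup B] [Module A B] [AddCommGroup N] [Module A N]
    {κ : Type*} [Fintype κ] [DecidableEq κ] {P : κ → Type*} [∀ p, AddCommGroup (P p)] [∀ p, Module A (P p)]
    (f : ∀ p, N →ₗ[A] P p) (z : TensorProduct A B N) (p : κ) :
    TensorProduct.piRight A A B P ((LinearMap.pi f).lTensor B z) p = (f p).lTensor B z := by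
  induction z using TensorProduct.induction_on with
  | zero => simp
  | tmul b n => simp
  | add a b ha hb => rw [map_add, map_add, Pi.add_apply, ha, hb, map_add]

theorem phiM_natural {E E₁ E₂ E₂' : EtOver X} (g₁ : E₁ ⟶ E) (g₂ : E₂ ⟶ E) (g₂' : E₂' ⟶ E) (h : E₂' ⟶ E₂)
    (u : EtOver.pullbackObj g₁ g₂' ⟶ EtOver.pullbackObj g₁ g₂)
    (hu₁ : u ≫ EtOver.pullbackFst g₁ g₂ = EtOver.pullbackFst g₁ g₂')
    (hu₂ : u ≫ EtOver.pullbackSnd g₁ g₂ = EtOver.pullbackSnd g₁ g₂' ≫ h) :
    letI := (cmap g₁).toAlgebra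
    letI := Module.compHom (SectM M E₂) (cmap g₂)
    letI := Module.compHom (SectM M E₂') (cmap g₂')
    ∀ (f : SectM M E₂ →ₗ[Γt E] SectM M E₂') (_ : ∀ x, f x = resM M h x)
      (z : TensorProduct (Γt E) (Γt E₁) (SectM M E₂)),
      phiM M g₁ g₂' (f.lTensor (Γt E₁) z) = resM M u (phiM M g₁ g₂ z) := by
  letI := (cmap g₁).toAlgebra
  letI := Module.compHom (SectM M E₂) (cmap g₂)
  letI := Module.compHom (SectM M E₂') (cmap g₂')
  intro f hf z
  induction z using TensorProduct.induction_on with
  | zero => rw [map_zero, map_zero]; exact (map_zero _).symm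
  | tmul b m =>
    rw [LinearMap.lTensor_tmul, hf]
    show cmap (EtOver.pullbackFst g₁ g₂') b • resM M (EtOver.pullbackSnd g₁ g₂') (resM M h m) =
      resM M u (cmap (EtOver.pullbackFst g₁ g₂) b • resM M (EtOver.pullbackSnd g₁ g₂) m)
    rw [resM_smul, ← resM_comp, ← resM_comp, hu₂, ← RingHom.comp_apply, ← cmap_comp, hu₁]
  | add a b ha hb => rw [map_add, map_add, ha, hb, map_add, map_add]

theorem bcM_bijective_of_cover {m : ℕ} {E : EtOver X} [Aff E] {V : Fin m → EtOver X} (g : ∀ k, V k ⟶ E)
    (hV : ∀ k, Aff (V k)) (hsurj : ∀ x : ↥E.obj.left.left, ∃ k, x ∈ Set.range (g k).hom.left.left)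
    (hgood : ∀ k, GoodM M (V k)) (k : Fin m) : Function.Bijective (bcM M (g k)) := by
  haveI := hV
  classical
  let P : Fin m × Fin m → EtOver X := fun p => EtOver.pullbackObj (g p.1) (g p.2)
  let gp : ∀ p, P p ⟶ E := fun p => EtOver.pullbackFst (g p.1) (g p.2) ≫ g p.1
  haveI hP : ∀ p, Aff (P p) := fun p => aff_pullback (g p.1) (g p.2)
  letI := (cmap (g k)).toAlgebra
  letI : ∀ l, Module (Γt E) (SectM M (V l)) := fun l => Module.compHom _ (cmap (g l))
  letI : ∀ p, Module (Γt E) (SectM M (P p)) := fun p => Module.compHom _ (cmap (gp p))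
  haveI : Module.Flat (Γt E) (Γt (V k)) := flat_cmap (g k)
  let r : ∀ l, SectM M E →ₗ[Γt E] SectM M (V l) := fun l =>
    { toFun := resM M (g l), map_add' := map_add _, map_smul' := resM_smul M (g l) }
  let rf : ∀ p : Fin m × Fin m, SectM M (V p.1) →ₗ[Γt E] SectM M (P p) := fun p =>
    { toFun := resM M (EtOver.pullbackFst (g p.1) (g p.2))
      map_add' := map_add _
      map_smul' := fun a x => by
        show resM M (EtOver.pullbackFst (g p.1) (g p.2)) (cmap (g p.1) a • x) = cmap (gp p) a • _
        rw [resM_smul, ← RingHom.comp_apply, ← cmap_comp]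
        }
  let rs : ∀ p : Fin m × Fin m, SectM M (V p.2) →ₗ[Γt E] SectM M (P p) := fun p =>
    { toFun := resM M (EtOver.pullbackSnd (g p.1) (g p.2))
      map_add' := map_add _
      map_smul' := fun a x => by
        show resM M (EtOver.pullbackSnd (g p.1) (g p.2)) (cmap (g p.2) a • x) = cmap (gp p) a • _
        rw [resM_smul, ← RingHom.comp_apply, ← cmap_comp, ← EtOver.pullback_condition]
        }
  let d0 : SectM M E →ₗ[Γt E] ∀ l, SectM M (V l) := LinearMap.pi r
  let d1 : (∀ l, SectM M (V l)) →ₗ[Γt E] ∀ p, SectM M (P p) :=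
    LinearMap.pi fun p => (rf p).comp (LinearMap.proj p.1) - (rs p).comp (LinearMap.proj p.2)
  have hd0 : Function.Injective d0 := fun x y e => resM_eq_of_cover M g hsurj fun l => congrFun e l
  have hex : Function.Exact d0 d1 := fun x => by
    constructor
    · intro hx
      obtain ⟨y, hy⟩ := resM_exists_glue M g hsurj x fun l n => sub_eq_zero.1 (congrFun hx (l, n))
      exact ⟨y, funext hy⟩
    · rintro ⟨y, rfl⟩
      refine funext fun p => sub_eq_zero.2 ?_
      show resM M (EtOver.pullbackFst _ _) (resM M (g p.1) y) = resM M (EtOver.pullbackSnd _ _) (resM M (g p.2) y)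
      rw [← resM_comp, ← resM_comp, EtOver.pullback_condition]
  have hphi : ∀ (l : Fin m) (z : TensorProduct (Γt E) (Γt (V k)) (SectM M E)),
      phiM M (g k) (g l) ((r l).lTensor (Γt (V k)) z) =
        resM M (EtOver.pullbackFst (g k) (g l)) (bcM M (g k) z) := fun l z => by
    induction z using TensorProduct.induction_on with
    | zero => rw [map_zero, map_zero]; exact ((congrArg _ (map_zero (bcM M (g k)))).trans (map_zero _)).symm
    | tmul b n =>
      show cmap (EtOver.pullbackFst (g k) (g l)) b • resM M (EtOver.pullbackSnd (g k) (g l)) (resM M (g l) n) =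
        resM M (EtOver.pullbackFst (g k) (g l)) (b • resM M (g k) n)
      rw [resM_smul, ← resM_comp, ← resM_comp, EtOver.pullback_condition]
    | add a b ha hb =>
      rw [map_add, map_add, ha, hb, ← map_add]
      exact (congrArg _ (map_add (bcM M (g k)) a b)).symm
  refine ⟨(injective_iff_map_eq_zero _).2 fun z hz => ?_, fun x => ?_⟩
  · refine Module.Flat.lTensor_preserves_injective_linearMap (M := Γt (V k)) d0 hd0 ?_
    rw [map_zero]
    refine (TensorProduct.piRight (Γt E) (Γt E) (Γt (V k)) fun l => SectM M (V l)).injective (funext fun l => ?_)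
    rw [piRight_lTensor, map_zero]
    refine (phiM_bijective M (g k) (g l) (hgood l)).1 ?_
    rw [hphi, hz, map_zero]
    exact (map_zero _).symm
  · choose w hw using fun l => (phiM_bijective M (g k) (g l) (hgood l)).2 (resM M (EtOver.pullbackFst _ _) x)
    let W := (TensorProduct.piRight (Γt E) (Γt E) (Γt (V k)) fun l => SectM M (V l)).symm w
    have hW : ∀ l, (LinearMap.proj (φ := fun l => SectM M (V l)) (R := Γt E) l).lTensor (Γt (V k)) W = w l := fun l => by
      have h1 := piRight_lTensor (fun l => LinearMap.proj (φ := fun l => SectM M (V l)) (R := Γt E) l) W l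
      rw [LinearMap.pi_proj, LinearMap.lTensor_id, LinearMap.id_apply] at h1
      exact h1.symm.trans (congrFun (LinearEquiv.apply_symm_apply _ w) l)
    have hd1 : d1.lTensor (Γt (V k)) W = 0 := by
      refine (TensorProduct.piRight (Γt E) (Γt E) (Γt (V k)) fun p => SectM M (P p)).injective (funext fun p => ?_)
      rw [piRight_lTensor, map_zero, LinearMap.lTensor_sub, LinearMap.sub_apply]
      refine sub_eq_zero.2 ?_
      rw [LinearMap.lTensor_comp, LinearMap.lTensor_comp, LinearMap.comp_apply, LinearMap.comp_apply, hW, hW]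
      refine (phiM_bijective M (g k) (gp p) ((hgood p.1).of_hom M (EtOver.pullbackFst _ _))).1 ?_
      obtain ⟨u, hu₁, hu₂⟩ := PullbackCone.IsLimit.lift' (EtOver.pullbackIsLimit (g k) (g p.1))
        (EtOver.pullbackFst (g k) (gp p)) (EtOver.pullbackSnd (g k) (gp p) ≫ EtOver.pullbackFst (g p.1) (g p.2))
        (by rw [EtOver.pullback_condition, Category.assoc])
      obtain ⟨u', hu₁', hu₂'⟩ := PullbackCone.IsLimit.lift' (EtOver.pullbackIsLimit (g k) (g p.2))
        (EtOver.pullbackFst (g k) (gp p)) (EtOver.pullbackSnd (g k) (gp p) ≫ EtOver.pullbackSnd (g p.1) (g p.2))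
        (by rw [EtOver.pullback_condition, Category.assoc, ← EtOver.pullback_condition (g p.1) (g p.2)])
      refine (phiM_natural M (g k) (g p.1) (gp p) _ u hu₁ hu₂ (rf p) (fun _ => rfl) (w p.1)).trans
        (Eq.trans ?_ (phiM_natural M (g k) (g p.2) (gp p) _ u' hu₁' hu₂' (rs p) (fun _ => rfl) (w p.2)).symm)
      rw [hw, hw, ← resM_comp, ← resM_comp]
      exact (congrArg (fun a => resM M a x) hu₁).trans (congrArg (fun a => resM M a x) hu₁').symm
    obtain ⟨z, hz⟩ := (Module.Flat.lTensor_exact (M := Γt (V k)) hex W).1 hd1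
    refine ⟨z, resM_eq_of_cover M (fun l => EtOver.pullbackFst (g k) (g l)) (fun v => ?_) fun l => ?_⟩
    · obtain ⟨l, v', hv'⟩ := hsurj ((g k).hom.left.left v)
      obtain ⟨y, hy, -⟩ := exists_pullback_pt (g k) (g l) v v' hv'.symm
      exact ⟨l, y, hy⟩
    · rw [← hphi, ← hw l, ← hW l, ← hz, ← LinearMap.comp_apply, ← LinearMap.lTensor_comp]
      rfl

theorem goodM_of_cover {m : ℕ} {E : EtOver X} [Aff E] {V : Fin m → EtOver X} (g : ∀ k, V k ⟶ E)
    (hV : ∀ k, Aff (V k)) (hsurj : ∀ x : ↥E.obj.left.left, ∃ k, x ∈ Set.range (g k).hom.left.left)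
    (hgood : ∀ k, GoodM M (V k)) : GoodM M E := fun E' g' ha => by
  haveI := hV
  let o : Over E := Over.mk (𝟙 E)
  let Vo : Fin m → Over E := fun k => Over.mk (g k)
  let go : ∀ k, Vo k ⟶ o := fun k => Over.homMk (g k) (Category.comp_id _)
  have hbij : ∀ (o' : Over E) (a : o' ⟶ o), Aff o'.left → ∀ k,
      Aff (pbO a (go k)).left ∧
        Function.Bijective (bc (M.over E) (AddMonoidHom.id (Sect (M.over E) o)) (fun _ _ => rfl)
          (pbFst a (go k) ≫ a)) := fun o' a ha' k => by
    haveI := ha'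
    haveI : Aff o.left := ‹Aff E›
    haveI : Aff (Vo k).left := hV k
    have hW : Aff (pbO a (go k)).left := aff_pullback a.left (g k)
    refine ⟨hW, ?_⟩
    have h := bcM_comp_bijective M (g k) (EtOver.pullbackSnd a.left (g k))
      (bcM_bijective_of_cover M g hV hsurj hgood k) (hgood k _ _ hW)
    rw [← EtOver.pullback_condition] at h
    exact h
  have hcov : ∀ (o' : Over E) (a : o' ⟶ o), ∀ x : ↥o'.left.obj.left.left,
      ∃ k, x ∈ Set.range (pbFst a (go k)).left.hom.left.left := fun o' a x => by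
    obtain ⟨k, v, hv⟩ := hsurj (a.left.hom.left.left x)
    obtain ⟨y, hy, -⟩ := exists_pullback_pt a.left (g k) x v hv.symm
    exact ⟨k, y, hy⟩
  refine bc_bijective (M.over E) (AddMonoidHom.id (Sect (M.over E) o)) (fun _ _ => rfl)
    (fun o' a ha' s => ?_) (fun o' a ha' x hx => ?_) (Over.homMk g' (Category.comp_id _) : Over.mk g' ⟶ o) ha
  · refine ⟨m, _, fun k => pbFst a (go k), ⟨fun k => (hbij o' a ha' k).1, hcov o' a⟩, fun k => ?_⟩
    obtain ⟨y, hy⟩ := (hbij o' a ha' k).2.2 (res (M.over E) (pbFst a (go k)) s)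
    rw [← hy]
    clear hy
    induction y using ten_induction with
    | h0 => rw [map_zero]; exact Submodule.zero_mem _
    | ht b n => rw [bc_tmk]; exact Submodule.smul_mem _ b (Submodule.subset_span ⟨n, rfl⟩)
    | ha p q hp hq => rw [map_add]; exact Submodule.add_mem _ hp hq
  · refine ⟨m, _, fun k => pbFst a (go k), ⟨fun k => (hbij o' a ha' k).1, hcov o' a⟩, fun k => ?_⟩
    refine (hbij o' a ha' k).2.1 ?_
    rw [bc_tenMap, hx, map_zero, map_zero]

/-- Sections of a quasi-coherent module over affine objects are base change. -/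
theorem goodM_of_isQuasicoherent [M.IsQuasicoherent] (E : EtOver X) [Aff E] : GoodM M E := by
  obtain ⟨⟨q⟩⟩ := (inferInstance : M.IsQuasicoherent)
  obtain ⟨m, V, g, hV, hg, hs⟩ := exists_finite_affine_cover (q.coversTop E)
  refine goodM_of_cover M g hV hs fun k => ?_
  haveI := hV k
  obtain ⟨i, ⟨f⟩⟩ := hg k
  exact goodM_of_presentation M (q.presentation i) f

/-- The base change map is bijective. -/
theorem bcM_bijective [M.IsQuasicoherent] {E' E : EtOver X} (g : E' ⟶ E) [Aff E] [Aff E'] :
    Function.Bijective (bcM M g) :=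
  goodM_of_isQuasicoherent M E E' g ‹_›

end Groth.Agent.SpQC61
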