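import Groth.Agent.SpQC61.Local
import Groth.Agent.SpQC61.GenLocal

/-!
Presented modules on a slice: sections over affine objects are base change.
-/

set_option autoImplicit false
set_option linter.style.haveILetI false
set_option backward.isDefEq.respectTransparency false

universe u v

open CategoryTheory CategoryTheory.Limits AlgebraicGeometry Opposite
open AlgSp

namespace Groth.Agent.SpQC61

variable {S : Scheme.{u}} {X : Sp S} {E : EtOver X}

theorem exists_cover_of_mem {o : Over E} [Aff o.left] {R : Sieve o} (hR : R ∈ (etTop X).over E o) :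
    ∃ (m : ℕ) (V : Fin m → Over E) (v : ∀ k, V k ⟶ o), IsAffCover v ∧ ∀ k, R (v k) := by
  obtain ⟨m, V, g, hV, hg, hs⟩ :=
    exists_finite_affine_cover ((GrothendieckTopology.mem_over_iff (etTop X) R).1 hR)
  exact ⟨m, fun k => Over.mk (g k ≫ o.hom), fun k => Over.homMk (g k) rfl, ⟨hV, hs⟩,
    fun k => (Sieve.overEquiv_iff _ _).1 (hg k)⟩

theorem isAffCover_id {o : Over E} [ha : Aff o.left] : IsAffCover (fun _ : Fin 1 => 𝟙 o) :=
  ⟨fun _ => ha, fun x => ⟨0, x, rfl⟩⟩

variable (F : ModOver E) {I : Type (u + 1)} (s : I → F.sections)

/-- The value of a section. -/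
noncomputable def sectAt (i : I) (o : Over E) : Sect F o := (s i).eval (op o)

theorem res_sectAt (i : I) {o' o : Over E} (g : o' ⟶ o) : res F g (sectAt F s i o) = sectAt F s i o' :=
  (s i).property g.op

theorem mem_span_of_mem_spanAt {o : Over E} {x : Sect F o}
    (hx : (x : F.val.obj (op o)) ∈ spanAt s o) :
    x ∈ Submodule.span (Γt o.left) (Set.range fun i => sectAt F s i o) := by
  induction hx using Submodule.span_induction with
  | mem z hz => obtain ⟨i, rfl⟩ := hz; exact Submodule.subset_span ⟨i, rfl⟩
  | zero => exact Submodule.zero_mem _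
  | add a b _ _ ha hb => exact Submodule.add_mem _ ha hb
  | smul r a _ ha =>
    exact Submodule.smul_mem (Submodule.span (Γt o.left) _)
      ((ULift.ringEquiv (R := Γt o.left)) r) ha

/-- Sections are locally combinations of generators. -/
theorem exists_cover_span [Epi (F.freeHomEquiv.symm s)] {o : Over E} [Aff o.left] (x : Sect F o) :
    ∃ (m : ℕ) (V : Fin m → Over E) (v : ∀ k, V k ⟶ o), IsAffCover v ∧
      ∀ k, res F (v k) x ∈ Submodule.span (Γt (V k).left) (Set.range fun i => sectAt F s i (V k)) := by
  obtain ⟨m, V, v, hv, hvs⟩ := exists_cover_of_mem (exists_mem_spanAt_of_epi s x)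
  exact ⟨m, V, v, hv, fun k => mem_span_of_mem_spanAt F s (hvs k)⟩

section Comb

variable {F}

/-- Combinations of sections. -/
noncomputable def comb (o : Over E) : (I →₀ Γt o.left) →ₗ[Γt o.left] Sect F o :=
  Finsupp.linearCombination _ fun i => sectAt F s i o

/-- Restriction of coefficients. -/
noncomputable def resC {o' o : Over E} (v : o' ⟶ o) : (I →₀ Γt o.left) →+ (I →₀ Γt o'.left) :=
  Finsupp.mapRange.addMonoidHom (cmap v.left).toAddMonoidHom

theorem resC_single {o' o : Over E} (v : o' ⟶ o) (i : I) (a : Γt o.left) :
    resC (I := I) v (Finsupp.single i a) = Finsupp.single i (cmap v.left a) :=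
  Finsupp.mapRange_single (hf := map_zero (cmap v.left))

theorem res_comb {o' o : Over E} (v : o' ⟶ o) (c : I →₀ Γt o.left) :
    res F v (comb s o c) = comb s o' (resC v c) := by
  induction c using Finsupp.induction_linear with
  | zero => rw [map_zero, map_zero, map_zero, map_zero]
  | add a b ha hb => rw [map_add, map_add, map_add, map_add, ha, hb]
  | single i a =>
    rw [resC_single, comb, comb, Finsupp.linearCombination_single, Finsupp.linearCombination_single,
      res_smul, res_sectAt]

theorem exists_comb_of_mem_span {o : Over E} {x : Sect F o}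
    (hx : x ∈ Submodule.span (Γt o.left) (Set.range fun i => sectAt F s i o)) : ∃ c, comb s o c = x := by
  rwa [← Finsupp.range_linearCombination] at hx

end Comb

section Free

variable (E) (I)

/-- The free module on the slice. -/
noncomputable abbrev freeOver : ModOver E := SheafOfModules.free (R := (OEtRing X).over E) I

/-- Its tautological sections. -/
noncomputable abbrev tauS : I → (freeOver E I).sections := fun i => SheafOfModules.freeSection i

variable {E I}

theorem comb_tau_injective (o : Over E) : Function.Injective (comb (tauS E I) o) := by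
  refine (injective_iff_map_eq_zero _).2 fun c hc => ?_
  have h : Finsupp.mapRange (upΓ o.left) (map_zero _) c =
      (0 : I →₀ ((OEtRing X).over E).obj.obj (op o)) := by
    refine free_coeff_eq_zero (R := (OEtRing X).over E) _ ?_
    refine Eq.trans (Finsupp.sum_mapRange_index fun i => ?_) hc
    exact zero_smul _ _
  refine Finsupp.ext fun i => ?_
  exact congrArg ULift.down (DFunLike.congr_fun h i)

instance : Epi ((freeOver E I).freeHomEquiv.symm (tauS E I)) := by
  have : (freeOver E I).freeHomEquiv.symm (tauS E I) = 𝟙 _ :=
    (Equiv.symm_apply_eq _).2 rfl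
  rw [this]
  infer_instance

theorem comb_tau_surjective (o : Over E) [ha : Aff o.left] : Function.Surjective (comb (tauS E I) o) := by
  let F := freeOver E I
  let h : (I →₀ Γt o.left) →+ Sect F o := (comb (tauS E I) o).toAddMonoidHom
  have hh : ∀ (a : Γt o.left) n, h (a • n) = a • h n := fun a n => map_smul (comb (tauS E I) o) a n
  have hS : LocS F h := fun o' g ha' x => by
    obtain ⟨m, V, v, hv, hvs⟩ := exists_cover_span F (tauS E I) x
    refine ⟨m, V, v, hv, fun k => Submodule.span_le.2 ?_ (hvs k)⟩
    rintro _ ⟨i, rfl⟩
    refine Submodule.subset_span ⟨Finsupp.single i 1, ?_⟩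
    show res F (v k ≫ g) (comb (tauS E I) o (Finsupp.single i 1)) = _
    rw [comb, Finsupp.linearCombination_single, one_smul, res_sectAt]
  have hI : LocI F h hh := fun o' g ha' x hx => by
    suffices x = 0 by
      subst this
      exact ⟨1, fun _ => o', fun _ => 𝟙 o', isAffCover_id, fun _ => map_zero _⟩
    letI := (cmap g.left).toAlgebra
    let Θ : (I →₀ Γt o'.left) →+ Ten (I →₀ Γt o.left) g := Finsupp.liftAddHom fun i =>
      AddMonoidHom.mk' (fun a => tmk g a (Finsupp.single i (1 : Γt o.left))) fun a b =>
        TensorProduct.add_tmul _ _ _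
    have hΘ : ∀ c, bc F h hh g (Θ c) = comb (tauS E I) o' c := fun c => by
      induction c using Finsupp.induction_linear with
      | zero => rw [map_zero, map_zero, map_zero]
      | add a b ha hb => rw [map_add, map_add, map_add, ha, hb]
      | single i a =>
        rw [Finsupp.liftAddHom_apply_single]
        show a • res F g (comb (tauS E I) o (Finsupp.single i 1)) = _
        rw [comb, comb, Finsupp.linearCombination_single, Finsupp.linearCombination_single, one_smul,
          res_sectAt]
    obtain ⟨c, rfl⟩ : ∃ c, Θ c = x := by
      clear hx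
      induction x using ten_induction with
      | h0 => exact ⟨0, map_zero _⟩
      | ha x y hx hy =>
        obtain ⟨a, rfl⟩ := hx
        obtain ⟨b, rfl⟩ := hy
        exact ⟨a + b, map_add _ _ _⟩
      | ht a n =>
        induction n using Finsupp.induction_linear with
        | zero => exact ⟨0, (map_zero _).trans (TensorProduct.tmul_zero _ _).symm⟩
        | add p q hp hq =>
          obtain ⟨p', hp⟩ := hp
          obtain ⟨q', hq⟩ := hq
          exact ⟨p' + q', by rw [map_add, hp, hq]; exact (TensorProduct.tmul_add _ _ _).symm⟩
        | single i r =>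
          refine ⟨Finsupp.single i (cmap g.left r * a), ?_⟩
          rw [Finsupp.liftAddHom_apply_single]
          show TensorProduct.tmul (Γt o.left) (r • a) (Finsupp.single i (1 : Γt o.left)) =
            TensorProduct.tmul (Γt o.left) a (Finsupp.single i r)
          rw [TensorProduct.smul_tmul, Finsupp.smul_single, smul_eq_mul, mul_one]
    rw [hΘ] at hx
    rw [comb_tau_injective o' (hx.trans (map_zero _).symm), map_zero]
  intro x
  obtain ⟨y, rfl⟩ := bc_surjective F h hh hS hI (𝟙 o) ha x
  induction y using ten_induction with
  | h0 => exact ⟨0, by rw [map_zero, map_zero]⟩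
  | ht a n => exact ⟨a • n, by rw [bc_tmk, res_id]; exact map_smul (comb (tauS E I) o) a n⟩
  | ha p q hp hq =>
    obtain ⟨p', hp⟩ := hp
    obtain ⟨q', hq⟩ := hq
    exact ⟨p' + q', by rw [map_add, map_add, hp, hq]⟩

end Free

section Morphisms

/-- A morphism of modules on sections. -/
noncomputable def appS {F G : ModOver E} (φ : F ⟶ G) (o : Over E) : Sect F o →ₗ[Γt o.left] Sect G o where
  toFun x := (φ.val.app (op o) x : G.val.obj (op o))
  map_add' x y := map_add (φ.val.app (op o)).hom x y
  map_smul' r x := (φ.val.app (op o)).hom.map_smul (upΓ o.left r) x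

theorem appS_res {F G : ModOver E} (φ : F ⟶ G) {o' o : Over E} (v : o' ⟶ o) (x : Sect F o) :
    res G v (appS φ o x) = appS φ o' (res F v x) :=
  (PresheafOfModules.naturality_apply φ.val v.op x).symm

theorem appS_comb {F G : ModOver E} (φ : F ⟶ G) {J : Type (u + 1)} (t : J → F.sections) (o : Over E)
    (c : J →₀ Γt o.left) : appS φ o (comb t o c) = comb (fun j => SheafOfModules.sectionsMap φ (t j)) o c := by
  induction c using Finsupp.induction_linear with
  | zero => rw [map_zero, map_zero, map_zero]
  | add a b ha hb => rw [map_add, map_add, map_add, ha, hb]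
  | single i a =>
    rw [comb, comb, Finsupp.linearCombination_single, Finsupp.linearCombination_single, map_smul]
    rfl

theorem comb_of_single {F : ModOver E} {J J' : Type (u + 1)} (t : J → F.sections) (t' : J' → F.sections)
    (o : Over E) (e : (J' →₀ Γt o.left) →ₗ[Γt o.left] (J →₀ Γt o.left))
    (he : ∀ j r, comb t o (e (Finsupp.single j r)) = r • sectAt F t' j o) (b : J' →₀ Γt o.left) :
    comb t o (e b) = comb t' o b := by
  have : (comb t o).comp e = comb t' o := Finsupp.lhom_ext fun j r => by
    rw [LinearMap.comp_apply, he, comb, Finsupp.linearCombination_single]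
  exact LinearMap.congr_fun this b

theorem appS_zero {F G : ModOver E} (o : Over E) (x : Sect F o) : appS (0 : F ⟶ G) o x = 0 := rfl

end Morphisms

section Theta

variable {o : Over E} {N : Type v} [AddCommGroup N] [Module (Γt o.left) N] {J : Type (u + 1)} (ν : J → N)

/-- Combinations of chosen elements in a base change. -/
noncomputable def theta {p : Over E} (q : p ⟶ o) : (J →₀ Γt p.left) →+ Ten N q :=
  letI := (cmap q.left).toAlgebra
  Finsupp.liftAddHom fun i => AddMonoidHom.mk' (fun a => tmk q a (ν i)) fun _ _ => TensorProduct.add_tmul _ _ _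

theorem theta_single {p : Over E} (q : p ⟶ o) (i : J) (a : Γt p.left) :
    theta ν q (Finsupp.single i a) = tmk q a (ν i) :=
  Finsupp.liftAddHom_apply_single _ _ _

theorem tenMap_theta {p' p : Over E} (w : p' ⟶ p) (q : p ⟶ o) (c : J →₀ Γt p.left) :
    tenMap w (rfl : w ≫ q = w ≫ q) (theta ν q c) = theta ν (w ≫ q) (resC w c) := by
  induction c using Finsupp.induction_linear with
  | zero => rw [map_zero, map_zero, map_zero, map_zero]
  | add a b ha hb => rw [map_add, map_add, map_add, map_add, ha, hb]
  | single i a => rw [resC_single, theta_single, theta_single, tenMap_tmk]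

theorem theta_smul_eq_zero {p : Over E} (q : p ⟶ o) (r : Γt p.left) {c : J →₀ Γt p.left}
    (hc : theta ν q c = 0) : theta ν q (r • c) = 0 := by
  letI := (cmap q.left).toAlgebra
  have : ∀ f, theta ν q (r • f) = r • theta ν q f := fun f => by
    induction f using Finsupp.induction_linear with
    | zero => rw [smul_zero, map_zero, smul_zero]
    | add a b ha hb => rw [smul_add, map_add, map_add, ha, hb, smul_add]
    | single i a =>
      rw [Finsupp.smul_single, theta_single, theta_single]
      exact (TensorProduct.smul_tmul' r a (ν i)).symm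
  rw [this, hc, smul_zero]

theorem exists_theta (hspan : Submodule.span (Γt o.left) (Set.range ν) = ⊤) {p : Over E} (q : p ⟶ o)
    (x : Ten N q) : ∃ c, theta ν q c = x := by
  letI := (cmap q.left).toAlgebra
  induction x using ten_induction with
  | h0 => exact ⟨0, map_zero _⟩
  | ha x y hx hy =>
    obtain ⟨a, rfl⟩ := hx
    obtain ⟨b, rfl⟩ := hy
    exact ⟨a + b, map_add _ _ _⟩
  | ht a n =>
    have hn : n ∈ Submodule.span (Γt o.left) (Set.range ν) := by rw [hspan]; trivial
    induction hn using Submodule.span_induction generalizing a with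
    | mem z hz =>
      obtain ⟨i, rfl⟩ := hz
      exact ⟨Finsupp.single i a, theta_single _ _ _ _⟩
    | zero => exact ⟨0, (map_zero _).trans (TensorProduct.tmul_zero _ _).symm⟩
    | add p' q' _ _ hp hq =>
      obtain ⟨p'', hp⟩ := hp a
      obtain ⟨q'', hq⟩ := hq a
      exact ⟨p'' + q'', by rw [map_add, hp, hq]; exact (TensorProduct.tmul_add _ _ _).symm⟩
    | smul r z _ hz =>
      obtain ⟨z', hz'⟩ := hz (r • a)
      exact ⟨z', hz'.trans (TensorProduct.smul_tmul r a z)⟩

end Theta

section Presented

variable {F} (P : F.Presentation)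

/-- The relations as sections of the free module. -/
noncomputable def relS : P.relations.I → (freeOver E P.generators.I).sections := fun j =>
  SheafOfModules.sectionsMap (kernel.ι P.generators.π) (P.relations.s j)

theorem pi_comb (o : Over E) (c : P.generators.I →₀ Γt o.left) :
    appS P.generators.π o (comb (tauS E P.generators.I) o c) = comb P.generators.s o c := by
  rw [appS_comb]
  refine congrArg (fun t => comb t o c) (funext fun i => ?_)
  exact SheafOfModules.sectionsMap_freeHomEquiv_symm_freeSection P.generators.s i

theorem pi_relS (j : P.relations.I) (o : Over E) :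
    appS P.generators.π o (sectAt _ (relS P) j o) = 0 :=
  congrArg (fun φ : kernel P.generators.π ⟶ F => appS φ o (sectAt _ P.relations.s j o))
    (kernel.condition P.generators.π)

variable {o : Over E} {N : Type v} [AddCommGroup N] [Module (Γt o.left) N] (h : N →+ Sect F o)
  (hh : ∀ (a : Γt o.left) (n : N), h (a • n) = a • h n) (ν : P.generators.I → N)
  (hν : ∀ i, h (ν i) = sectAt F P.generators.s i o)

include hν in
theorem bc_theta {p : Over E} (q : p ⟶ o) (c : P.generators.I →₀ Γt p.left) :
    bc F h hh q (theta ν q c) = comb P.generators.s p c := by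
  induction c using Finsupp.induction_linear with
  | zero => rw [map_zero, map_zero, map_zero]
  | add a b ha hb => rw [map_add, map_add, map_add, ha, hb]
  | single i a => rw [theta_single, bc_tmk, hν, comb, Finsupp.linearCombination_single, res_sectAt]

include hh hν in
theorem theta_resC_eq_zero (hinj : Function.Injective h) {d : P.generators.I →₀ Γt o.left}
    (hd : comb P.generators.s o d = 0) {p : Over E} (q : p ⟶ o) : theta ν q (resC q d) = 0 := by
  letI := (cmap q.left).toAlgebra
  have key : ∀ e : P.generators.I →₀ Γt o.left, ∃ n, h n = comb P.generators.s o e ∧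
      theta ν q (resC q e) = tmk q 1 n := fun e => by
    induction e using Finsupp.induction_linear with
    | zero => exact ⟨0, by simp, by rw [map_zero, map_zero]; exact (TensorProduct.tmul_zero _ _).symm⟩
    | add a b ha hb =>
      obtain ⟨n₁, e₁, f₁⟩ := ha
      obtain ⟨n₂, e₂, f₂⟩ := hb
      exact ⟨n₁ + n₂, by rw [map_add, map_add, e₁, e₂],
        by rw [map_add, map_add, f₁, f₂]; exact (TensorProduct.tmul_add _ _ _).symm⟩
    | single i a =>
      refine ⟨a • ν i, by rw [hh, hν, comb, Finsupp.linearCombination_single], ?_⟩
      rw [resC_single, theta_single]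
      show TensorProduct.tmul (Γt o.left) (cmap q.left a) (ν i) = TensorProduct.tmul _ 1 (a • ν i)
      rw [← TensorProduct.smul_tmul]
      congr 1
      exact (mul_one _).symm
  obtain ⟨n, hn, hn'⟩ := key d
  rw [hn', hinj (hn.trans (hd.trans (map_zero h).symm))]
  exact TensorProduct.tmul_zero _ _

include hν in
/-- A module spanned by elements over the generators maps bijectively after any base change. -/
theorem bc_bijective_of_presentation [Aff o.left] (hinj : Function.Injective h)
    (hspan : Submodule.span (Γt o.left) (Set.range ν) = ⊤) {o' : Over E} (g : o' ⟶ o) (ha : Aff o'.left) :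
    Function.Bijective (bc F h hh g) := by
  refine bc_bijective F h hh (fun o'' g' ha' x => ?_) (fun o'' g' ha' x hx => ?_) g ha
  · haveI := ha'
    haveI : Epi (F.freeHomEquiv.symm P.generators.s) := P.generators.epi
    obtain ⟨m, V, v, hv, hvs⟩ := exists_cover_span F P.generators.s x
    refine ⟨m, V, v, hv, fun k => Submodule.span_le.2 ?_ (hvs k)⟩
    rintro _ ⟨i, rfl⟩
    exact Submodule.subset_span ⟨ν i, by
      show res F (v k ≫ g') (h (ν i)) = _
      rw [hν, res_sectAt]⟩
  · haveI := ha'
    obtain ⟨c, rfl⟩ := exists_theta ν hspan g' x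
    rw [bc_theta P h hh ν hν] at hx
    obtain ⟨y, hy⟩ := exists_kernel_preimage P.generators.π
      (comb (tauS E P.generators.I) o'' c : (freeOver E P.generators.I).val.obj (op o''))
      ((pi_comb P o'' c).trans hx)
    have hy' : appS (kernel.ι P.generators.π) o'' y = comb (tauS E P.generators.I) o'' c := hy
    haveI : Epi ((kernel P.generators.π).freeHomEquiv.symm P.relations.s) := P.relations.epi
    obtain ⟨m, V, v, hv, hvs⟩ := exists_cover_span (kernel P.generators.π) P.relations.s y
    refine ⟨m, V, v, hv, fun k => ?_⟩
    obtain ⟨b, hb⟩ := exists_comb_of_mem_span P.relations.s (hvs k)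
    choose d hd using fun j => comb_tau_surjective o (sectAt _ (relS P) j o)
    obtain ⟨e, he1⟩ : ∃ e : (P.relations.I →₀ Γt (V k).left) →ₗ[Γt (V k).left] (P.generators.I →₀ Γt (V k).left),
        ∀ j r, e (Finsupp.single j r) = r • resC (v k ≫ g') (d j) :=
      ⟨Finsupp.linearCombination (Γt (V k).left) fun j => resC (v k ≫ g') (d j),
        fun j r => Finsupp.linearCombination_single (Γt (V k).left) r j⟩
    have he : ∀ b' : P.relations.I →₀ Γt (V k).left,
        comb (tauS E P.generators.I) (V k) (e b') = comb (relS P) (V k) b' :=
      comb_of_single (tauS E P.generators.I) (relS P) (V k) e fun j r => by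
        rw [he1, LinearMap.map_smul, ← res_comb, hd, res_sectAt]
    have he0 : ∀ b' : P.relations.I →₀ Γt (V k).left, theta ν (v k ≫ g') (e b') = 0 := fun b' => by
      induction b' using Finsupp.induction_linear with
      | zero => rw [LinearMap.map_zero, map_zero]
      | add p q hp hq => rw [LinearMap.map_add, map_add, hp, hq, add_zero]
      | single j r =>
        rw [he1]
        refine theta_smul_eq_zero ν _ r (theta_resC_eq_zero P h hh ν hν hinj ?_ _)
        rw [← pi_comb, hd]
        exact pi_relS P j o
    have h₁ : comb (tauS E P.generators.I) (V k) (resC (v k) c) =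
        appS (kernel.ι P.generators.π) (V k) (res (kernel P.generators.π) (v k) y) := by
      exact (res_comb (tauS E P.generators.I) (v k) c).symm.trans
        ((congrArg (res (freeOver E P.generators.I) (v k)) hy'.symm).trans (appS_res _ _ _))
    have h₂ : appS (kernel.ι P.generators.π) (V k) (comb P.relations.s (V k) b) = comb (relS P) (V k) b :=
      appS_comb _ _ _ _
    have hc : resC (v k) c = e b := comb_tau_injective (V k)
      (h₁.trans ((congrArg (appS (kernel.ι P.generators.π) (V k)) hb.symm).trans (h₂.trans (he b).symm)))
    exact (tenMap_theta ν (v k) g' c).trans ((congrArg (theta ν (v k ≫ g')) hc).trans (he0 b))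

omit [AddCommGroup N] in
/-- Over affine objects, sections of a presented module are base change. -/
theorem goodAt_of_presentation (P : F.Presentation) {o : Over E} [Aff o.left] {o' : Over E} (g : o' ⟶ o)
    (ha : Aff o'.left) : Function.Bijective (bc F (AddMonoidHom.id (Sect F o)) (fun _ _ => rfl) g) := by
  let N := Submodule.span (Γt o.left) (Set.range fun i => sectAt F P.generators.s i o)
  let ν : P.generators.I → N := fun i => ⟨_, Submodule.subset_span ⟨i, rfl⟩⟩
  have hν : Submodule.span (Γt o.left) (Set.range ν) = ⊤ := by
    refine Submodule.map_injective_of_injective N.injective_subtype ?_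
    rw [Submodule.map_span, Submodule.map_top, Submodule.range_subtype, ← Set.range_comp]
    rfl
  have hN : N = ⊤ := eq_top_iff.2 fun x _ => by
    obtain ⟨y, rfl⟩ := (bc_bijective_of_presentation P N.subtype.toAddMonoidHom (fun _ _ => rfl)
      ν (fun _ => rfl) N.injective_subtype hν (𝟙 o) ‹_›).2 x
    induction y using ten_induction with
    | h0 => rw [map_zero]; exact N.zero_mem
    | ht a n => rw [bc_tmk, res_id]; exact N.smul_mem _ n.2
    | ha p q hp hq => rw [map_add]; exact N.add_mem (hp trivial) (hq trivial)
  exact bc_bijective_of_presentation P (AddMonoidHom.id _) (fun _ _ => rfl)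
    (fun i => sectAt F P.generators.s i o) (fun _ => rfl) (fun _ _ h => h) hN g ha

end Presented

end Groth.Agent.SpQC61
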