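import Groth.Agent.SpQC61.Affine

/-!
Sections of a module on a slice of the small etale site, as modules over rings of functions.
-/

set_option autoImplicit false
set_option linter.style.haveILetI false
set_option backward.isDefEq.respectTransparency false

universe u

open CategoryTheory CategoryTheory.Limits AlgebraicGeometry Opposite
open AlgSp

namespace Groth.Agent.SpQC61

variable {S : Scheme.{u}} {X : Sp S} {E : EtOver X}

/-- Modules on the slice over an object. -/
abbrev ModOver (E : EtOver X) : Type (u + 2) := SheafOfModules.{u + 1} ((OEtRing X).over E)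

/-- Sections over an object of the slice. -/
def Sect (F : ModOver E) (o : Over E) : Type (u + 1) := F.val.obj (op o)

noncomputable instance (F : ModOver E) (o : Over E) : AddCommGroup (Sect F o) :=
  inferInstanceAs (AddCommGroup (F.val.obj (op o)))

noncomputable instance sectModule (F : ModOver E) (o : Over E) : Module (Γt o.left) (Sect F o) :=
  Module.compHom (F.val.obj (op o)) (upΓ o.left : Γt o.left →+* ((OEtRing X).over E).obj.obj (op o))

variable (F : ModOver E)

/-- Restriction of sections. -/
noncomputable def res {o' o : Over E} (g : o' ⟶ o) : Sect F o →+ Sect F o' :=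
  AddMonoidHom.mk' (fun x => (F.val.map g.op x : F.val.obj (op o'))) (fun x y => map_add (F.val.map g.op).hom x y)

theorem res_smul {o' o : Over E} (g : o' ⟶ o) (a : Γt o.left) (x : Sect F o) :
    res F g (a • x) = cmap g.left a • res F g x :=
  F.val.map_smul g.op (upΓ o.left a) x

theorem res_comp {o'' o' o : Over E} (g' : o'' ⟶ o') (g : o' ⟶ o) (x : Sect F o) :
    res F (g' ≫ g) x = res F g' (res F g x) :=
  F.val.map_comp_apply g.op g'.op x

theorem res_id (o : Over E) (x : Sect F o) : res F (𝟙 o) x = x := by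
  show F.val.map (𝟙 (op o)) x = x
  simp

theorem res_congr {o' o : Over E} {g g' : o' ⟶ o} (h : g.left = g'.left) (x : Sect F o) :
    res F g x = res F g' x := by
  rw [Over.OverMorphism.ext h]

/-- The underlying presheaf of sets is a sheaf. -/
theorem isSheaf_sect : Presieve.IsSheaf ((etTop X).over E) (F.val.presheaf ⋙ forget Ab.{u + 1}) :=
  (isSheaf_iff_isSheaf_of_type _ _).1 ((Presheaf.isSheaf_iff_isSheaf_forget _ _ _).1 F.isSheaf)

variable {ι : Type*} {o : Over E} {V : ι → Over E} (g : ∀ k, V k ⟶ o)

theorem generate_mem (hsurj : ∀ x : ↥o.left.obj.left.left, ∃ k, x ∈ Set.range (g k).left.hom.left.left) :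
    Sieve.generate (Presieve.ofArrows V g) ∈ (etTop X).over E o := by
  rw [GrothendieckTopology.mem_over_iff]
  refine SpPts86.mem_etTop_of_forall _ fun v => ?_
  obtain ⟨k, hk⟩ := hsurj v
  refine ⟨(V k).left, (g k).left, (Sieve.overEquiv_iff _ _).2 ?_, hk⟩
  refine ⟨V k, Over.homMk (𝟙 _) ?_, g k, Presieve.ofArrows.mk k, ?_⟩
  · show 𝟙 _ ≫ (V k).hom = (g k).left ≫ o.hom
    rw [Category.id_comp, Over.w]
  · ext
    exact Category.id_comp _

variable (hsurj : ∀ x : ↥o.left.obj.left.left, ∃ k, x ∈ Set.range (g k).left.hom.left.left)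
include hsurj

theorem eq_of_cover {x y : Sect F o} (h : ∀ k, res F (g k) x = res F (g k) y) : x = y := by
  have h1 := (Presieve.isSheafFor_iff_generate _).2 (isSheaf_sect F _ (generate_mem g hsurj))
  refine h1.isSeparatedFor.ext ?_
  rintro _ _ ⟨k⟩
  exact h k

theorem exists_glue (x : ∀ k, Sect F (V k))
    (hx : ∀ k l (Z : Over E) (a : Z ⟶ V k) (b : Z ⟶ V l), a ≫ g k = b ≫ g l → res F a (x k) = res F b (x l)) :
    ∃ y : Sect F o, ∀ k, res F (g k) y = x k := by
  have h1 := (Presieve.isSheafFor_iff_generate _).2 (isSheaf_sect F _ (generate_mem g hsurj))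
  obtain ⟨y, hy, -⟩ := (Presieve.isSheafFor_arrows_iff _ _).1 h1 x fun k l Z a b e => hx k l Z a b e
  exact ⟨y, hy⟩

end Groth.Agent.SpQC61
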