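import Groth.Agent.SpQC61.Sect

/-!
Base changed modules along morphisms of the slice, and their maps to sections.
-/

set_option autoImplicit false
set_option linter.style.haveILetI false
set_option backward.isDefEq.respectTransparency false

universe u v

open CategoryTheory CategoryTheory.Limits AlgebraicGeometry Opposite
open AlgSp

namespace Groth.Agent.SpQC61

variable {S : Scheme.{u}} {X : Sp S} {E : EtOver X}

section PbO

variable {o o₁ o₂ : Over E} (g₁ : o₁ ⟶ o) (g₂ : o₂ ⟶ o)

/-- Fibre product in the slice. -/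
noncomputable def pbO : Over E := Over.mk (EtOver.pullbackFst g₁.left g₂.left ≫ o₁.hom)

/-- First projection. -/
noncomputable def pbFst : pbO g₁ g₂ ⟶ o₁ := Over.homMk (EtOver.pullbackFst g₁.left g₂.left) rfl

/-- Second projection. -/
noncomputable def pbSnd : pbO g₁ g₂ ⟶ o₂ := Over.homMk (EtOver.pullbackSnd g₁.left g₂.left) (by
  show EtOver.pullbackSnd g₁.left g₂.left ≫ o₂.hom = EtOver.pullbackFst g₁.left g₂.left ≫ o₁.hom
  rw [← Over.w g₁, ← Over.w g₂, ← Category.assoc, ← Category.assoc, EtOver.pullback_condition])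

theorem pb_condition : pbFst g₁ g₂ ≫ g₁ = pbSnd g₁ g₂ ≫ g₂ :=
  Over.OverMorphism.ext (EtOver.pullback_condition g₁.left g₂.left)

theorem exists_lift_pb {Z : Over E} (a : Z ⟶ o₁) (b : Z ⟶ o₂) (h : a ≫ g₁ = b ≫ g₂) :
    ∃ l : Z ⟶ pbO g₁ g₂, l ≫ pbFst g₁ g₂ = a ∧ l ≫ pbSnd g₁ g₂ = b := by
  obtain ⟨l, h₁, h₂⟩ := PullbackCone.IsLimit.lift' (EtOver.pullbackIsLimit g₁.left g₂.left) a.left b.left
    (congrArg (fun k : Z ⟶ o => k.left) h)
  refine ⟨Over.homMk l ?_, Over.OverMorphism.ext h₁, Over.OverMorphism.ext h₂⟩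
  show l ≫ EtOver.pullbackFst g₁.left g₂.left ≫ o₁.hom = Z.hom
  rw [← Category.assoc]
  exact (congrArg (· ≫ o₁.hom) h₁).trans (Over.w a)

end PbO

theorem exists_glue_pb (F : ModOver E) {ι : Type*} {o : Over E} {V : ι → Over E} (g : ∀ k, V k ⟶ o)
    (hsurj : ∀ x : ↥o.left.obj.left.left, ∃ k, x ∈ Set.range (g k).left.hom.left.left) (x : ∀ k, Sect F (V k))
    (hx : ∀ k l, res F (pbFst (g k) (g l)) (x k) = res F (pbSnd (g k) (g l)) (x l)) :
    ∃ y : Sect F o, ∀ k, res F (g k) y = x k :=
  exists_glue F g hsurj x fun k l Z a b e => by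
    obtain ⟨c, rfl, rfl⟩ := exists_lift_pb (g k) (g l) a b e
    rw [res_comp, res_comp, hx]

variable {o : Over E} (N : Type v) [AddCommGroup N] [Module (Γt o.left) N]

/-- The base change of a module along a morphism of the slice. -/
abbrev Ten {o' : Over E} (g : o' ⟶ o) : Type (max u v) :=
  letI := (cmap g.left).toAlgebra
  TensorProduct (Γt o.left) (Γt o'.left) N

noncomputable instance {o' : Over E} (g : o' ⟶ o) : AddCommGroup (Ten N g) :=
  letI := (cmap g.left).toAlgebra
  inferInstance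

variable {N}

/-- Pure elements. -/
noncomputable def tmk {o' : Over E} (g : o' ⟶ o) (a : Γt o'.left) (n : N) : Ten N g :=
  letI := (cmap g.left).toAlgebra
  TensorProduct.tmul (Γt o.left) a n

@[elab_as_elim]
theorem ten_induction {o' : Over E} {g : o' ⟶ o} {p : Ten N g → Prop} (x : Ten N g) (h0 : p 0)
    (ht : ∀ a n, p (tmk g a n)) (ha : ∀ x y, p x → p y → p (x + y)) : p x :=
  letI := (cmap g.left).toAlgebra
  TensorProduct.induction_on x h0 ht ha

/-- Further base change. -/
noncomputable def tenMap {o'' o' : Over E} (v : o'' ⟶ o') {g : o' ⟶ o} {g'' : o'' ⟶ o} (e : v ≫ g = g'') :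
    Ten N g →+ Ten N g'' :=
  letI := (cmap g.left).toAlgebra
  letI := (cmap g''.left).toAlgebra
  TensorProduct.liftAddHom
    (AddMonoidHom.mk' (fun a => AddMonoidHom.mk' (fun n => tmk g'' (cmap v.left a) n)
        fun x y => TensorProduct.tmul_add _ x y)
      fun a b => AddMonoidHom.ext fun n => by
        show tmk g'' (cmap v.left (a + b)) n = tmk g'' (cmap v.left a) n + tmk g'' (cmap v.left b) n
        rw [map_add]
        exact TensorProduct.add_tmul _ _ n)
    fun c a n => by
      show tmk g'' (cmap v.left (cmap g.left c * a)) n = tmk g'' (cmap v.left a) (c • n)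
      rw [map_mul]
      have : cmap v.left (cmap g.left c) = cmap g''.left c := by
        rw [← e]
        exact (RingHom.congr_fun (cmap_comp v.left g.left) c).symm
      rw [this]
      exact TensorProduct.smul_tmul c (cmap v.left a) n

theorem tenMap_tmk {o'' o' : Over E} (v : o'' ⟶ o') {g : o' ⟶ o} {g'' : o'' ⟶ o} (e : v ≫ g = g'')
    (a : Γt o'.left) (n : N) : tenMap v e (tmk g a n) = tmk g'' (cmap v.left a) n :=
  rfl

variable (F : ModOver E) (h : N →+ Sect F o) (hh : ∀ (a : Γt o.left) (n : N), h (a • n) = a • h n)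

/-- The map to sections. -/
noncomputable def bc {o' : Over E} (g : o' ⟶ o) : Ten N g →+ Sect F o' :=
  letI := (cmap g.left).toAlgebra
  bcMap ((res F g).comp h) fun a n => by
    show res F g (h (a • n)) = cmap g.left a • res F g (h n)
    rw [hh, res_smul]

theorem bc_tmk {o' : Over E} (g : o' ⟶ o) (a : Γt o'.left) (n : N) :
    bc F h hh g (tmk g a n) = a • res F g (h n) :=
  rfl

theorem bc_tenMap {o'' o' : Over E} (v : o'' ⟶ o') {g : o' ⟶ o} {g'' : o'' ⟶ o} (e : v ≫ g = g'')
    (x : Ten N g) : bc F h hh g'' (tenMap v e x) = res F v (bc F h hh g x) := by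
  induction x using ten_induction with
  | h0 => rw [map_zero, map_zero, map_zero, map_zero]
  | ht a n => rw [tenMap_tmk, bc_tmk, bc_tmk, res_smul, ← res_comp, e]
  | ha x y hx hy => rw [map_add, map_add, map_add, map_add, hx, hy]

theorem mem_range_bc_of_mem_span {o' : Over E} (g : o' ⟶ o) {s : Sect F o'}
    (hs : s ∈ Submodule.span (Γt o'.left) (Set.range fun n => res F g (h n))) : ∃ y, bc F h hh g y = s := by
  letI := (cmap g.left).toAlgebra
  induction hs using Submodule.span_induction with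
  | mem z hz => obtain ⟨n, rfl⟩ := hz; exact ⟨tmk g 1 n, (bc_tmk F h hh g 1 n).trans (one_smul _ _)⟩
  | zero => exact ⟨0, map_zero _⟩
  | add a b _ _ ha hb =>
    obtain ⟨x, rfl⟩ := ha
    obtain ⟨y, rfl⟩ := hb
    exact ⟨x + y, map_add _ _ _⟩
  | smul a b _ hb =>
    obtain ⟨x, rfl⟩ := hb
    exact ⟨a • x, bcMap_smul _ _ a x⟩

end Groth.Agent.SpQC61
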